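import Cfsg.Agent.H56.FSKit
import Cfsg.Agent.H3.Fitting

/-! Project FS3, piece SH: the shape of solvable subgroups generated by points. -/

set_option autoImplicit false

namespace Cfsg.Agent.H3.FsSh

open Subgroup Cfsg.Agent.H56.FS

universe u

/-- the part of the pair conditions that passes to sections -/
structure Q {G : Type*} [Group G] (p r : ℕ) (E : Set (Subgroup G)) : Prop where
  card : ∀ A ∈ E, Nat.card A ∣ p
  inv : ∀ A ∈ E, ∀ g : G, cj g A ∈ E
  ppg : ∀ A ∈ E, ∀ B ∈ E, IsPGroup r ↥⁅A ⊔ B, A ⊔ B⁆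
  psup : ∀ A ∈ E, ∀ B ∈ E, B ≤ ⁅A ⊔ B, A ⊔ B⁆ ⊔ A
  gen : sSup E = ⊤

variable {G : Type*} [Group G] {p r : ℕ} {E : Set (Subgroup G)}

theorem Q.map (h : Q p r E) {H : Type*} [Group H] (f : G →* H) (hf : Function.Surjective f) :
    Q p r (Subgroup.map f '' E) where
  card := by
    rintro _ ⟨A, hA, rfl⟩
    exact (card_map_dvd A f).trans (h.card A hA)
  inv := by
    rintro _ ⟨A, hA, rfl⟩ g
    obtain ⟨g, rfl⟩ := hf g
    refine ⟨_, h.inv A hA g, ?_⟩
    rw [cj, cj, map_map, map_map]
    congr 1
    ext; simp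
  ppg := by
    rintro _ ⟨A, hA, rfl⟩ _ ⟨B, hB, rfl⟩
    rw [← Subgroup.map_sup, ← map_commutator]
    exact (h.ppg A hA B hB).map f
  psup := by
    rintro _ ⟨A, hA, rfl⟩ _ ⟨B, hB, rfl⟩
    rw [← Subgroup.map_sup, ← map_commutator, ← Subgroup.map_sup]
    exact map_mono (h.psup A hA B hB)
  gen := by
    rw [sSup_image, ← Subgroup.map_top_of_surjective f hf, ← h.gen, sSup_eq_iSup]
    simp only [Subgroup.map_iSup]

theorem Q.comm [Finite G] [Group.IsSolvable G] (h : Q p r E) (hp : p.Prime) (hr : r.Prime)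
    (rp : r ≠ p) (h0 : pCore r G = ⊥) : commutator G = ⊥ := by
  have := Fact.mk hr
  have := fitting_normal G
  have c1 : ¬ r ∣ Nat.card (fittingSubgroup G) := by
    have := not_dvd_relIndex_pCore_fitting (G := G) (p := r)
    rwa [h0, relIndex_bot_left] at this
  have key : ∀ A ∈ E, ∀ B ∈ E, B ≤ A ⊔ fittingSubgroup G → ⁅A ⊔ B, A ⊔ B⁆ = ⊥ := fun A hA B hB e => by
    obtain ⟨k, hk⟩ := (h.ppg A hA B hB).exists_card_eq
    have k1 := ((card_dvd_of_le ((commutator_le_sup _ _).trans
      (sup_le (sup_le le_sup_left e) (sup_le le_sup_left e)))).trans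
      (card_sup_dvd A _)).trans (Nat.mul_dvd_mul_right (h.card A hA) _)
    rw [hk] at k1
    rcases k with _ | k
    · exact card_eq_one.1 hk
    · rcases hr.dvd_mul.1 ((dvd_pow_self r k.succ_ne_zero).trans k1) with k2 | k2
      · exact absurd ((Nat.prime_dvd_prime_iff_eq hr hp).1 k2) rp
      · exact absurd k2 c1
  have hF : ∀ A ∈ E, A ≤ fittingSubgroup G := fun A hA => by
    rcases (Nat.dvd_prime hp).1 ((card_dvd_of_le (inf_le_left (a := A)
      (b := fittingSubgroup G))).trans (h.card A hA)) with k | k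
    · refine fun a ha => centralizer_fitting_le G fun x hx => ?_
      have k1 := h.psup A hA _ (h.inv A hA x)
      rw [key A hA _ (h.inv A hA x) (cj_le_of_mem (mem_sup_right hx) le_sup_left), bot_sup_eq] at k1
      have k2 : x * a * x⁻¹ * a⁻¹ ∈ A ⊓ fittingSubgroup G :=
        ⟨A.mul_mem (k1 (conj_mem_cj ha)) (A.inv_mem ha), by
          rw [mul_assoc, mul_assoc, ← mul_assoc a]
          exact mul_mem hx (Normal.conj_mem inferInstance _ (inv_mem hx) a)⟩
      rw [card_eq_one.1 k, mem_bot, mul_inv_eq_one, mul_inv_eq_iff_eq_mul] at k2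
      exact k2
    · exact inf_eq_left.1 (eq_of_le_of_card_ge inf_le_left
        (k ▸ Nat.le_of_dvd hp.pos (h.card A hA)))
  have k1 : ∀ A ∈ E, A ≤ centralizer ((⊤ : Subgroup G) : Set G) := fun A hA => by
    rw [le_centralizer_iff, ← h.gen]
    refine sSup_le fun B hB => commutator_eq_bot_iff_le_centralizer.1 (eq_bot_iff.2 ?_)
    rw [← key A hA B hB ((hF B hB).trans le_sup_right)]
    exact commutator_mono le_sup_right le_sup_left
  rw [_root_.commutator_def, commutator_eq_bot_iff_le_centralizer]
  nth_rw 1 [← h.gen]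
  exact sSup_le k1

theorem sh : ShStmt.{u} := by
  intro G _ _ p r D h
  refine ⟨fun X hX => ?_, fun X _ A hA hAX => le_antisymm (LL_le_of fun B hB hBX => ?_)
    (sup_le (RR_le X) (le_LL hA hAX))⟩
  swap
  · have := sup_le (le_LL hA hAX) (le_LL hB hBX)
    exact le_sup_right.trans ((h.psup A hA B hB).le.trans
      (sup_le_sup_right (commutator_mono this this) _))
  have := Fact.mk h.pr
  have inj := (LL D X).subtype_injective
  have q : Q p r {B : Subgroup (LL D X) | B.map (LL D X).subtype ∈ D} :=
    { card := fun A hA => by rw [← card_map_subtype, h.card _ hA]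
      inv := fun A hA g => by
        have := h.inv _ hA g
        rw [cj, map_map] at this
        rwa [Set.mem_ofPred_eq, cj, map_map]
      ppg := fun A hA B hB => by
        have := h.ppg _ hA _ hB
        rw [← Subgroup.map_sup, ← map_commutator] at this
        exact this.of_equiv (equivMapOfInjective _ _ inj).symm
      psup := fun A hA B hB => by
        have := le_sup_right.trans (h.psup _ hA _ hB).le
        rwa [← Subgroup.map_sup, ← map_commutator, ← Subgroup.map_sup,
          map_le_map_iff_of_injective inj] at this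
      gen := eq_top_iff.2 ((map_le_map_iff_of_injective inj).1 (by
        rw [← MonoidHom.range_eq_map, range_subtype]
        refine LL_le_of fun B hB hBX => ?_
        rw [← map_subgroupOf_eq_of_le (le_LL hB hBX)]
        exact map_mono (le_sSup (by
          rwa [Set.mem_ofPred_eq, map_subgroupOf_eq_of_le (le_LL hB hBX)])))) }
  have k := (q.map (QuotientGroup.mk' (pCore r (LL D X))) (QuotientGroup.mk'_surjective _)).comm
    h.pp h.pr h.rp (pCore_quotient_pCore r _)
  rw [_root_.commutator_def, ← Subgroup.map_top_of_surjective _ (QuotientGroup.mk'_surjective _),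
    ← map_commutator, Subgroup.map_eq_bot_iff, QuotientGroup.ker_mk'] at k
  have k2 := ((pCore_isPGroup r _).to_le k).map (LL D X).subtype
  rwa [map_commutator, ← MonoidHom.range_eq_map, range_subtype] at k2

end Cfsg.Agent.H3.FsSh
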