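import Cfsg.Agent.Lead.T3Defs

/-! Buildings: local to global, and rigidity. -/

set_option autoImplicit false

namespace Cfsg.Agent.H3.T3Ba3

open Cfsg.Agent.H35 Cfsg.Agent.Lead.T3

universe u

variable {I W : Type} [Group W] {X : Cox I W} {C C' : Type u}

theorem s_mem {K : Set I} {i : I} (hi : i ∈ K) : X.s i ∈ X.WJ K :=
  Subgroup.subset_closure ⟨i, hi, rfl⟩

/-- At most one chamber of a panel is nearer to `p`. -/
theorem pan_uniq (B : Bld X C) {c q q' p : C} {k : I} {w : W} (h : B.δ c q = X.s k)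
    (h' : B.δ c q' = X.s k) (e : B.δ q p = w) (e' : B.δ q' p = w)
    (hl : X.len w ≤ X.len (X.s k * w)) : q = q' := by
  have h1 : B.δ q c = X.s k := by rw [B.symm, h, InvGen.inv_s]
  rcases B.step k q c q' h1 with h2 | h2
  · rw [h', X.s_mul_s] at h2
    exact (B.eq_one _ _).1 h2
  · rw [h'] at h2
    have h3 := B.step_up k q q' p h2 (by rwa [e'])
    rw [e, e'] at h3
    exact absurd (by simpa using h3.symm) (X.exch.s_ne_one k)

theorem adj_mem (B : Bld X C) {K : Set I} {c x y : C} {i : I} (hx : x ∈ B.res K c) (hi : i ∈ K)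
    (h : B.δ x y = X.s i) : y ∈ B.res K c := by
  have h1 : B.δ y x = X.s i := by rw [B.symm, h, InvGen.inv_s]
  have h2 : B.δ x c ∈ X.WJ K := by rw [B.symm]; exact inv_mem hx
  change B.δ c y ∈ X.WJ K
  rw [B.symm, inv_mem_iff]
  rcases B.step i y x c h1 with e | e <;> rw [e]
  exacts [mul_mem (s_mem hi) h2, h2]

variable [Finite W]

section

variable (cx : CxStmt) {B : Bld X C} {B' : Bld X C'}
  (bt : ∀ x z w w', B.δ x z = w * w' → ∃ y, B.δ x y = w ∧ B.δ y z = w')
  {K : Set I} {c : C} {f f' : C → C'} (hf : B.Iso B' f (B.res K c)) (hf' : B.Iso B' f' (B.res K c))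

include cx

theorem wK_inv (K : Set I) : (X.wJ K)⁻¹ = X.wJ K := inv_eq_of_mul_eq_one_right ((cx X).1 K)

theorem short {k : I} (hk : k ∈ K) :
    X.len (X.s k * X.wJ K) ≤ X.len (X.s k * (X.s k * X.wJ K)) := by
  have := ((cx X).2.1 K _ (s_mem hk)).2
  rw [← mul_assoc, X.s_mul_s, one_mul]
  omega

include bt hf hf'

theorem stepA {x y : C} (hx : x ∈ B.res K c) (hy : y ∈ B.res K c) (h : B.δ x y = X.wJ K)
    (ex : f x = f' x) (ey : f y = f' y) (px : ∀ i ∈ K, ∀ z ∈ B.pan x i, f z = f' z) :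
    ∀ i ∈ K, ∀ z ∈ B.pan y i, f z = f' z := by
  intro k hk z hz
  have hz' : B.δ y z = X.s k := hz
  have zR := adj_mem B hy hk hz'
  obtain ⟨o1, o2, -⟩ := (cx X).2.2.1 K k hk
  obtain ⟨p, pR, ep, hp⟩ : ∃ p ∈ B.res K c, f p = f' p ∧ B.δ z p = X.s k * X.wJ K := by
    have h1 : B.δ y x = X.wJ K := by rw [B.symm, h, wK_inv cx]
    rcases B.step k z y x (by rw [B.symm, hz', InvGen.inv_s]) with e | e <;> rw [h1] at e
    · exact ⟨x, hx, ex, e⟩
    · obtain ⟨p, p1, p2⟩ := bt x z (X.s (X.op K k)) (X.wJ K * X.s k) (by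
        rw [B.symm, e, wK_inv cx, o2, ← mul_assoc, X.s_mul_s, one_mul])
      exact ⟨p, adj_mem B hx o1 p1, px _ o1 p p1, by
        rw [B.symm, p2, mul_inv_rev, InvGen.inv_s, wK_inv cx]⟩
  exact pan_uniq B' (c := f y) (p := f p) (k := k) (w := X.s k * X.wJ K)
    (by rw [hf y hy z zR, hz']) (by rw [ey, hf' y hy z zR, hz'])
    (by rw [hf z zR p pR, hp]) (by rw [ep, hf' z zR p pR, hp]) (short cx hk)

theorem stepB {x y x1 : C} {i : I} (hx : x ∈ B.res K c) (hy : y ∈ B.res K c)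
    (h : B.δ x y = X.wJ K) (ex : f x = f' x) (ey : f y = f' y)
    (px : ∀ i ∈ K, ∀ z ∈ B.pan x i, f z = f' z) (hi : i ∈ K) (h1 : B.δ x x1 = X.s i) :
    (∀ i ∈ K, ∀ z ∈ B.pan x1 i, f z = f' z) ∧
      ∃ y1 ∈ B.res K c, B.δ x1 y1 = X.wJ K ∧ f y1 = f' y1 := by
  have x1R := adj_mem B hx hi h1
  have e1 := px i hi x1 h1
  have py := stepA cx bt hf hf' hx hy h ex ey px
  have sy : ∀ {a b : C}, B.δ a b = X.wJ K → B.δ b a = X.wJ K := fun e => by
    rw [B.symm, e, wK_inv cx]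
  rcases B.step i x1 x y (by rw [B.symm, h1, InvGen.inv_s]) with e | e <;> rw [h] at e
  swap
  · exact ⟨stepA cx bt hf hf' hy x1R (sy e) ey e1 py, y, hy, e, ey⟩
  obtain ⟨o1, o2, -⟩ := (cx X).2.2.1 K i hi
  set k := X.op K i
  have e2 : B.δ y x1 = X.s k * X.wJ K := by
    rw [B.symm, e, mul_inv_rev, InvGen.inv_s, wK_inv cx, o2]
  obtain ⟨y1, q1, q2⟩ : ∃ y1, B.δ y y1 = X.s k ∧ B.δ y1 x = X.wJ K := by
    obtain ⟨a, b, ab, ha, hb⟩ := B.thick k y
    rcases B.step k a y x (by rw [B.symm, ha, InvGen.inv_s]) with ea | ea <;> rw [sy h] at ea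
    swap
    · exact ⟨a, ha, ea⟩
    rcases B.step k b y x (by rw [B.symm, hb, InvGen.inv_s]) with eb | eb <;> rw [sy h] at eb
    swap
    · exact ⟨b, hb, eb⟩
    exact absurd (pan_uniq B ha hb ea eb (short cx o1)) ab
  have y1R := adj_mem B hy o1 q1
  have ey1 := py k o1 y1 q1
  have e3 : B.δ y1 x1 = X.wJ K := by
    rw [B.step_up k y1 y x1 (by rw [B.symm, q1, InvGen.inv_s]) (by rw [e2]; exact short cx o1), e2,
      ← mul_assoc, X.s_mul_s, one_mul]
  exact ⟨stepA cx bt hf hf' y1R x1R e3 ey1 e1 (stepA cx bt hf hf' hx y1R (sy q2) ex ey1 px),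
    y1, y1R, sy e3, ey1⟩

end

theorem ba3Stmt (cx : CxStmt) (ba1 : Ba1Stmt.{u}) : Ba3Stmt.{u} := by
  intro I W _ _ X C C' _ _ B B'
  have bt := (ba1 B).2.1
  have bt' := (ba1 B').2.1
  have rs := (ba1 B).2.2.2.2.1
  refine ⟨fun K c f hf => ?_, fun K c d f f' hf hf' hd ec ed pc => ?_⟩
  · have iso : B.Iso B' f (B.res K c) := by
      have key : ∀ l : List I, (∀ i ∈ l, i ∈ K) → X.IsRed l → ∀ x ∈ B.res K c, ∀ y,
          B.δ x y = X.wp l → B'.δ (f x) (f y) = X.wp l := by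
        intro l
        induction l with
        | nil =>
          intro _ _ x _ y h
          rw [InvGen.wp_nil] at h ⊢
          rw [(B.eq_one _ _).1 h, B'.eq_one]
        | cons i l ih =>
          intro hl hr x hx y h
          rw [InvGen.wp_cons] at h ⊢
          obtain ⟨x1, h1, h2⟩ := bt x y _ _ h
          have hi := hl i List.mem_cons_self
          have h3 := ih (fun j hj => hl j (List.mem_cons_of_mem _ hj)) hr.tail x1
            (adj_mem B hx hi h1) y h2
          rw [B'.step_up i _ _ _ (hf x hx i hi x1 h1) (by rw [h3, hr.len_cons]; omega), h3]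
      intro x hx y hy
      have hxy : y ∈ B.res K x := by rw [rs K c x hx]; exact hy
      obtain ⟨l, hl, hr, e⟩ := X.exch.exists_isRed_of_mem_closure hxy
      rw [key l hl hr x hx y e.symm, e]
    refine ⟨iso, fun hs => ⟨iso, fun y hy => ?_⟩⟩
    have key : ∀ l : List I, (∀ i ∈ l, i ∈ K) → ∀ x ∈ B.res K c,
        B'.δ (f x) y = X.wp l → y ∈ f '' B.res K c := by
      intro l
      induction l with
      | nil =>
        intro _ x hx h
        rw [InvGen.wp_nil] at h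
        exact ⟨x, hx, (B'.eq_one _ _).1 h⟩
      | cons i l ih =>
        intro hl x hx h
        rw [InvGen.wp_cons] at h
        obtain ⟨x1, h1, h2⟩ := bt' _ y _ _ h
        have hi := hl i List.mem_cons_self
        obtain ⟨x2, h3, rfl⟩ := hs x hx i hi h1
        exact ih (fun j hj => hl j (List.mem_cons_of_mem _ hj)) x2 (adj_mem B hx hi h3) h2
    obtain ⟨l, hl, e⟩ := X.mem_closure_iff.1 hy
    exact key l hl c ((ba1 B).2.2.2.1 K c) e.symm
  · have key : ∀ l : List I, (∀ i ∈ l, i ∈ K) → ∀ x ∈ B.res K c, f x = f' x →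
        (∀ i ∈ K, ∀ z ∈ B.pan x i, f z = f' z) →
        (∃ y ∈ B.res K c, B.δ x y = X.wJ K ∧ f y = f' y) → ∀ z, B.δ x z = X.wp l → f z = f' z := by
      intro l
      induction l with
      | nil =>
        intro _ x _ ex _ _ z h
        rw [InvGen.wp_nil] at h
        rwa [← (B.eq_one _ _).1 h]
      | cons i l ih =>
        rintro hl x hx ex px ⟨y, hy, h, ey⟩ z hz
        rw [InvGen.wp_cons] at hz
        obtain ⟨x1, h1, h2⟩ := bt x z _ _ hz
        have hi := hl i List.mem_cons_self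
        obtain ⟨a, b⟩ := stepB cx bt hf hf' hx hy h ex ey px hi h1
        exact ih (fun j hj => hl j (List.mem_cons_of_mem _ hj)) x1 (adj_mem B hx hi h1)
          (px i hi x1 h1) a b z h2
    intro z hz
    obtain ⟨l, hl, e⟩ := X.mem_closure_iff.1 hz
    refine key l hl c ((ba1 B).2.2.2.1 K c) ec pc ⟨d, ?_, hd, ed⟩ z e.symm
    change B.δ c d ∈ X.WJ K
    rw [hd]
    exact (X.wJ_spec K).1

end Cfsg.Agent.H3.T3Ba3
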