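import Cfsg.Agent.H7.T3Cx
import Cfsg.Agent.H77.T3Rt

/-! Steinberg parametrisations of the root groups of a plane inside a Moufang residue, and the
action of the torus elements. -/

set_option autoImplicit false

namespace Cfsg.Agent.H3.T3Stp

open Cfsg.Agent.H35 Cfsg.Agent.Lead.T3 Equiv Cfsg.Agent.H7.T3Cx Cfsg.Agent.H77.T3Rt

universe u

section Sth

variable {F : Type} {Γ : Type u} [Field F] [Group Γ]

theorem add_zero' {p : F → Γ} (hp : ∀ s t, p (s + t) = p s * p t) : p 0 = 1 := by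
  have := hp 0 0
  rw [add_zero] at this
  exact left_eq_mul.1 this

theorem add_neg' {p : F → Γ} (hp : ∀ s t, p (s + t) = p s * p t) (s : F) : p (-s) = (p s)⁻¹ := by
  rw [eq_inv_iff_mul_eq_one, ← hp, neg_add_cancel, add_zero' hp]

theorem tor_act {p q A B : F → Γ} {ε : F} (he : ε * ε = 1) (hp : ∀ s t, p (s + t) = p s * p t)
    (hq : ∀ s t, q (s + t) = q s * q t) (c : ∀ s t, p s * q t = q t * p s)
    (a1 : ∀ s u, A s * p u = p u * A s) (a2 : ∀ s v, A s * q v * (A s)⁻¹ = p (ε * s * v) * q v)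
    (b1 : ∀ s v, B s * q v = q v * B s) (b2 : ∀ s u, B s * p u * (B s)⁻¹ = q (ε * s * u) * p u)
    {t : F} (ht : t ≠ 0) {h : Γ}
    (hh : h = A t * B (-t⁻¹) * A t * (A 1 * B (-1⁻¹) * A 1)⁻¹) (s : F) :
    h * p s * h⁻¹ = p (t * s) ∧ h * q s * h⁻¹ = q (t⁻¹ * s) := by
  have eA : ∀ s u v, A s * (p u * q v) * (A s)⁻¹ = p (u + ε * s * v) * q v := fun s u v => by
    rw [hp, mul_assoc (p u), ← a2, ← mul_assoc (A s), a1]; group
  have eB : ∀ s u v, B s * (p u * q v) * (B s)⁻¹ = p u * q (v + ε * s * u) := fun s u v => by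
    rw [c u v, ← mul_assoc (B s), b1, c, hq, mul_assoc (q v) (q _), ← b2]; group
  have eN : ∀ t, t ≠ 0 → ∀ u v, (A t * B (-t⁻¹) * A t) * (p u * q v) * (A t * B (-t⁻¹) * A t)⁻¹ =
      p (ε * t * v) * q (-(ε * t⁻¹ * u)) := fun t ht u v => by
    calc _ = A t * (B (-t⁻¹) * (A t * (p u * q v) * (A t)⁻¹) * (B (-t⁻¹))⁻¹) * (A t)⁻¹ := by group
      _ = _ := by
        rw [eA, eB, eA]
        congr 2
        · field_simp
          linear_combination (-u - ε * t * v) * he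
        · field_simp
          linear_combination (-t * v) * he
  have eH : ∀ u v, h * (p u * q v) * h⁻¹ = p (t * u) * q (t⁻¹ * v) := fun u v => by
    have h1 := eN 1 one_ne_zero (-(ε * v)) (ε * u)
    rw [show ε * 1 * (ε * u) = u by linear_combination u * he,
      show -(ε * 1⁻¹ * -(ε * v)) = v by rw [inv_one]; linear_combination v * he] at h1
    rw [hh, ← h1]
    calc _ = (A t * B (-t⁻¹) * A t) * (p (-(ε * v)) * q (ε * u)) * (A t * B (-t⁻¹) * A t)⁻¹ := by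
          group
      _ = _ := by
        rw [eN t ht]
        congr 2
        · linear_combination t * u * he
        · linear_combination t⁻¹ * v * he
  constructor
  · simpa [add_zero' hq] using eH s 0
  · simpa [add_zero' hp] using eH 0 s

theorem sthStmt : SthStmt.{u} := by
  intro F Γ _ _ x hx a b c ab bc ac t ht
  have k1 := tor_act (p := x a c) (q := x b c) (A := x a b) (B := x b a) (ε := 1) (one_mul 1)
    (hx.add a c ac) (hx.add b c bc) (hx.cm2 a b c ab bc ac) (hx.cm1 a b c ab bc ac)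
    (fun s v => by rw [one_mul, ← hx.com a b c ab bc ac]; group)
    (hx.cm1 b a c ab.symm ac bc)
    (fun s v => by rw [one_mul, ← hx.com b a c ab.symm ac bc]; group) ht
    (h := hh x a b t) rfl
  have k2 := tor_act (p := x c b) (q := x c a) (A := x a b) (B := x b a) (ε := -1) (by simp)
    (hx.add c b bc.symm) (hx.add c a ac.symm) (hx.cm1 c b a bc.symm ab.symm ac.symm)
    (hx.cm2 a c b ac bc.symm ab)
    (fun s v => by
      rw [show -1 * s * v = -(v * s) by ring, add_neg' (hx.add c b bc.symm),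
        ← hx.com c a b ac.symm ab bc.symm]
      have h1 := hx.com c a b ac.symm ab bc.symm (-v) s
      have h2 := hx.cm1 c b a bc.symm ab.symm ac.symm (-v * s) v
      rw [add_neg' (hx.add c a ac.symm)] at h1
      have h3 := add_neg' (hx.add c b bc.symm) (v * s)
      rw [hx.com c a b ac.symm ab bc.symm, ← h3, ← neg_mul, h2, ← h1]
      group)
    (hx.cm2 b c a bc ac.symm ab.symm)
    (fun s v => by
      rw [show -1 * s * v = -(v * s) by ring]
      have h1 := hx.com c b a bc.symm ab.symm ac.symm (-v) s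
      have h2 := hx.cm1 c a b ac.symm ab bc.symm (-v * s) v
      rw [add_neg' (hx.add c b bc.symm)] at h1
      rw [← neg_mul, h2, ← h1]
      group) ht
    (h := hh x a b t) rfl
  have k3 : ∀ (d e : Fin 3), (∀ s, hh x a b t * x d e s * (hh x a b t)⁻¹ = x d e (t * s)) →
      (∀ s, hh x a b t * x e d s * (hh x a b t)⁻¹ = x e d (t⁻¹ * s)) → ∀ r,
      hh x a b t * hh x d e r * (hh x a b t)⁻¹ = hh x d e (t * r) * (hh x d e t)⁻¹ := by
    intro d e h1 h2 r
    generalize hh x a b t = h at h1 h2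
    have n1 : ∀ r, h * nn x d e r * h⁻¹ = nn x d e (t * r) := fun r => by
      rw [nn, nn, ← h1, show -(t * r)⁻¹ = t⁻¹ * -r⁻¹ by rw [mul_inv]; ring, ← h2]
      group
    have n2 := n1 1
    rw [mul_one] at n2
    rw [hh, hh, hh, ← n1, ← n2]
    group
  exact fun s => ⟨(k1 s).1, (k2 s).2, (k1 s).2, (k2 s).1, fun r _ =>
    ⟨k3 a c (fun s => (k1 s).1) (fun s => (k2 s).2) r,
      k3 c b (fun s => (k2 s).1) (fun s => (k1 s).2) r⟩⟩

end Sth

section Roots

variable {I W : Type} [Group W] (X : Cox I W) {i j : I}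

theorem braid (h : X.m i j = 3) : X.s i * X.s j * X.s i = X.s j * X.s i * X.s j := by
  have := wp_altw_m X i j
  rw [h] at this
  simpa [InvGen.altw, mul_assoc] using this

theorem rt_swap (h : X.m i j = 3) (v : W) : X.rt (v * X.s j) i = X.rt (v * X.s i) j := by
  refine rt4 X _ _ _ _ ?_ ?_
  · simp only [Cox.rf, mul_inv_rev, X.inv_s]
    calc _ = v * (X.s i * X.s j * X.s i) * v⁻¹ := by group
      _ = _ := by rw [braid X h]; group
  · have h2 := len_altw X (i := i) (j := j) (n := 2) (by omega)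
    have h3 := len_altw X (i := j) (j := i) (n := 3) (by rw [m_symm]; omega)
    simp only [InvGen.altw, InvGen.wp_cons, InvGen.wp_nil, mul_one] at h2 h3
    rw [mem_rt, mul_inv_rev, X.inv_s, mul_assoc, inv_mul_cancel_left, h2, h3]
    omega

theorem rt_opp {v v' : W} {k k' : I} (h : X.rt v k = X.rt v' k') :
    X.rt (v * X.s k) k = X.rt (v' * X.s k') k' := by
  ext w
  rw [rt2, rt2, h]

/-- The root `e_a - e_b`. -/
def ro (i j : I) (a b : Fin 3) : Set W := X.rt (prt X i j a b).1 (prt X i j a b).2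

theorem prt_mem (a b : Fin 3) :
    (prt X i j a b).1 ∈ X.WJ {i, j} ∧ (prt X i j a b).2 ∈ ({i, j} : Set I) := by
  have hi : i ∈ ({i, j} : Set I) := Or.inl rfl
  have hj : j ∈ ({i, j} : Set I) := Or.inr rfl
  have si := s_mem X hi
  have sj := s_mem X hj
  fin_cases a <;> fin_cases b
  exacts [⟨one_mem _, hi⟩, ⟨one_mem _, hi⟩, ⟨si, hj⟩, ⟨si, hi⟩, ⟨one_mem _, hi⟩, ⟨one_mem _, hj⟩,
    ⟨mul_mem si sj, hj⟩, ⟨sj, hj⟩, ⟨one_mem _, hi⟩]

theorem prt_swap {a b : Fin 3} (h : a ≠ b) :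
    prt X i j a b = ((prt X i j b a).1 * X.s (prt X i j b a).2, (prt X i j b a).2) := by
  fin_cases a <;> fin_cases b <;> first | exact absurd rfl h | simp [prt, mul_assoc, X.s_mul_s]

theorem window (h : X.m i j = 3) {a b c : Fin 3} (ab : a ≠ b) (bc : b ≠ c) (ac : a ≠ c) :
    ∃ v ∈ X.WJ {i, j}, ro X i j a b = X.rt v i ∧ ro X i j b c = X.rt v j ∧
      ro X i j a c = X.rt (v * X.s i) j := by
  have si := s_mem X (show i ∈ ({i, j} : Set I) from Or.inl rfl)
  have sj := s_mem X (show j ∈ ({i, j} : Set I) from Or.inr rfl)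
  have r01 : ro X i j 0 1 = X.rt 1 i := rfl
  have r02 : ro X i j 0 2 = X.rt (X.s i) j := rfl
  have r10 : ro X i j 1 0 = X.rt (X.s i) i := rfl
  have r12 : ro X i j 1 2 = X.rt 1 j := rfl
  have r20 : ro X i j 2 0 = X.rt (X.s i * X.s j) j := rfl
  have r21 : ro X i j 2 1 = X.rt (X.s j) j := rfl
  have e1 := rt_swap X h 1
  have e2 := rt_swap X h (X.s i)
  have e3 := rt_swap X h (X.s j)
  have e4 := rt_swap X h (X.s i * X.s j)
  have e5 := rt_opp X e1
  have e6 := rt_opp X e2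
  simp only [one_mul, mul_assoc, X.s_mul_s, mul_one] at e1 e2 e3 e4 e5 e6
  have key : ∀ a b c : Fin 3, a ≠ b → b ≠ c → a ≠ c → (a = 0 ∧ b = 1 ∧ c = 2) ∨
      (a = 1 ∧ b = 0 ∧ c = 2) ∨ (a = 0 ∧ b = 2 ∧ c = 1) ∨ (a = 2 ∧ b = 0 ∧ c = 1) ∨
      (a = 1 ∧ b = 2 ∧ c = 0) ∨ (a = 2 ∧ b = 1 ∧ c = 0) := by decide
  rcases key a b c ab bc ac with ⟨rfl, rfl, rfl⟩ | ⟨rfl, rfl, rfl⟩ | ⟨rfl, rfl, rfl⟩ |
    ⟨rfl, rfl, rfl⟩ | ⟨rfl, rfl, rfl⟩ | ⟨rfl, rfl, rfl⟩
  · exact ⟨1, one_mem _, r01, r12, by rw [r02, one_mul]⟩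
  · exact ⟨X.s i, si, r10, r02, by rw [r12, X.s_mul_s]⟩
  · exact ⟨X.s j, sj, by rw [r02, e1], r21, by rw [r01, e3]⟩
  · exact ⟨X.s j * X.s i, mul_mem sj si, by rw [r20, e5], by rw [r01, e3],
      by rw [r21, mul_assoc, X.s_mul_s, mul_one]⟩
  · exact ⟨X.s i * X.s j, mul_mem si sj, by rw [r12, e2], r20, by rw [r10, e4, mul_assoc]⟩
  · exact ⟨X.s i * (X.s j * X.s i), mul_mem si (mul_mem sj si), by rw [r21, e6], by rw [r10, e4],
      by rw [r20, mul_assoc, mul_assoc, X.s_mul_s, mul_one]⟩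

end Roots

theorem stpStmt (free : FreeStmt.{u}) (mel : MelStmt.{u}) (com : ComStmt.{u}) (res : ResStmt.{u})
    (stp0 : Stp0Stmt.{u}) : StpStmt.{u} := by
  intro I W _ _ X C _ B σ K i j F _ κ κ' hσ hi hj hM hP
  classical
  obtain ⟨x0, h0⟩ := stp0 B σ i j F κ κ' hσ hP
  have hm : X.m i j = 3 := hP.1
  have hJ : ({i, j} : Set I) ⊆ K := by rintro _ (rfl | rfl); exacts [hi, hj]
  obtain ⟨S, r, -, hr, hR⟩ := (res B).2 σ {i, j} K hσ hJ
  have h3 : ∀ k ∈ ({i, j} : Set I), ∃ l ∈ ({i, j} : Set I), 3 ≤ X.m k l := by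
    rintro _ (rfl | rfl)
    · exact ⟨j, Or.inr rfl, hm.ge⟩
    · exact ⟨i, Or.inl rfl, by rw [m_symm]; exact hm.ge⟩
  have hR' := fun a b => hR _ (prt_mem X (i := i) (j := j) a b).1 _ (prt_mem X a b).2
  have hL : ∀ a b : Fin 3, ∀ t : F, ∃ g : S, a ≠ b →
      g.1 ∈ B.U σ K (ro X i j a b) ∧ r g = x0 a b t := fun a b t => by
    by_cases ab : a = b
    · exact ⟨1, fun h => absurd ab h⟩
    · obtain ⟨g, hg⟩ := ((hR' a b).2.2 hM (h3 _ (prt_mem X a b).2)).2 _
        ((h0.mem a b ab _).2 ⟨t, rfl⟩)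
      exact ⟨g, fun _ => hg⟩
  choose y hy using hL
  have inj : ∀ a b, ∀ g g' : S, g.1 ∈ B.U σ K (ro X i j a b) → g'.1 ∈ B.U σ K (ro X i j a b) →
      r g = r g' → g = g' := fun a b g g' h h' e => by
    have := ((hR' a b).2.2 hM (h3 _ (prt_mem X a b).2)).1 (g⁻¹ * g') (mul_mem (inv_mem h) h')
      (by rw [map_mul, map_inv, e, inv_mul_cancel])
    exact inv_mul_eq_one.1 this
  have act : ∀ g : S, ∀ w ∈ X.WJ {i, j}, g.1 (σ w) = r g (σ w) := fun g w hw =>
    ((hr g).2 _ (show B.δ (σ 1) (σ w) ∈ X.WJ {i, j} by rw [hσ]; simpa using hw)).symm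
  have WK : ∀ {v}, v ∈ X.WJ {i, j} → v ∈ X.WJ K := fun hv => WJ_mono X hJ hv
  have hinj : ∀ a b, a ≠ b → ∀ s, (y a b s).1 = 1 → s = 0 := fun a b ab s h => by
    refine h0.rel.inj a b ab s ?_
    rw [← (hy a b s ab).2, show y a b s = 1 from Subtype.ext h, map_one]
  have tr : ∀ {a b : Fin 3} {v : W} {k : I}, a ≠ b → ro X i j a b = X.rt v k → ∀ s,
      (y a b s).1 ∈ B.R σ K v k := fun {a b v k} ab e s => by
    have := (hy a b s ab).1
    rwa [e] at this
  refine ⟨fun a b t => (y a b t).1, ⟨fun a b ab s t => ?_, hinj, fun a b c ab bc ac s t => ?_,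
    fun a b c ab bc ac s t => ?_, fun a b c ab bc ac s t => ?_⟩, fun a b ab g => ⟨fun hg => ?_, ?_⟩,
    fun s => ?_, fun t => ?_, fun a b ab t ht => ?_⟩
  · refine congrArg Subtype.val (inj a b (y a b (s + t)) (y a b s * y a b t) (hy a b _ ab).1
      (mul_mem (hy a b _ ab).1 (hy a b _ ab).1) ?_)
    rw [map_mul, (hy a b _ ab).2, (hy a b _ ab).2, (hy a b _ ab).2, h0.rel.add a b ab]
  · obtain ⟨v, hv, e1, e2, e3⟩ := window X hm ab bc ac
    refine congrArg Subtype.val (inj a c (y a b s * y b c t * (y a b s)⁻¹ * (y b c t)⁻¹)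
      (y a c (s * t)) ?_ (hy a c _ ac).1 ?_)
    · rw [e3]
      exact (com B σ K hσ hM v (WK hv) i hi j hj).2.2.1 hm _ (tr ab e1 s) _
        (tr bc e2 t)
    · simp only [map_mul, map_inv, (hy a b _ ab).2, (hy b c _ bc).2, (hy a c _ ac).2]
      exact h0.rel.com a b c ab bc ac s t
  · obtain ⟨v, hv, e1, -, e3⟩ := window X hm ab bc ac
    exact (com B σ K hσ hM v (WK hv) i hi j hj).2.1 (Or.inl hm) _ (tr ab e1 s) _
      (tr ac e3 t)
  · obtain ⟨v, hv, -, e2, e3⟩ := window X hm ab bc ac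
    rw [← rt_swap X hm] at e3
    exact ((com B σ K hσ hM v (WK hv) j hj i hi).2.1 (Or.inl (by rw [m_symm]; exact hm)) _
      (tr bc e2 t) _ (tr ac e3 s)).symm
  · obtain ⟨t, ht⟩ := (h0.mem a b ab _).1 ((hR' a b).2.1 ⟨g, (hR' a b).1 hg⟩ hg)
    exact ⟨t, congrArg Subtype.val (inj a b (y a b t) ⟨g, (hR' a b).1 hg⟩ (hy a b t ab).1 hg
      (by rw [(hy a b t ab).2, ht]))⟩
  · rintro ⟨t, rfl⟩
    exact (hy a b t ab).1
  · rw [act _ _ (s_mem X (Or.inl rfl)), (hy 0 1 s (by decide)).2, h0.ki]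
  · rw [act _ _ (s_mem X (Or.inr rfl)), (hy 1 2 t (by decide)).2, h0.kj]
  · have n0 : ∀ w ∈ X.WJ {i, j}, ((y a b t).1 * (y b a (-t⁻¹)).1 * (y a b t).1) (σ w) =
        σ (X.rf (prt X i j a b).1 (prt X i j a b).2 * w) := fun w hw => by
      rw [← h0.nσ a b ab t ht w hw, nn, ← (hy a b t ab).2, ← (hy b a _ ab.symm).2, ← map_mul,
        ← map_mul, ← act _ w hw]
      rfl
    have ha := (hy a b t ab).1
    have hg := (hy b a (-t⁻¹) ab.symm).1
    have g1 : (y b a (-t⁻¹)).1 ≠ 1 := fun e => ht (by simpa using hinj b a ab.symm _ e)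
    obtain ⟨hv, hl⟩ := prt_mem X (i := i) (j := j) b a
    change ∀ w ∈ X.WJ K, ((y a b t).1 * (y b a (-t⁻¹)).1 * (y a b t).1) (σ w) = _
    rw [ro] at ha hg
    rw [prt_swap X ab] at ha n0 ⊢
    generalize (prt X i j b a).1 = v at *
    generalize (prt X i j b a).2 = l at *
    generalize (y a b t).1 = x at *
    generalize (y b a (-t⁻¹)).1 = g at *
    simp only at ha n0 ⊢
    have erf : X.rf (v * X.s l) l = X.rf v l := by simp [Cox.rf, mul_assoc]
    rw [erf] at n0 ⊢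
    obtain ⟨k, hk, hk3⟩ := h3 l hl
    have hv1 : v * X.s l ∈ X.WJ {i, j} := mul_mem hv (s_mem X hl)
    obtain ⟨a', ha', b', hb', hn⟩ := mel B σ K hσ hM v (WK hv) l (hJ hl) ⟨k, hJ hk, hk3⟩ g hg g1
    have fx : ∀ u ∈ B.R σ K (v * X.s l) l, u (σ (v * X.s l)) = σ (v * X.s l) := fun u hu =>
      hu.2.1 _ (WK hv1) (rt1 X _ _)
    have fr : ∀ u ∈ B.R σ K (v * X.s l) l, u (σ v) = σ v → u = 1 := fun u hu e =>
      (free B σ K hσ).1 _ (WK hv1) l (hJ hl) ⟨k, hJ hk, hk3⟩ u hu (σ v)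
        (show B.δ _ _ = _ by rw [hσ]; simp) e
    have c1 : X.rf v l * (v * X.s l) = v := by simp [Cox.rf, mul_assoc, X.s_mul_s]
    have e1 : a' = x := by
      have p1 := hn _ (WK hv1)
      have p2 := n0 _ hv1
      rw [c1, Perm.mul_apply, Perm.mul_apply] at p1 p2
      rw [fx _ hb'] at p1
      rw [fx _ ha] at p2
      have := fr (x * a'⁻¹) (mul_mem ha (inv_mem ha')) (by
        rw [Perm.mul_apply, Perm.inv_eq_iff_eq.2 p1.symm, p2])
      exact (mul_inv_eq_one.1 this).symm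
    have e2 : b' = x := by
      have p1 := hn _ (WK hv)
      have p2 := n0 _ hv
      rw [e1, ← p2, Perm.mul_apply, Perm.mul_apply _ x] at p1
      have := fr (x⁻¹ * b') (mul_mem (inv_mem ha) hb') (by
        rw [Perm.mul_apply, (x * g).injective p1]; simp)
      exact (inv_mul_eq_one.1 this).symm
    rw [e1, e2] at hn
    exact hn

end Cfsg.Agent.H3.T3Stp
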