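import Cfsg.Agent.H3.F4Norm
import Cfsg.Agent.H38.F4Defs3

/-! Project F4, piece NORM for all fields. -/

set_option autoImplicit false

namespace Cfsg.Agent.H3.F4N

open Cfsg Cfsg.Agent.H63 Cfsg.Agent.H63.SL Cfsg.Agent.H27.F4 Cfsg.Agent.H38.F4 Subgroup

universe u v

theorem f8 : ∀ β : Φ4, β = 25 ∨ β = 27 ∨ β = 28 → R4.Pos β := by decide +kernel

attribute [local irreducible] ip co lg Sm Cm hl hs R4

theorem norm5 : NormStmt5.{u, v} := by
  intro F _ _ G _ _ L x t h hR z hz z1 ⟨g, e⟩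
  have P := h.kit.pin
  have M := h.kit.toMod4
  have T := h.tc
  have S := h.kit.syl
  let φ : G ≃* G := MulAut.conj g⁻¹
  have φt : φ (t * z) = t := by rw [e]; simp [φ, mul_assoc]
  have RU : RR x ≤ Up R4 x := UU_le fun r hr => xU (f4 r hr)
  have zR : z ∈ RR x := (UU_le (K := RR x) fun r hr => xU (by
    rcases hr with rfl | rfl
    · exact Or.inl f2.2.2.2.1
    · exact Or.inr f2.2.2.2.2)) hz
  have cz : ∀ r c, R4.Pos r → Commute (x r c) z := fun r c hr =>
    (mem_centralizer_singleton_iff.1 ((UU_le (K := C1[x r c]) fun s hs d =>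
      mem_centralizer_singleton_iff.2 (xc P (f5 r s hr hs) d c)) hz)).symm
  have zL : z ∈ L := S.le (RU zR)
  have zz : z * z = 1 := by
    obtain ⟨a, b, k, hk, e1⟩ := h.lf.cR hl hs f2.2.1 f2.1 f2.2.2.1 z (le_normalizer zL)
      fun δ a hδ => (cz δ a (f4 δ (f6 δ hδ))).symm
    have c : Commute (x hl a * x hs b) k := hk _ (L.mul_mem (xL M _ _) (xL M _ _))
    have e2 : z ^ 2 = k ^ 2 := by
      rw [e1, c.mul_pow, (xc P f2.2.2.1.le a b).mul_pow, pow_two, pow_two, xx P, xx P, one_mul,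
        one_mul]
    obtain ⟨n, hn⟩ := is2_of S.isPGroup (pow_mem (RU zR) 2)
    rw [← pow_two, ← orderOf_eq_one_iff]
    exact Nat.Coprime.eq_one_of_dvd (Nat.Coprime.pow_right n (Nat.coprime_two_right.2
      (M.zodd _ ⟨pow_mem zL 2, e2 ▸ C[L].pow_mem hk 2⟩))) (orderOf_dvd_of_pow_eq_one hn)
  have cu : ∀ {y}, Commute y t → Commute y z → Commute (φ y) t := fun a b => by
    rw [← φt]; exact (a.mul_right b).map φ
  have k1 : ∀ y ∈ RR x, φ y ∈ L := fun y hy => ocp h.oc φ (H := L ⊓ C[ZZ x])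
    (fun a ha => cu (tc T ha.1) (Commute.symm (ha.2 z hz))) (mem_sup_left (hR.r3 hy))
    (is2_of S.isPGroup (RU hy))
  constructor
  · intro k hk kt ⟨n, hn⟩
    have c1 : ∀ y ∈ RR x, Commute (φ.symm k) y := fun y hy => by
      simpa using (Commute.symm (hk _ (k1 y hy))).map φ.symm
    have c2 : Commute (φ.symm k) t := by
      have := kt.map φ.symm
      rw [← φt, φ.symm_apply_apply] at this
      simpa using this.mul_right (c1 z zR).inv_right
    obtain ⟨a, b, k0, hk0, e1⟩ := h.lf.cR hl hs f2.2.1 f2.1 f2.2.2.1 _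
      (T.cN (mem_centralizer_singleton_iff.2 c2)) fun δ a hδ => c1 _ (xU (f6 δ hδ) a)
    have c3 : φ.symm k ^ 2 ∈ C[L] := by
      rw [e1, (Commute.mul_pow (hk0 _ (L.mul_mem (xL M _ _) (xL M _ _)))),
        (xc P f2.2.2.1.le a b).mul_pow, pow_two, pow_two, xx P, xx P, one_mul, one_mul]
      exact pow_mem hk0 2
    refine T.one k hk kt (by_contra fun ne => ?_)
    obtain ⟨m, m1, m2⟩ := pinv (show Is2 (k ^ 2) from ⟨n, by rw [← pow_mul, mul_comm, pow_mul, hn,
      one_pow]⟩) (by rwa [pow_two])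
    have e2 := (T.one _ (pow_mem (pow_mem hk 2) m) ((kt.pow_left 2).pow_left m) m2).resolve_left m1
    have e3 := (T.one _ (pow_mem c3 m) ((c2.pow_left 2).pow_left m) (by
      rw [← map_pow, ← map_pow, ← map_mul, m2, map_one])).resolve_left fun e3 => m1 (by
        rwa [← map_pow, ← map_pow, map_eq_one_iff _ φ.symm.injective] at e3)
    rw [← map_pow, ← map_pow, e2, φ.symm_apply_eq] at e3
    exact z1 (mul_eq_left.1 (φ.injective (φt.trans e3)))
  · let A := Lt T L le_rfl
    have k2 : ∀ β, β = 25 ∨ β = 27 ∨ β = 28 → XR x β ≤ A.comap φ.toMonoidHom := fun β hβ =>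
      (closure_le _).2 <| by
      rintro _ ⟨c, rfl⟩
      have c1 := cu (tc T (xL M β c)) (cz β c (f8 β hβ))
      have c2 : φ (x β c) * φ (x β c) = 1 := by rw [← map_mul, xx P, map_one]
      refine dec M.zodd T (by_contra fun e1 => ?_) c2 c1
      obtain ⟨Q, h1, h2⟩ := hR.r4 β hβ
      have := h.lang.le _ (T.cN (mem_centralizer_singleton_iff.2 c1)) (c2 ▸ one_mem _) e1
        (Q.map φ.toMonoidHom) (by
          rintro _ ⟨y, hy, rfl⟩
          exact ⟨k1 y (h1 hy).1, mem_centralizer_singleton_iff.2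
            (Commute.map (Commute.symm ((h1 hy).2 _ (subset_closure ⟨c, rfl⟩))) φ)⟩)
        ((S.isPGroup.to_le ((h1.trans inf_le_left).trans RU)).map _)
      rw [card_map_of_injective φ.injective, h2] at this
      exact absurd ((Nat.pow_le_pow_iff_right Finite.one_lt_card).1 this) (by omega)
    have k3 : Up R4 x ⊔ zpowers t ≤ A.comap φ.toMonoidHom := sup_le (hR.r5.1.trans (sup_le (sup_le
      (sup_le (fun y hy => Or.inl (k1 y hy)) (k2 _ (Or.inl rfl))) (k2 _ (Or.inr (Or.inl rfl))))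
      (k2 _ (Or.inr (Or.inr rfl))))) ((zpowers_le).2
        (Or.inr (by
          change φ t * t ∈ L
          have := k1 z zR
          rwa [← mul_inv_cancel_left t z, inv_eq_of_mul_eq_one_left (tt T), ← mul_assoc t t,
            mul_assoc t, map_mul, φt] at this)))
    rw [Lt_eq T S.le] at k3 ⊢
    have p2 : IsPGroup 2 (Lt T _ S.le) := fun ⟨y, hy⟩ => hy.elim
      (fun hy => (is2_of S.isPGroup hy).imp fun _ e => Subtype.ext e) fun hy => by
        obtain ⟨n, hn⟩ := is2_of S.isPGroup hy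
        refine ⟨n + 1, Subtype.ext ?_⟩
        have c : Commute y t := by
          simpa [mul_assoc, tt T] using (tc T (S.le hy)).mul_left (Commute.refl t)
        change y ^ 2 ^ (n + 1) = 1
        have e1 : y ^ 2 = (y * t) ^ 2 := by rw [c.mul_pow, pow_two t, tt T, mul_one]
        rw [pow_succ', pow_mul, e1, ← pow_mul, mul_comm, pow_mul, hn, one_pow]
    obtain ⟨l, hl, k4⟩ := S.exists_conj_le (Q := (Lt T _ S.le).map φ.toMonoidHom ⊓ L)
      ((p2.map _).to_inf_left) inf_le_right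
    have lt : l⁻¹ * t * l = t := by rw [(tc T (L.inv_mem hl)).eq, inv_mul_cancel_right]
    refine ⟨g * l⁻¹, ?_, by rw [e, mul_inv_rev, inv_inv, mul_assoc g, mul_assoc g, ← mul_assoc _ l, lt,
      mul_assoc]⟩
    rw [← inv_mem_iff]
    refine mem_normalizer_fintype fun y hy => ?_
    have k5 : ∀ y ∈ Lt T _ S.le, φ y ∈ L → (g * l⁻¹)⁻¹ * y * (g * l⁻¹)⁻¹⁻¹ ∈ Up R4 x :=
      fun y hy hL => by
      have := k4 (smul_mem_pointwise_smul _ (MulAut.conj l) _ ⟨mem_map_of_mem _ hy, hL⟩)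
      simpa [φ, mul_assoc] using this
    rcases k3 hy with h1 | h1
    · exact Or.inl (k5 y hy h1)
    · right
      have := k5 (y * (t * z)) (mul_mem hy (Or.inr (by
        rw [mul_assoc, (tc T zL).eq, ← mul_assoc, tt T, one_mul]; exact RU zR)))
        (by rwa [map_mul, φt])
      convert this using 1
      rw [e]
      conv_rhs => rw [← lt]
      group

end Cfsg.Agent.H3.F4N
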