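import Cfsg.Agent.H63.A8Defs
import Cfsg.Agent.H87.Sylow

/-!
# A standard subgroup of type `A₈`: the group of order `1024` is a Sylow subgroup (piece H3A)
-/

set_option autoImplicit false

namespace Cfsg.Agent.H3.A8H3a

open Cfsg Cfsg.Agent.H63 Cfsg.Agent.H63.SL Cfsg.Agent.H63.A8 Subgroup
open Cfsg.Agent.H8 (IsSylowIn)

universe u

/-- the action of `dd k` -/
def md (k : Fin 8) (a : V4) : V4 := Mc^[k.1 % 2] (Mb^[k.1 / 2 % 2] (Mw^[k.1 / 4] a))

/-- the action of `dd k * t ^ e` -/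
def me (k : Fin 8) (e : Bool) (a : V4) : V4 := md k (cond e (-a) a)

/-- the code of `rr l` -/
def cd (l : Fin 8) : V4 :=
  (l.1 % 2) • ((2, 0, 0) : V4) + (l.1 / 2 % 2) • ((0, 2, 0) : V4) + (l.1 / 4) • ((0, 0, 2) : V4)

theorem fin1 : ∀ (k : Fin 8) (e : Bool), k ≠ 0 → ∀ α : V4, ∃ γ ∈ [((1, 0, 0) : V4), (0, 1, 0), (0, 0, 1)],
    α + me k e (γ + α + me k e (-γ)) ≠ γ + α + me k e (-γ) + me k e α := by decide +kernel

theorem fin2 : ∀ a : V4, a + a = 0 → ∃ l, a = cd l := by decide +kernel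

theorem fin3 : ∀ l : Fin 8, ∃ γ : V4, cd l = γ + γ := by decide +kernel

theorem fin4 : ∀ a : V4, a + a ≠ 0 → ∃ i : Fin 7, ∃ l, Ms^[i.1] a = cd l + (1, 0, 0) := by
  decide +kernel

theorem fin5 : ∀ a : V4, a + a + (a + a) = 0 := by decide +kernel

variable {G : Type u} [Group G] {ι : Alt →* G} {π : G → S8} {t : G} {φ : V4 → G}

theorem iter {g : G} {M : V4 → V4} (h : ∀ a, g * φ a * g⁻¹ = φ (M a)) (n : ℕ) (a : V4) :
    g ^ n * φ a * (g ^ n)⁻¹ = φ (M^[n] a) := by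
  induction n with
  | zero => simp
  | succ n ih => rw [Function.iterate_succ_apply', ← h, ← ih, pow_succ']; group

section nf
variable (n : NF ι t φ)
include n

theorem p0 : φ 0 = 1 := by
  have := n.add 0 0
  rwa [add_zero, left_eq_mul] at this

theorem pneg (a : V4) : φ (-a) = (φ a)⁻¹ :=
  eq_inv_of_mul_eq_one_left (by rw [← n.add, neg_add_cancel, p0 n])

theorem pinj {a b : V4} (e : φ a = φ b) : a = b :=
  sub_eq_zero.1 (n.inj _ (by rw [sub_eq_add_neg, n.add, pneg n, e, mul_inv_cancel]))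

theorem pcom (a b : V4) : Commute (φ a) (φ b) := by
  rw [Commute, SemiconjBy, ← n.add, ← n.add, add_comm]

theorem psm (k : ℕ) (a : V4) : φ (k • a) = φ a ^ k := by
  induction k with
  | zero => simpa using p0 n
  | succ k ih => rw [succ_nsmul, n.add, ih, pow_succ]

theorem pcd (l : Fin 8) : φ (cd l) = ι (rr l) := by
  rw [cd, rr, n.add, n.add, psm n, psm n, psm n, n.r0, n.r1, n.r2, map_mul, map_mul, map_pow,
    map_pow, map_pow]

theorem cdd (k : Fin 8) (a : V4) : ι (dd k) * φ a * (ι (dd k))⁻¹ = φ (md k a) := by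
  rw [md, ← iter n.mc, ← iter n.mb, ← iter n.mw, dd, map_mul, map_mul, map_pow, map_pow, map_pow]
  group

theorem cme (k : Fin 8) (e : Bool) (a : V4) :
    ι (dd k) * cond e t 1 * φ a = φ (me k e a) * (ι (dd k) * cond e t 1) := by
  rw [me, ← cdd n]
  cases e
  · simp
  · simp only [cond_true, ← n.mt]; group

theorem nfT (t2 : t * t = 1) {g : G} (hg : g ∈ SS ι φ ⊔ zpowers t) :
    ∃ a k e, g = φ a * (ι (dd k) * cond e t 1) := by
  rcases (n.memT g).1 hg with m | m <;> obtain ⟨a, k, e⟩ := (n.memS _).1 m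
  · exact ⟨a, k, false, by simpa using e⟩
  · exact ⟨a, k, true, by rw [cond_true, ← mul_assoc, ← e, mul_assoc, t2, mul_one]⟩

theorem memS (a : V4) (k : Fin 8) : φ a * ι (dd k) ∈ SS ι φ ⊔ zpowers t :=
  mem_sup_left ((n.memS _).2 ⟨a, k, rfl⟩)

theorem tφ (a : V4) : t * φ a = φ (-a) * t := by rw [← n.mt]; group

theorem cjt (γ a : V4) : φ γ * (φ a * t) * (φ γ)⁻¹ = φ (γ + γ + a) * t := by
  rw [← pneg n, mul_assoc, mul_assoc, tφ n, neg_neg, ← mul_assoc, ← mul_assoc, ← n.add, ← n.add,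
    add_right_comm]

end nf

theorem dd0 : dd 0 = 1 := by simp [dd]

theorem h3a : H3aStmt.{u} := by
  intro f G _ _ ι π t h k φ n nb
  haveI : Fact (Nat.Prime 2) := ⟨Nat.prime_two⟩
  set T := SS ι φ ⊔ zpowers t with hT
  have pT : IsPGroup 2 T := IsPGroup.of_card (n := 10) n.cardT
  refine ⟨le_top, pT, fun hd => ?_⟩
  obtain ⟨Q, pQ, TQ, -, nQ, QN⟩ := H87.exists_normalizing_of_dvd_relIndex pT le_top hd
  obtain ⟨x, xQ, xT⟩ := SetLike.not_le_iff_exists.1 nQ
  have tT : t ∈ T := mem_sup_right (mem_zpowers t)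
  have φT : ∀ a, φ a ∈ T := fun a => by simpa [dd0] using memS n a 0
  have nT : ∀ g ∈ Q, ∀ a ∈ T, g * a * g⁻¹ ∈ T := fun g hg a ha =>
    (mem_normalizer_iff.1 (QN hg) a).1 ha
  -- the elements commuting with their conjugates
  have om : ∀ g ∈ Q, ∀ a ∈ T, (∀ s ∈ T, Commute a (s * a * s⁻¹)) →
      ∃ b, g * a * g⁻¹ = φ b ∨ g * a * g⁻¹ = φ b * t := fun g hg a ha c => by
    obtain ⟨α, j, e, E⟩ := nfT n h.t2 (nT g hg a ha)
    by_cases j0 : j = 0
    · rw [j0, dd0, map_one, one_mul] at E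
      cases e
      · exact ⟨α, .inl (by simpa using E)⟩
      · exact ⟨α, .inr E⟩
    exfalso
    obtain ⟨γ, -, ne⟩ := fin1 j e j0 α
    have c1 := c _ (nT _ (inv_mem hg) _ (φT γ))
    have c2 : Commute (g * a * g⁻¹) (φ γ * (g * a * g⁻¹) * (φ γ)⁻¹) := by
      have := (Commute.conj_iff g).2 c1
      convert this using 1; group
    have m := cme n j e
    rw [E] at c2
    generalize ι (dd j) * cond e t 1 = m0 at m c2
    have e1 : φ γ * (φ α * m0) * (φ γ)⁻¹ = φ (γ + α + me j e (-γ)) * m0 := by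
      rw [← pneg n, mul_assoc, mul_assoc, m, n.add, n.add]; group
    rw [e1] at c2
    refine ne (pinj n (mul_right_cancel (b := m0 * m0) ?_))
    calc _ = φ α * (φ (me j e (γ + α + me j e (-γ))) * m0) * m0 := by rw [n.add]; group
      _ = φ α * m0 * (φ (γ + α + me j e (-γ)) * m0) := by rw [← m]; group
      _ = φ (γ + α + me j e (-γ)) * (m0 * φ α) * m0 := by rw [c2.eq]; group
      _ = _ := by rw [m, n.add _ (me j e α)]; group
  have omφ : ∀ a, ∀ s ∈ T, Commute (φ a) (s * φ a * s⁻¹) := fun a s hs => by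
    obtain ⟨α, j, e, rfl⟩ := nfT n h.t2 hs
    have : φ α * (ι (dd j) * cond e t 1) * φ a * (φ α * (ι (dd j) * cond e t 1))⁻¹ =
        φ α * φ (me j e a) * (φ α)⁻¹ := by rw [mul_assoc (φ α), cme n]; group
    rw [this, (pcom n α _).eq, mul_inv_cancel_right]
    exact pcom n _ _
  have omt : ∀ s ∈ T, Commute t (s * t * s⁻¹) := fun s hs => by
    obtain ⟨α, j, e, rfl⟩ := nfT n h.t2 hs
    have c : Commute (ι (dd j) * cond e t 1) t :=
      (h.tc _).mul_left (by cases e <;> simp)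
    have : φ α * (ι (dd j) * cond e t 1) * t * (φ α * (ι (dd j) * cond e t 1))⁻¹ =
        φ α * (φ 0 * t) * (φ α)⁻¹ := by rw [mul_assoc (φ α), c.eq, p0 n]; group
    rw [this, cjt n, add_zero]
    refine Commute.mul_right ?_ (Commute.refl t)
    rw [Commute, SemiconjBy, tφ n, neg_eq_of_add_eq_zero_left (fin5 α)]
  have sqt : ∀ b, φ b * t * (φ b * t) = 1 := fun b => by
    rw [mul_assoc, ← mul_assoc t, tφ n, pneg n, mul_assoc, h.t2]; group
  -- adjust `x` to centralize `t`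
  obtain ⟨γ, hγ⟩ : ∃ γ, x * t * x⁻¹ = φ (γ + γ) * t := by
    have cj : IsConj t (x * t * x⁻¹) := isConj_iff.2 ⟨x, rfl⟩
    obtain ⟨b, e | e⟩ := om x xQ t tT omt
    · obtain ⟨l, rfl⟩ := fin2 b (n.inj _ (by
        rw [n.add, ← e, conj_mul, h.t2]; group))
      exact absurd (pcd n l ▸ e ▸ cj) (k.nl _)
    · by_cases b2 : b + b = 0
      · obtain ⟨l, rfl⟩ := fin2 b b2
        obtain ⟨γ, hγ⟩ := fin3 l
        exact ⟨γ, hγ ▸ e⟩
      · obtain ⟨i, l, hl⟩ := fin4 b b2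
        obtain ⟨γ, hγ⟩ := fin3 l
        refine absurd ((e ▸ cj).trans (isConj_iff.2 ⟨(φ γ)⁻¹ * ι sg ^ i.1, ?_⟩)) nb
        have c := ((h.tc sg).pow_left i.1).eq
        calc _ = (φ γ)⁻¹ * (ι sg ^ i.1 * φ b * (ι sg ^ i.1)⁻¹ * (ι sg ^ i.1 * t) *
              (ι sg ^ i.1)⁻¹) * φ γ := by group
          _ = (φ γ)⁻¹ * (φ (γ + γ + (1, 0, 0)) * t) * φ γ := by
              rw [iter n.ms, c, hl, hγ]; group
          _ = _ := by rw [← cjt n]; group
  have gQ : (φ γ)⁻¹ * x ∈ Q := mul_mem (inv_mem (TQ (φT γ))) xQ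
  have gt : Commute ((φ γ)⁻¹ * x) t := by
    rw [Commute, SemiconjBy, ← mul_inv_eq_iff_eq_mul]
    calc _ = (φ γ)⁻¹ * (x * t * x⁻¹) * φ γ := by group
      _ = (φ γ)⁻¹ * (φ γ * (φ 0 * t) * (φ γ)⁻¹) * φ γ := by rw [hγ, cjt n, add_zero]
      _ = t := by rw [p0 n]; group
  have gT : (φ γ)⁻¹ * x ∉ T := fun m => xT ((mul_mem_cancel_left (inv_mem (φT γ))).1 m)
  generalize (φ γ)⁻¹ * x = g at gQ gt gT
  obtain ⟨l, m, e⟩ := f.nU (π g) (fun j => by
      obtain ⟨δ, hδ⟩ := fin3 j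
      have e0 : ι (cA (π g) (rr j)) = g * φ δ * g⁻¹ * (g * φ δ * g⁻¹) := by
        rw [← h.act g gt, ← pcd n, hδ, n.add, conj_mul]
      obtain ⟨b, e | e⟩ := om g gQ _ (φT δ) (omφ δ)
      · obtain ⟨l, hl⟩ := fin2 _ (fin5 b)
        exact ⟨l, h.inj (by rw [e0, e, ← n.add, hl, pcd n])⟩
      · exact ⟨0, h.inj (by rw [e0, e, sqt]; simp [rr])⟩)
    fun j => by
      have m := nT g gQ _ (memS n 0 j)
      rw [p0 n, one_mul, h.act g gt] at m
      obtain ⟨α, j', e, E⟩ := nfT n h.t2 m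
      have c : Commute (ι (dd j') * cond e t 1) t := (h.tc _).mul_left (by cases e <;> simp)
      have c' : Commute (φ α) t := by
        have := (h.tc (cA (π g) (dd j))).mul_left c.inv_left
        rwa [E, mul_inv_cancel_right] at this
      obtain ⟨l, rfl⟩ := fin2 α (by
        have := tφ n α
        rw [← c'.eq, mul_left_inj] at this
        exact add_eq_zero_iff_eq_neg.2 (pinj n this))
      rw [pcd n] at E
      cases e
      · exact ⟨l, j', h.inj (by simpa using E)⟩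
      · refine absurd ?_ (k.tn ((rr l * dd j')⁻¹ * cA (π g) (dd j)))
        rw [map_mul, E, map_inv, map_mul, cond_true]; group
  have aT : ι (rr l * dd m) ∈ T := by rw [map_mul, ← pcd n]; exact memS n _ _
  obtain ⟨j, hj⟩ := pQ ⟨g, gQ⟩
  rcases k.ev g gt ⟨j, congrArg Subtype.val hj⟩ _ e with e' | e'
  · exact gT (e' ▸ aT)
  · exact gT (e' ▸ mul_mem tT aT)

end Cfsg.Agent.H3.A8H3a
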