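import Mathlib
import Cfsg.Agent.H24.FrobQuot
import Cfsg.Agent.H24.PrimeDeg
import Cfsg.Agent.H91.Basic

/-!
Average character degree at most 2: the invariant `sd G = ∑ (χ(1) - 2)`.
-/

set_option autoImplicit false

namespace Cfsg.Agent.H3.Acd

open Cfsg Cfsg.Agent.H11 Cfsg.Agent.H24 Subgroup
open scoped commutatorElement

variable {G : Type*} [Group G] [Finite G]

/-- The irreducible characters with `K` in the kernel. -/
noncomputable def IK (K : Subgroup G) : Finset (IrrCharacter G) :=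
  (Set.toFinite {χ : IrrCharacter G | K ≤ charKer χ.1}).toFinset

theorem mem_IK {K : Subgroup G} {χ : IrrCharacter G} : χ ∈ IK K ↔ K ≤ charKer χ.1 := by
  simp [IK]

/-- The weight `χ(1) - 2`. -/
noncomputable def wt (χ : IrrCharacter G) : ℤ := (charDegree χ.1 : ℤ) - 2

/-- `∑ (χ(1) - 2)` over the characters of `G / K`. -/
noncomputable def sdK (K : Subgroup G) : ℤ := ∑ χ ∈ IK K, wt χ

/-- `∑ (χ(1) - 2)`. -/
noncomputable def sd (G : Type*) [Group G] [Finite G] : ℤ := sdK (⊥ : Subgroup G)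

theorem IK_eq (K : Subgroup G) [Fintype (IrrCharacter G)]
    [DecidablePred fun χ : IrrCharacter G => K ≤ charKer χ.1] :
    IK K = Finset.univ.filter fun χ : IrrCharacter G => K ≤ charKer χ.1 := by
  ext χ; simp [mem_IK]

theorem IK_bot [Fintype (IrrCharacter G)] : IK (⊥ : Subgroup G) = Finset.univ := by
  ext χ; simp [mem_IK]

theorem IK_anti {K L : Subgroup G} (h : K ≤ L) : IK L ⊆ IK K := fun _ hχ =>
  mem_IK.2 (h.trans (mem_IK.1 hχ))

theorem sum_sq (K : Subgroup G) [K.Normal] : ∑ χ ∈ IK K, charDegree χ.1 ^ 2 = K.index := by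
  classical
  have := Fintype.ofFinite (IrrCharacter G)
  rw [IK_eq]; exact sum_deg_sq_le_charKer K

theorem sdK_ker {H : Type*} [Group H] [Finite H] (f : G →* H) (hf : Function.Surjective f) :
    sdK f.ker = sd H := by
  symm
  refine Finset.sum_bij (fun ψ _ => (irrEquivOfSurjective f hf ψ).1)
    (fun ψ _ => mem_IK.2 (irrEquivOfSurjective f hf ψ).2) (fun a _ b _ h => ?_) (fun χ hχ => ?_)
    (fun ψ _ => ?_)
  · exact (irrEquivOfSurjective f hf).injective (Subtype.ext h)
  · exact ⟨(irrEquivOfSurjective f hf).symm ⟨χ, mem_IK.1 hχ⟩, mem_IK.2 bot_le, by simp⟩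
  · unfold wt
    rw [deg_congr (χ := (irrEquivOfSurjective f hf ψ).1.1) (ψ := ψ.1)
      (by rw [irrEquivOfSurjective_apply, map_one])]

theorem sdK_quot (K : Subgroup G) [K.Normal] : sdK K = sd (G ⧸ K) := by
  rw [← sdK_ker (QuotientGroup.mk' K) (QuotientGroup.mk'_surjective K), QuotientGroup.ker_mk']

theorem sd_congr {H : Type*} [Group H] [Finite H] (e : G ≃* H) : sd G = sd H := by
  rw [← sdK_ker e.toMonoidHom e.surjective, (MonoidHom.ker_eq_bot_iff _).2 e.injective, sd]

theorem sd_le_of (h : (∑ᶠ χ : IrrCharacter G, charDegree (χ : G → ℂ)) ≤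
    2 * Nat.card (IrrCharacter G)) : sd G ≤ 0 := by
  have := Fintype.ofFinite (IrrCharacter G)
  rw [finsum_eq_sum_of_fintype, Nat.card_eq_fintype_card] at h
  rw [sd, sdK, IK_bot]
  unfold wt
  rw [Finset.sum_sub_distrib, Finset.sum_const, Finset.card_univ]
  have : ((∑ χ : IrrCharacter G, charDegree (χ : G → ℂ) : ℕ) : ℤ) ≤
    ((2 * Fintype.card (IrrCharacter G) : ℕ) : ℤ) := by exact_mod_cast h
  push_cast at this
  simp only [nsmul_eq_mul]
  linarith

/-- The product of a linear and an irreducible character. -/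
noncomputable def lm (μ : Lin G) (χ : IrrCharacter G) : IrrCharacter G :=
  ⟨lin μ * χ.1, isIrr_lin_mul μ χ.2⟩

theorem wt_lm (μ : Lin G) (χ : IrrCharacter G) : wt (lm μ χ) = wt χ := by
  unfold wt lm; rw [deg_lin_mul]

theorem lm_lm (μ ν : Lin G) (χ : IrrCharacter G) : lm μ (lm ν χ) = lm (μ * ν) χ := by
  apply Subtype.ext
  simp only [lm, map_mul, mul_assoc]

theorem lm_one (χ : IrrCharacter G) : lm 1 χ = χ := by
  apply Subtype.ext
  simp only [lm, map_one, one_mul]

theorem lm_mem {K : Subgroup G} {μ : Lin G} {χ : IrrCharacter G} (hμ : μ ∈ linOver K)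
    (hχ : χ ∈ IK K) : lm μ χ ∈ IK K := by
  rw [mem_IK, le_charKer_iff (irr_isCharacter (lm μ χ))]
  intro g hg
  have h1 : μ.hom g = 1 := mem_linOver.1 hμ hg
  have h2 := (le_charKer_iff (irr_isCharacter χ)).1 (mem_IK.1 hχ) g hg
  simp [lm, lin_apply, h1, h2]

theorem mem_linOver_of {K : Subgroup G} {μ : Lin G} {χ : IrrCharacter G} (hχ : χ ∈ IK K)
    (h : lm μ χ ∈ IK K) : μ ∈ linOver K := by
  rw [mem_linOver]
  intro g hg
  have h2 := (le_charKer_iff (irr_isCharacter χ)).1 (mem_IK.1 hχ) g hg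
  have h3 := (le_charKer_iff (irr_isCharacter (lm μ χ))).1 (mem_IK.1 h) g hg
  have h0 : χ.1 1 ≠ 0 := by
    rw [irr_deg χ.2]; exact_mod_cast deg_ne_zero χ.2
  simp only [lm, Pi.mul_apply, lin_apply, map_one, Units.val_one, one_mul, h2] at h3
  rw [MonoidHom.mem_ker]
  apply Units.ext
  exact mul_right_cancel₀ h0 (h3.trans (one_mul _).symm)

/-- The trivial character. -/
def triv (G : Type*) [Group G] : IrrCharacter G := ⟨lin (1 : Lin G), isIrr_lin 1⟩

theorem triv_mem (K : Subgroup G) : triv G ∈ IK K := by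
  rw [mem_IK, triv, charKer_lin]
  intro g _
  exact Lin.one_apply g

theorem lm_triv (μ : Lin G) : (lm μ (triv G)).1 = lin μ := by
  simp [lm, triv]

theorem orbit {K L : Subgroup G} (h : K ≤ L) :
    (Nat.card (linOver K) : ℤ) * sdK L ≤ Nat.card (linOver L) * sdK K := by
  classical
  have := Fintype.ofFinite (linOver K)
  set s : Finset (linOver K × IrrCharacter G) := Finset.univ ×ˢ IK L with hs
  set φ : linOver K × IrrCharacter G → IrrCharacter G := fun a => lm a.1 a.2 with hφ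
  have hLK : linOver L ≤ linOver K := fun μ hμ => mem_linOver.2 (h.trans (mem_linOver.1 hμ))
  have e1 : ∑ a ∈ s, wt (φ a) = (Nat.card (linOver K) : ℤ) * sdK L := by
    rw [hs, Finset.sum_product]
    simp only [hφ, wt_lm]
    rw [Finset.sum_const, Finset.card_univ, Nat.card_eq_fintype_card, nsmul_eq_mul, sdK]
  have e2 : ∀ b ∈ s.image φ, ({a ∈ s | φ a = b} : Finset _).card = Nat.card (linOver L) := by
    intro b hb
    obtain ⟨⟨μ0, χ0⟩, h0, rfl⟩ := Finset.mem_image.1 hb
    have h0' : χ0 ∈ IK L := (Finset.mem_product.1 h0).2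
    have := Fintype.ofFinite (linOver L)
    rw [Nat.card_eq_fintype_card, ← Finset.card_univ]
    symm
    refine Finset.card_bij (fun ν _ => (μ0 * (⟨ν.1, hLK ν.2⟩ : linOver K)⁻¹, lm ν.1 χ0)) (fun ν _ => ?_)
      (fun a _ b _ e => ?_) (fun a ha => ?_)
    · refine Finset.mem_filter.2 ⟨Finset.mem_product.2 ⟨Finset.mem_univ _, lm_mem ν.2 h0'⟩, ?_⟩
      simp only [hφ, lm_lm]
      congr 1
      simp
    · have := congrArg (fun x => ((x.1 : linOver K) : Lin G)) e
      simpa using this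
    · obtain ⟨ha1, ha2⟩ := Finset.mem_filter.1 ha
      have ha3 : a.2 ∈ IK L := (Finset.mem_product.1 ha1).2
      have e : lm ((a.1 : Lin G)⁻¹ * (μ0 : Lin G)) χ0 = a.2 := by
        rw [← lm_lm]
        simp only [hφ] at ha2
        rw [← ha2, lm_lm, inv_mul_cancel, lm_one]
      refine ⟨⟨_, mem_linOver_of h0' (e ▸ ha3)⟩, Finset.mem_univ _, ?_⟩
      refine Prod.ext (Subtype.ext ?_) e
      simp [mul_comm]
  have e3 : s.image φ ⊆ IK K := by
    intro b hb
    obtain ⟨a, ha, rfl⟩ := Finset.mem_image.1 hb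
    exact lm_mem a.1.2 (IK_anti h (Finset.mem_product.1 ha).2)
  rw [← e1, Finset.sum_comp wt φ, Finset.sum_congr rfl fun b hb => by rw [e2 b hb]]
  simp only [nsmul_eq_mul]
  rw [← Finset.mul_sum]
  refine mul_le_mul_of_nonneg_left ?_ (Nat.cast_nonneg _)
  refine Finset.sum_le_sum_of_subset_of_nonneg e3 fun b hb hn => ?_
  have h1 := deg_pos b.2
  by_contra hlt
  have h2 : charDegree b.1 = 1 := by unfold wt at hlt; omega
  obtain ⟨μ, hμ⟩ := exists_eq_lin (irr_isCharacter b) h2
  have h3 : lm μ (triv G) = b := Subtype.ext (by rw [lm_triv, hμ])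
  exact hn (Finset.mem_image.2 ⟨(⟨μ, mem_linOver_of (triv_mem K) (h3 ▸ hb)⟩, triv G),
    Finset.mem_product.2 ⟨Finset.mem_univ _, triv_mem L⟩, h3⟩)

theorem deg_one_of {K : Subgroup G} (h : commutator G ≤ K) {χ : IrrCharacter G} (hχ : χ ∈ IK K) :
    charDegree χ.1 = 1 :=
  (deg_eq_one_iff_commutator_le χ.2).2 (h.trans (mem_IK.1 hχ))

theorem card_IK {K : Subgroup G} [K.Normal] (h : commutator G ≤ K) : (IK K).card = K.index := by
  rw [← sum_sq K, Finset.card_eq_sum_ones]
  exact Finset.sum_congr rfl fun χ hχ => by rw [deg_one_of h hχ]; rfl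

theorem sdK_of {K : Subgroup G} [K.Normal] (h : commutator G ≤ K) : sdK K = -(K.index : ℤ) := by
  rw [sdK, Finset.sum_congr rfl fun χ hχ => show wt χ = -1 by
    unfold wt; rw [deg_one_of h hχ]; rfl, Finset.sum_const, card_IK h]
  simp

theorem card_linOver (K : Subgroup G) [K.Normal] :
    Nat.card (linOver K) = (commutator G ⊔ K).index := by
  classical
  rw [← card_IK le_sup_left]
  have := Fintype.ofFinite (linOver K)
  rw [Nat.card_eq_fintype_card, ← Finset.card_univ]
  refine Finset.card_bij (fun μ _ => lm μ (triv G)) (fun μ _ => ?_) (fun a _ b _ e => ?_)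
    (fun χ hχ => ?_)
  · rw [mem_IK, lm_triv, charKer_lin]
    exact sup_le (Abelianization.commutator_subset_ker _) (mem_linOver.1 μ.2)
  · have := congrArg Subtype.val e
    rw [lm_triv, lm_triv] at this
    exact Subtype.ext (lin_injective this)
  · obtain ⟨μ, hμ⟩ := exists_eq_lin (irr_isCharacter χ) (deg_one_of le_sup_left hχ)
    have h3 : lm μ (triv G) = χ := Subtype.ext (by rw [lm_triv, hμ])
    exact ⟨⟨μ, mem_linOver_of (triv_mem K) (h3 ▸ IK_anti le_sup_right hχ)⟩, Finset.mem_univ _, h3⟩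

theorem sdK_le {K : Subgroup G} [K.Normal] (h : sd G ≤ 0) : sdK K ≤ 0 := by
  have h1 := orbit (bot_le : ⊥ ≤ K)
  have h2 : (0 : ℤ) < Nat.card (linOver (⊥ : Subgroup G)) := by exact_mod_cast Nat.card_pos
  have h3 : (Nat.card (linOver K) : ℤ) * sdK (⊥ : Subgroup G) ≤ 0 :=
    mul_nonpos_of_nonneg_of_nonpos (Nat.cast_nonneg _) h
  by_contra hlt
  have := mul_pos h2 (not_le.1 hlt)
  omega

theorem sd_le_of_surj {H : Type*} [Group H] [Finite H] (f : G →* H) (hf : Function.Surjective f)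
    (h : sd G ≤ 0) : sd H ≤ 0 := by
  rw [← sdK_ker f hf]; exact sdK_le h

theorem sdK_split {K L : Subgroup G} (h : K ≤ L) [DecidableEq (IrrCharacter G)] :
    sdK K = sdK L + ∑ χ ∈ IK K \ IK L, wt χ := by
  rw [sdK, sdK, ← Finset.sum_sdiff (IK_anti h), add_comm]

theorem sum_sq_sdiff {K L : Subgroup G} [K.Normal] [L.Normal] (h : K ≤ L)
    [DecidableEq (IrrCharacter G)] :
    ∑ χ ∈ IK K \ IK L, charDegree χ.1 ^ 2 + L.index = K.index := by
  rw [← sum_sq K, ← sum_sq L, Finset.sum_sdiff (IK_anti h)]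

/-- A linear constituent of the restriction to an abelian normal subgroup. -/
theorem exists_lin (E : Subgroup G) [E.Normal] (hE : ∀ a ∈ E, ∀ b ∈ E, a * b = b * a)
    (χ : IrrCharacter G) : ∃ μ : Lin E, (H14.inertia E (lin μ)).index ∣ charDegree χ.1 ∧
      (H14.inertia E (lin μ) = ⊤ → ∀ x : E, χ.1 x = χ.1 1 * lin μ x) := by
  have := Fintype.ofFinite G
  have := Fintype.ofFinite E
  obtain ⟨θ, hθ, h1⟩ := H14.exists_irr_under E χ.2
  have h2 : charDegree θ = 1 := (deg_eq_one_iff (isCharacter_of_irr hθ)).2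
    (irr_apply_one_of_comm (fun a b => Subtype.ext (hE a a.2 b b.2)) hθ)
  obtain ⟨μ, rfl⟩ := exists_eq_lin (isCharacter_of_irr hθ) h2
  refine ⟨μ, (Dvd.intro _ rfl).trans (index_inertia_mul_deg_dvd E χ.2 hθ h1), fun h x => ?_⟩
  have h3 := H14.clifford_invariant E χ.2 hθ h1 ((H14.inertia_eq_top_iff E).1 h)
  have h4 := congrFun h3 x
  have h5 := congrFun h3 1
  simp only [Pi.smul_apply, smul_eq_mul, OneMemClass.coe_one, lin_apply, map_one, Units.val_one,
    mul_one] at h4 h5
  rw [h4, h5, lin_apply]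

/-- Frobenius groups with abelian kernel and abelian complement. -/
theorem sd_frob (E : Subgroup G) [E.Normal] (hE : ∀ a ∈ E, ∀ b ∈ E, a * b = b * a)
    (hc : commutator G ≤ E) (hf : ∀ g, g ∉ E → ∀ n ∈ E, g * n = n * g → n = 1) :
    (E.index : ℤ) * sd G = -(E.index : ℤ) ^ 2 + ((Nat.card E : ℤ) - 1) * (E.index - 2) := by
  classical
  have hd : ∀ χ ∈ IK (⊥ : Subgroup G) \ IK E, charDegree χ.1 = E.index := by
    intro χ hχ
    have hn : ¬ E ≤ charKer χ.1 := fun h => (Finset.mem_sdiff.1 hχ).2 (mem_IK.2 h)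
    refine le_antisymm (deg_le_index_of_comm χ.2 E hE) ?_
    obtain ⟨μ, h1, h2⟩ := exists_lin E hE χ
    have h3 : H14.inertia E (lin μ) = E := by
      refine le_antisymm (fun g hg => by_contra fun hg' => hn ?_)
        (H14.le_inertia E (isClassFunction_of_irr (isIrr_lin μ)))
      have h4 : μ = 1 := by
        refine eq_one_of_conjHom_eq (K := ⊥) bot_le ?_ (g := g) ?_ ?_ ?_
        · rw [commutator_le]
          intro a ha b hb
          rw [mem_bot, commutatorElement_eq_one_iff_mul_comm]; exact hE a ha b hb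
        · intro n hn h
          rw [mem_bot, commutatorElement_eq_one_iff_mul_comm] at h
          exact mem_bot.2 (hf g hg' n hn h)
        · rw [mem_linOver, bot_subgroupOf]; exact bot_le
        · apply lin_injective
          rw [← conjChar_lin]; exact (H14.mem_inertia E).1 hg
      subst h4
      have h5 : H14.inertia E (lin (1 : Lin E)) = ⊤ := by
        rw [H14.inertia_eq_top_iff]; intro g n; simp
      rw [le_charKer_iff (irr_isCharacter χ)]
      intro x hx
      simpa using h2 h5 ⟨x, hx⟩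
    rw [h3] at h1
    exact Nat.le_of_dvd (deg_pos χ.2) h1
  have h1 := sum_sq_sdiff (bot_le : ⊥ ≤ E)
  rw [Finset.sum_congr rfl fun χ hχ => by rw [hd χ hχ], Finset.sum_const, index_bot,
    ← E.card_mul_index, smul_eq_mul] at h1
  rw [sd, sdK_split (bot_le : ⊥ ≤ E), sdK_of hc, Finset.sum_congr rfl fun χ hχ =>
    show wt χ = (E.index : ℤ) - 2 by unfold wt; rw [hd χ hχ], Finset.sum_const, nsmul_eq_mul]
  have h2 : ((IK (⊥ : Subgroup G) \ IK E).card : ℤ) * E.index + 1 = Nat.card E := by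
    have h0 : (E.index : ℤ) ≠ 0 := by exact_mod_cast E.index_ne_zero_of_finite
    apply mul_right_cancel₀ h0
    have : (((IK (⊥ : Subgroup G) \ IK E).card * E.index ^ 2 + E.index : ℕ) : ℤ) =
      ((Nat.card E * E.index : ℕ) : ℤ) := by rw [h1]
    push_cast at this
    linarith
  rw [← h2]; ring

theorem four_le_card (E : Subgroup G) [E.Normal] (hE : ∀ a ∈ E, ∀ b ∈ E, a * b = b * a)
    (h2 : ∀ M : Subgroup G, E ≤ M → M.index ≠ 2)
    (hc : ¬ commutator G ≤ centralizer (E : Set G)) : 4 ≤ Nat.card ↥(⁅E, (⊤ : Subgroup G)⁆) := by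
  have h1 : ∃ x ∈ ⁅E, (⊤ : Subgroup G)⁆, centralizer {x} ≠ ⊤ := by
    by_contra hn
    push Not at hn
    have h3 : ⁅⁅E, (⊤ : Subgroup G)⁆, (⊤ : Subgroup G)⁆ = ⊥ := by
      rw [commutator_eq_bot_iff_le_centralizer]
      intro x hx
      rw [mem_centralizer_iff]
      intro g _
      have : g ∈ centralizer {x} := by rw [hn x hx]; trivial
      exact (mem_centralizer_singleton_iff.1 this)
    apply hc
    rw [← commutator_eq_bot_iff_le_centralizer]
    exact commutator_commutator_eq_bot_of_rotate (by rw [commutator_comm ⊤ E]; exact h3) h3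
  obtain ⟨x, hx, hx'⟩ := h1
  have hxE : x ∈ E := commutator_le_left _ _ hx
  have h4 : (centralizer {x}).index ≠ 2 :=
    h2 _ fun e he => mem_centralizer_singleton_iff.2 (hE e he x hxE)
  have h5 : (centralizer {x}).index ≠ 1 := fun h => hx' (index_eq_one.1 h)
  have h6 : (centralizer {x}).index ≠ 0 := index_ne_zero_of_finite
  have h7 : (1 : G) ∉ {y | IsConj x y} := fun h => hx' (by
    rw [isConj_one_left.1 h, eq_top_iff]; intro g _; simp [mem_centralizer_singleton_iff])
  have h8 : insert 1 {y | IsConj x y} ⊆ (⁅E, (⊤ : Subgroup G)⁆ : Subgroup G) := by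
    rintro y (rfl | hy)
    · exact one_mem _
    · obtain ⟨c, rfl⟩ := isConj_iff.1 hy
      exact Normal.conj_mem inferInstance x hx c
  have h9 := Set.ncard_le_ncard h8
  rw [Set.ncard_insert_of_notMem h7, H91.ncard_isConj_eq_index] at h9
  rw [← Nat.card_coe_set_eq] at h9
  change _ ≤ Nat.card ↥(⁅E, (⊤ : Subgroup G)⁆) at h9
  omega

/-- An abelian normal subgroup on which `G'` acts nontrivially forces large average degree. -/
theorem sd_big (E : Subgroup G) [E.Normal] (hE : ∀ a ∈ E, ∀ b ∈ E, a * b = b * a)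
    (h2 : ∀ M : Subgroup G, E ≤ M → M.index ≠ 2) (hs : -2 ≤ sdK E) (hD : 6 < E.index)
    (hc : ¬ commutator G ≤ centralizer (E : Set G)) : 0 < sd G := by
  classical
  have h4 := four_le_card E hE h2 hc
  set K : Subgroup G := ⁅E, (⊤ : Subgroup G)⁆ with hK
  have hKE : K ≤ E := commutator_le_left _ _
  have hKc : K ≤ commutator G := commutator_mono le_top le_rfl
  set D := E.index with hDd
  have hd : ∀ χ ∈ IK (⊥ : Subgroup G) \ IK K,
      ((D : ℤ) - 2) * (charDegree χ.1 ^ 2 : ℕ) ≤ (D : ℤ) ^ 2 * wt χ := by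
    intro χ hχ
    have hn : ¬ K ≤ charKer χ.1 := fun h => (Finset.mem_sdiff.1 hχ).2 (mem_IK.2 h)
    have a1 : charDegree χ.1 ≤ D := deg_le_index_of_comm χ.2 E hE
    obtain ⟨μ, h1, h3⟩ := exists_lin E hE χ
    have a2 : (H14.inertia E (lin μ)).index ≠ 2 :=
      h2 _ (H14.le_inertia E (isClassFunction_of_irr (isIrr_lin μ)))
    have a3 : (H14.inertia E (lin μ)).index ≠ 1 := by
      intro h
      rw [index_eq_one] at h
      apply hn
      have b1 := h3 h
      have b2 := (H14.inertia_eq_top_iff E).1 h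
      rw [hK, commutator_le]
      intro e he g _
      have b3 : (⟨⁅e, g⁆, commutator_le_left E ⊤ (commutator_mem_commutator he (mem_top g))⟩ : E) =
          ⟨e, he⟩ * (⟨g * e * g⁻¹, Normal.conj_mem inferInstance e he g⟩ : E)⁻¹ := by
        apply Subtype.ext
        simp only [commutatorElement_def, coe_mul, coe_inv]
        group
      have b4 := b1 ⟨⁅e, g⁆, commutator_le_left E ⊤ (commutator_mem_commutator he (mem_top g))⟩
      have b5 : μ.hom ⟨g * e * g⁻¹, Normal.conj_mem inferInstance e he g⟩ = μ.hom ⟨e, he⟩ :=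
        Units.ext (b2 g ⟨e, he⟩)
      rw [b3, lin_apply, map_mul, map_inv, b5, mul_inv_cancel, Units.val_one, mul_one, ← b3] at b4
      exact (mem_charKer_iff (irr_isCharacter χ)).2 b4
    have a4 : (H14.inertia E (lin μ)).index ≠ 0 := index_ne_zero_of_finite
    have a5 := Nat.le_of_dvd (deg_pos χ.2) h1
    have a6 : (3 : ℤ) ≤ charDegree χ.1 := by exact_mod_cast (show 3 ≤ charDegree χ.1 by omega)
    have a7 : (charDegree χ.1 : ℤ) ≤ D := by exact_mod_cast a1
    have a8 : (6 : ℤ) < D := by exact_mod_cast hD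
    unfold wt
    push_cast
    generalize (charDegree χ.1 : ℤ) = d at *
    have a9 : 0 ≤ ((D : ℤ) - d) * (D * d - 2 * D - 2 * d) :=
      mul_nonneg (by omega) (by nlinarith)
    nlinarith
  have s1 := Finset.sum_le_sum hd
  rw [← Finset.mul_sum, ← Finset.mul_sum, ← Nat.cast_sum] at s1
  have s2 := sum_sq_sdiff (bot_le : ⊥ ≤ K)
  rw [index_bot, ← K.card_mul_index] at s2
  have s3 := orbit hKE
  rw [card_linOver, card_linOver, sup_eq_left.2 hKc] at s3
  -- `c = |E : K|`
  have s4 : K.relIndex E * D = K.index := relIndex_mul_index hKE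
  have s5 : (commutator G).relIndex (commutator G ⊔ E) * (commutator G ⊔ E).index =
    (commutator G).index := relIndex_mul_index le_sup_left
  rw [relIndex_sup_left] at s5
  have s6 : (commutator G).relIndex E ≤ K.relIndex E :=
    relIndex_le_of_le_left hKc index_ne_zero_of_finite
  have s7 : 0 < K.relIndex E := Nat.pos_of_ne_zero index_ne_zero_of_finite
  have s8 : 0 < (commutator G ⊔ E).index := Nat.pos_of_ne_zero index_ne_zero_of_finite
  rw [sd, sdK_split (bot_le : ⊥ ≤ K)]
  rw [← s4] at s2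
  rw [← s5] at s3
  generalize ∑ χ ∈ IK (⊥ : Subgroup G) \ IK K, wt χ = W at *
  generalize ∑ χ ∈ IK (⊥ : Subgroup G) \ IK K, charDegree χ.1 ^ 2 = S at *
  generalize K.relIndex E = c at *
  generalize (commutator G).relIndex E = r at *
  generalize (commutator G ⊔ E).index = l at *
  generalize Nat.card K = n at *
  generalize sdK K = a at *
  generalize sdK E = b at *
  zify at s2 s6 s7 s8 h4 hD
  push_cast at s3
  have t1 : -2 * (c : ℤ) ≤ a := by
    have : (l : ℤ) * (-2 * c) ≤ l * a := by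
      have : (r : ℤ) * l * (-2) ≤ r * l * b := mul_le_mul_of_nonneg_left hs (by positivity)
      nlinarith
    exact le_of_mul_le_mul_left this s8
  have t2 : (3 : ℤ) * (c * D) ≤ S := by nlinarith [mul_pos s7 (show (0 : ℤ) < D by omega)]
  have t3 : ((D : ℤ) - 2) * (3 * (c * D)) ≤ D ^ 2 * W :=
    (mul_le_mul_of_nonneg_left t2 (by omega)).trans s1
  by_contra hW
  have t4 : (D : ℤ) ^ 2 * W ≤ D ^ 2 * (2 * c) := mul_le_mul_of_nonneg_left (by omega) (by positivity)
  have t5 : 0 < (c : ℤ) * D * (D - 6) := by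
    have : (0 : ℤ) < D - 6 := by omega
    have : (0 : ℤ) < D := by omega
    positivity
  nlinarith

/-- The counting bound. -/
theorem sd_count : 0 ≤ sd G + (commutator G).index ∧
    (Nat.card G : ℤ) + 3 * (commutator G).index ≤ (sd G + (commutator G).index) ^ 2 +
      4 * (sd G + (commutator G).index) + 4 * Nat.card (ConjClasses G) := by
  classical
  have := Fintype.ofFinite (IrrCharacter G)
  have s1 := sdK_split (bot_le : ⊥ ≤ commutator G)
  rw [sdK_of le_rfl] at s1
  have s2 := sum_sq_sdiff (bot_le : ⊥ ≤ commutator G)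
  rw [index_bot] at s2
  have s3 := Finset.card_sdiff_add_card_eq_card (IK_anti (bot_le : ⊥ ≤ commutator G))
  rw [card_IK le_rfl] at s3
  have s4 : (IK (⊥ : Subgroup G)).card = Nat.card (ConjClasses G) := by
    rw [IK_bot, Finset.card_univ, ← Nat.card_eq_fintype_card, card_irr_eq_card_conjClasses]
  rw [s4] at s3
  set T := IK (⊥ : Subgroup G) \ IK (commutator G) with hT
  have h0 : ∀ χ ∈ T, 0 ≤ wt χ := by
    intro χ hχ
    have h1 : charDegree χ.1 ≠ 1 := fun h => (Finset.mem_sdiff.1 hχ).2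
      (mem_IK.2 ((deg_eq_one_iff_commutator_le χ.2).1 h))
    have h2 := deg_pos χ.2
    unfold wt; omega
  have h1 : sd G + (commutator G).index = ∑ χ ∈ T, wt χ := by rw [sd, s1]; ring
  have h2 : ∀ χ ∈ T, ((charDegree χ.1 ^ 2 : ℕ) : ℤ) ≤ (∑ χ ∈ T, wt χ) * wt χ + 4 * wt χ + 4 := by
    intro χ hχ
    have a1 := Finset.single_le_sum h0 hχ
    have a2 := mul_le_mul_of_nonneg_right a1 (h0 χ hχ)
    have a3 : (charDegree χ.1 : ℤ) = wt χ + 2 := by unfold wt; ring
    push_cast
    rw [a3]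
    nlinarith
  have h3 := Finset.sum_le_sum h2
  rw [Finset.sum_add_distrib, Finset.sum_add_distrib, ← Finset.mul_sum, ← Finset.mul_sum,
    Finset.sum_const, ← Nat.cast_sum, nsmul_eq_mul] at h3
  rw [h1]
  refine ⟨Finset.sum_nonneg h0, ?_⟩
  rw [← s2, ← s3]
  push_cast at h3 ⊢
  nlinarith

/-- Nonabelian simple groups. -/
theorem sd_simple [IsSimpleGroup G] (h : ¬ Group.IsSolvable G) : 0 < sd G := by
  classical
  have hc : commutator G = ⊤ := by
    rcases (inferInstance : (commutator G).Normal).eq_bot_or_eq_top with h1 | h1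
    · exact absurd (Group.isSolvable_of_comm (H12.comm_of_commutator_eq_bot h1)) h
    · exact h1
  have s1 := sdK_split (bot_le : ⊥ ≤ (⊤ : Subgroup G))
  rw [sdK_of (K := ⊤) le_top, index_top] at s1
  have s2 := sum_sq_sdiff (bot_le : ⊥ ≤ (⊤ : Subgroup G))
  rw [index_bot, index_top] at s2
  set T := IK (⊥ : Subgroup G) \ IK ⊤ with hT
  have h0 : ∀ χ ∈ T, 1 ≤ wt χ := by
    intro χ hχ
    have h1 : charDegree χ.1 ≠ 1 := fun h => (Finset.mem_sdiff.1 hχ).2
      (mem_IK.2 (hc ▸ (deg_eq_one_iff_commutator_le χ.2).1 h))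
    have h2 := deg_pos χ.2
    have h3 : charDegree χ.1 ≠ 2 := fun h' => two_not_mem_cd_of_simple h (mem_cd.2 ⟨χ, χ.2, h'⟩)
    unfold wt; omega
  by_contra hs
  have h1 : ∑ χ ∈ T, wt χ ≤ 1 := by rw [sd, s1] at hs; push_cast at hs; omega
  have h2 := Finset.card_nsmul_le_sum T wt 1 h0
  rw [nsmul_one] at h2
  have h3 : T.card ≤ 1 := by exact_mod_cast h2.trans h1
  rcases Nat.le_one_iff_eq_zero_or_eq_one.1 h3 with h4 | h4
  · rw [Finset.card_eq_zero.1 h4, Finset.sum_empty, zero_add] at s2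
    have := (Nat.card_eq_one_iff_unique.1 s2.symm).1
    exact h inferInstance
  · obtain ⟨χ, hχ⟩ := Finset.card_eq_one.1 h4
    have h5 := h0 χ (by rw [hχ]; exact Finset.mem_singleton_self χ)
    rw [hχ, Finset.sum_singleton] at h1 s2
    have h6 : charDegree χ.1 = 3 := by unfold wt at h1 h5; omega
    have h7 := dvd_card_of_mem_cd (G := G) (mem_cd.2 ⟨χ.1, χ.2, h6⟩)
    rw [← s2, h6] at h7
    norm_num at h7

end Cfsg.Agent.H3.Acd
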