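import Cfsg.Agent.H74.CksDefs
import Cfsg.Agent.H79.T3Qb1
import Cfsg.Agent.H85.Basic

/-!
# Project CKS: the window is covered if the first and the third root group do not commute
-/

set_option autoImplicit false

namespace Cfsg.Agent.H3.CksQf2

open Subgroup Cfsg.Agent.H74.Cks Cfsg.Agent.Lead.T3 Cfsg.Agent.H79.T3Q
open Cfsg.Agent.H85 (cj)
open scoped commutatorElement

section Rel

variable {G F : Type} [Group G] [Field F] {U1 U2 U3 U4 : Subgroup G} {d : QD F U4}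
  {x1 x3 : F → G} {a : U4 →* G} (R : QRel U1 U2 U3 U4 d x1 x3 a)
include R

theorem x1_zero : x1 0 = 1 := by
  have := R.add1 0 0
  rwa [add_zero, left_eq_mul] at this

theorem x3_zero : x3 0 = 1 := by
  have := R.add3 0 0
  rwa [add_zero, left_eq_mul] at this

theorem x1_neg (s : F) : x1 (-s) = (x1 s)⁻¹ :=
  eq_inv_of_mul_eq_one_left (by rw [← R.add1, neg_add_cancel, x1_zero R])

theorem x3_neg (s : F) : x3 (-s) = (x3 s)⁻¹ :=
  eq_inv_of_mul_eq_one_left (by rw [← R.add3, neg_add_cancel, x3_zero R])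

theorem cy (s : F) (y : U4) :
    (y : G) * x1 s * (y : G)⁻¹ = x1 s * a (d.sm (-s) y) * x3 (-s * d.Q y) := by
  have := R.r14 (-s) y
  rw [x1_neg R, inv_inv] at this
  rw [mul_assoc (x1 s), ← mul_inv_cancel_right (a _ * _) (y : G), ← this]; group

theorem x13 (s t : F) : x1 s * x3 t = a (d.z (d.σ s * t)) * x3 t * x1 s := by
  rw [← R.r13]; group

theorem az4 (u : F) (y : U4) : (y : G) * a (d.z u) = a (d.z u) * y := by
  have := R.r24 y (d.z u)
  rw [d.B_z, x3_zero R, mul_one] at this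
  exact mul_inv_eq_iff_eq_mul.1 this

omit R in
theorem az2 (u : F) (y : U4) : a y * a (d.z u) = a (d.z u) * a y := by
  rw [← map_mul, ← map_mul, d.z_comm]

/-- products of two elements of the first three root groups -/
theorem mul13 (s t s' t' : F) (y y' : U4) : x1 s * a y * x3 t * (x1 s' * a y' * x3 t') =
    x1 (s + s') * a (y * d.z (-(d.σ s' * t)) * y') * x3 (t + t') := by
  have e : x3 t * x1 s' = x1 s' * a (d.z (-(d.σ s' * t))) * x3 t := by
    rw [R.c12, mul_assoc, x13 R, z_neg, map_inv]; group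
  calc _ = x1 s * a y * (x3 t * x1 s') * a y' * x3 t' := by group
    _ = x1 s * (a y * x1 s') * a (d.z (-(d.σ s' * t))) * (x3 t * a y') * x3 t' := by rw [e]; group
    _ = _ := by rw [← R.c12, ← R.c23, R.add1, R.add3, map_mul, map_mul]; group

theorem inv13 (s t : F) (y : U4) : (x1 s * a y * x3 t)⁻¹ =
    x1 (-s) * a (y⁻¹ * d.z (-(d.σ s * t))) * x3 (-t) := by
  refine inv_eq_of_mul_eq_one_right ?_
  rw [mul13 R, add_neg_cancel, add_neg_cancel, x1_zero R, x3_zero R, map_neg, neg_mul, neg_neg,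
    mul_assoc y, ← mul_assoc (d.z _), d.z_comm, z_neg]
  simp

theorem comm13 : ⁅U1, U3⁆ ≤ (closure (Set.range d.z)).map a := by
  rw [commutator_le]
  intro g hg g' hg'
  obtain ⟨s, rfl⟩ := (R.mem1 g).1 hg
  obtain ⟨t, rfl⟩ := (R.mem3 g').1 hg'
  rw [commutatorElement_def, R.r13, mul_inv_cancel_right]
  exact mem_map_of_mem _ (subset_closure ⟨_, rfl⟩)

theorem az_mem (u : F) : a (d.z u) ∈ ⁅U1, U3⁆ := by
  have := commutator_mem_commutator ((R.mem1 _).2 ⟨1, rfl⟩) ((R.mem3 _).2 ⟨u, rfl⟩)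
  rwa [commutatorElement_def, R.r13, mul_inv_cancel_right, map_one, one_mul] at this

theorem mem13 {g : G} (hg : g ∈ ⁅U1, U3⁆) : ∃ u, g = a (d.z u) := by
  obtain ⟨y, hy, rfl⟩ := comm13 R hg
  suffices ∃ u, y = d.z u by obtain ⟨u, rfl⟩ := this; exact ⟨u, rfl⟩
  clear hg
  induction hy using closure_induction with
  | mem x hx => obtain ⟨u, rfl⟩ := hx; exact ⟨u, rfl⟩
  | one => exact ⟨0, (z_zero d).symm⟩
  | mul x y _ _ h1 h2 =>
    obtain ⟨u, rfl⟩ := h1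
    obtain ⟨v, rfl⟩ := h2
    exact ⟨u + v, (d.z_add u v).symm⟩
  | inv x _ h1 => obtain ⟨u, rfl⟩ := h1; exact ⟨-u, (z_neg d u).symm⟩

end Rel

section Quad

variable {G : Type} [Group G] {p n : ℕ} {S : Sys G p n} {i j k : Fin n} {F : Type} [Field F]
  (D : S.Quad i j k F) {K : Subgroup G} (hK : ∀ t, t ≠ 0 → D.h t ∈ K ∧ D.h' t ∈ K)
include hK

theorem scale {s t : F} {y : S.X k} (h : D.x1 s * D.a y * D.x3 t ∈ K) (c : F) :
    D.x1 (c * s) * D.a (D.d.sm c y) * D.x3 (c * t) ∈ K := by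
  by_cases hc : c = 0
  · rw [hc, zero_mul, zero_mul, D.d.sm_zero, map_one, x1_zero D.rel, x3_zero D.rel]
    simp
  have := mul_mem (mul_mem (hK c hc).1 h) (inv_mem (hK c hc).1)
  rwa [show ∀ g u v w : G, g * (u * v * w) * g⁻¹ = g * u * g⁻¹ * (g * v * g⁻¹) * (g * w * g⁻¹) by
    intros; group, D.h1 c hc, D.h2 c hc, D.h3 c hc] at this

theorem scale1 {s t : F} {y : S.X k} (h : D.x1 s * D.a y * D.x3 t ∈ K) (hs : s ≠ 0) :
    D.x1 1 * D.a (D.d.sm s⁻¹ y) * D.x3 (s⁻¹ * t) ∈ K := by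
  have := scale D hK h s⁻¹
  rwa [inv_mul_cancel₀ hs] at this

theorem line {c : F} (c0 : c ≠ 0) (c1 : c ≠ 1) {s t : F} {y y' : S.X k} (hs : s ≠ 0)
    (h : D.x1 s * D.a y * D.x3 t * y' ∈ K) : ∃ u l, D.x1 1 * D.a (D.d.z u) * D.x3 l ∈ K := by
  have R := D.rel
  have h1 := mul_mem (mul_mem (mul_mem (hK c c0).1 h) (inv_mem (hK c c0).1)) (inv_mem h)
  rw [show ∀ g u v w z : G, g * (u * v * w * z) * g⁻¹ * (u * v * w * z)⁻¹ =
    g * u * g⁻¹ * (g * v * g⁻¹) * (g * w * g⁻¹) * (g * z * g⁻¹) * z⁻¹ * (u * v * w)⁻¹ by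
      intros; group, D.h1 c c0, D.h2 c c0, D.h3 c c0, D.h4 c c0, mul_inv_cancel_right, inv13 R,
    mul13 R] at h1
  have h2 := scale1 D hK h1 (by
    rw [← sub_eq_add_neg, ← sub_one_mul]; exact mul_ne_zero (sub_ne_zero.2 c1) hs)
  generalize D.d.sm _ _ = y1 at h2
  generalize _ * (_ + _ : F) = t1 at h2
  have h3 := mul_mem (mul_mem (mul_mem (hK c c0).2 h2) (inv_mem (hK c c0).2)) (inv_mem h2)
  rw [show ∀ g u v w : G, g * (u * v * w) * g⁻¹ = g * u * g⁻¹ * (g * v * g⁻¹) * (g * w * g⁻¹) by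
    intros; group, D.k1 c c0, D.k2 c c0, D.k3 c c0, inv13 R, mul13 R, mul_assoc y1,
    ← mul_assoc (D.d.z _), D.d.z_comm, ← mul_assoc, ← mul_assoc, mul_inv_cancel, one_mul,
    ← D.d.z_add] at h3
  have h4 := scale1 D hK h3 (by
    rw [mul_one, ← sub_eq_add_neg, sub_ne_zero]; exact fun e => c1 (inv_eq_one.1 e))
  rw [D.d.sm_z] at h4
  exact ⟨_, _, h4⟩

theorem az_all {y : S.X k} (hy : y ≠ 1) (h : D.a y ∈ K) (u : F) : D.a (D.d.z u) ∈ K := by
  refine (closure_le (K.comap D.a)).2 ?_ (z_mem D.d hy u)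
  rintro _ ⟨c, rfl⟩
  have := scale D hK (s := 0) (t := 0) (y := y) (by
    rwa [x1_zero D.rel, x3_zero D.rel, one_mul, mul_one]) c
  rwa [mul_zero, x1_zero D.rel, x3_zero D.rel, one_mul, mul_one] at this

theorem z_all {y : S.X k} (hy : y ≠ 1) (h : (y : G) ∈ K) (u : F) : (D.d.z u : G) ∈ K := by
  refine (closure_le (K.comap (S.X k).subtype)).2 ?_ (z_mem D.d hy u)
  rintro _ ⟨c, rfl⟩
  by_cases hc : c = 0
  · simp only [hc, D.d.sm_zero]; exact one_mem _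
  change (D.d.sm c y : G) ∈ K
  rw [← D.k4 c hc]
  exact mul_mem (mul_mem (hK c hc).2 h) (inv_mem (hK c hc).2)

theorem x3_all {t : F} (ht : t ≠ 0) (h : D.x3 t ∈ K) (s : F) : D.x3 s ∈ K := by
  have := scale D hK (s := 0) (t := t) (y := 1) (by
    rwa [x1_zero D.rel, map_one, one_mul, one_mul]) (s * t⁻¹)
  rwa [mul_zero, x1_zero D.rel, sm_one', map_one, one_mul, one_mul, inv_mul_cancel_right₀ ht]
    at this

theorem cross {c : F} (hc : Un D.d c) {u l : F} (h : D.x1 1 * D.a (D.d.z u) * D.x3 l ∈ K)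
    (hl : D.d.σ (l / c) ≠ l / c) (v : F) : D.a (D.d.z v) ∈ K := by
  have R := D.rel
  have h1 := scale D hK h (l / c)
  rw [D.d.sm_z] at h1
  have h2 := mul_mem (mul_mem h h1) (inv_mem (mul_mem h1 h))
  rw [mul13 R, mul13 R, add_comm (_ * 1) 1, add_comm (_ * l) l, ← D.d.z_add, ← D.d.z_add,
    ← D.d.z_add, ← D.d.z_add, show ∀ u v w z : G, u * v * w * (u * z * w)⁻¹ = u * (v * z⁻¹) * u⁻¹ by
      intros; group, ← map_inv, ← map_mul, R.c12, mul_inv_cancel_right, ← z_neg,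
    ← D.d.z_add] at h2
  refine az_all D hK (fun e => ?_) h2 v
  have e1 := congrArg D.d.Q e
  rw [hc.Qz', Q_one, mul_eq_zero, or_iff_left hc.ne] at e1
  have e2 : ∀ x, x = (l / c - D.d.σ (l / c)) * (l / c) * c → x / c + D.d.σ (x / c) = 0 → False := by
    rintro _ rfl e2
    rw [mul_div_cancel_right₀ _ hc.ne, map_mul, map_sub, hc.inv] at e2
    exact hl (sub_eq_zero.1 (pow_eq_zero_iff two_ne_zero |>.1 (by linear_combination e2)))
  refine e2 _ ?_ e1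
  have := hc.ne
  simp only [mul_one, map_one]
  field_simp
  ring

end Quad

theorem qf2 (bas : Bas1Stmt) (lad : LadStmt) : Qf2Stmt := by
  intro G _ _ _ p n _ S i j k _ hjk _ F _ _ D hz H hH hF
  obtain ⟨-, -, -, -, -, bUT, -, -, bA, bQU, bX, bXQ, -, -, -, bs, bL, bm, -⟩ := bas S
  obtain ⟨l1, l2, -, l4, l5, l6, -⟩ := lad S H hH
  have R := D.rel
  have jk : j ≠ k := by rintro rfl; rw [bm] at hjk; omega
  set K := S.HJ H {j, k} with hKdef
  set Q := S.Q {j, k} with hQdef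
  have QK : Q ≤ K := le_sup_right
  have BP : ∀ J, S.B ≤ S.P J := fun J => H35.BN.B_le_PJ _
  have UB : S.U ≤ S.B := S.sp.U_le _
  have TB : S.T ≤ S.B := inf_le_left
  have nQ : ∀ J, S.P J ≤ normalizer (S.Q J : Set G) := fun J => S.sp.U_normal _
  have sP : ∀ J, ∀ l ∈ J, S.s l ∈ S.P J := fun J l hl => by
    obtain ⟨t, ht, e⟩ := bs l
    simpa using mul_mem (bL J l hl e) (inv_mem (BP J (TB ht)))
  have XU : ∀ l, S.X l ≤ S.U := fun l => le_sup_left.trans (bX l).1.le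
  have HK : ∀ g ∈ H, g ∈ S.P {j, k} → g ∈ K := fun g h1 h2 => mem_sup_left ⟨h1, h2⟩
  have hK : ∀ t, t ≠ 0 → D.h t ∈ K ∧ D.h' t ∈ K := fun t ht => by
    have e : S.T ⊓ (S.L i ⊔ S.L j) ≤ H := le_trans (inf_le_inf_left _ (sup_le
      (le_iSup₂_of_le (f := fun l (_ : l ∈ ({i, j} : Finset (Fin n))) => S.L l) i (by simp) le_rfl)
      (le_iSup₂_of_le (f := fun l (_ : l ∈ ({i, j} : Finset (Fin n))) => S.L l) j (by simp) le_rfl)))
      (l4 _ hF).2
    exact ⟨HK _ (e (D.hT t ht).1) (BP _ (TB (D.hT t ht).1.1)),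
      HK _ (e (D.hT t ht).2) (BP _ (TB (D.hT t ht).2.1))⟩
  have m1 : ∀ s, D.x1 s ∈ S.X j := fun s => (R.mem1 _).2 ⟨s, rfl⟩
  have m2 : ∀ y, D.a y ∈ S.Y k j := fun y => R.mem2 ▸ ⟨y, rfl⟩
  have m3 : ∀ s, D.x3 s ∈ S.Y j k := fun s => (R.mem3 _).2 ⟨s, rfl⟩
  have sN : ∀ l, S.s l ∈ S.bn.N := fun l => S.bn.subset (S.e l).2
  have ss : ∀ l l', cj (S.s l) (cj (S.s l) (S.X l')) = S.X l' := fun l l' => by
    rw [← H85.cj_mul]
    exact H85.cj_eq_of_mem_normalizer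
      (S.X_T l' ⟨S.bn.sq_mem _ (S.e l).2, mul_mem (sN l) (sN l)⟩)
  have T3 : S.T ≤ normalizer (S.Y j k : Set G) := fun t ht => by
    rw [← H85.cj_normalizer, H85.mem_cj]
    exact S.X_T j (mem_inf.2 ⟨H35.BN.conj_mem_B (sN k) ht,
      mul_mem (mul_mem (inv_mem (sN k)) (mem_inf.1 ht).2) (sN k)⟩)
  obtain ⟨u0, hu0⟩ := not_forall.1 hz
  have hc := un D.d hu0
  have q1 : S.X j ≤ S.Q {k} := bXQ _ _ (by simpa using jk)
  have q3 : S.Y j k ≤ S.Q {k} := H85.cj_le_of_mem_normalizer q1 (nQ _ (sP _ k (by simp)))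
  have cq : ∀ J, ∀ g ∈ S.P J, ∀ r ∈ S.Q J, g * r * g⁻¹ ∈ S.Q J := fun J g hg r hr =>
    (mem_normalizer_iff.1 (nQ J hg) r).1 hr
  have q2 : ∀ y, D.a y ∈ S.Q {k} := fun y => by
    have e := cq _ _ (BP {k} (UB (XU k y.2))) _ (q1 (m1 (-1)))
    rw [cy R, neg_neg, D.d.sm_one, mul_mem_cancel_right (q3 (m3 _)),
      mul_mem_cancel_left (q1 (m1 _))] at e
    exact e
  have q0 : Q ≤ S.Q {k} := bA _ _ (by simp)
  have r4 : S.X k ≤ S.Q {j} := bXQ _ _ (by simpa using jk.symm)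
  have r2 : S.Y k j ≤ S.Q {j} := H85.cj_le_of_mem_normalizer r4 (nQ _ (sP _ j (by simp)))
  have r3 : ∀ t, D.x3 t ∈ S.Q {j} := fun t => by
    have e := cq _ _ (BP {j} (UB (XU j (m1 (t / D.d.Q (D.d.z u0)))))) _ (r4 (D.d.z u0).2)
    rwa [R.r14, mul_mem_cancel_right (r4 (D.d.z u0).2), mul_mem_cancel_left (r2 (m2 _)),
      div_mul_cancel₀ _ hc.ne] at e
  have r0 : Q ≤ S.Q {j} := bA _ _ (by simp)
  have gen : ∀ N : Subgroup G, (∀ s, D.x1 s ∈ N) → (∀ y, D.a y ∈ N) → (∀ s, D.x3 s ∈ N) →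
      S.X k ≤ N → Q ≤ N → S.U ≤ N := fun N a1 a2 a3 a4 a0 g hg => by
    obtain ⟨s, y, t, y', r, hr, rfl⟩ := D.nf g hg
    exact mul_mem (mul_mem (mul_mem (mul_mem (a1 s) (a2 y)) (a3 t)) (a4 y'.2)) (a0 hr)
  have genB : ∀ N : Subgroup G, S.U ≤ N → S.T ≤ N → S.B ≤ N := fun N a1 a2 b hb => by
    obtain ⟨u, hu, t, ht, rfl⟩ := bUT b hb
    exact mul_mem (a1 hu) (a2 ht)
  -- a first element
  obtain ⟨s, y, t, y', hs, hv⟩ : ∃ (s : F) (y : S.X k) (t : F) (y' : S.X k), s ≠ 0 ∧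
      D.x1 s * D.a y * D.x3 t * y' ∈ K := by
    by_contra! h0
    refine l6 j (fun g hg => ?_) (l5 _ _ (by simp) hF)
    obtain ⟨s, y, t, y', r, hr, rfl⟩ := D.nf g hg.2
    have e := HK _ hg.1 (BP _ (UB hg.2))
    rw [mul_mem_cancel_right (QK hr)] at e
    have s0 : s = 0 := by_contra fun s0 => h0 s y t y' s0 e
    rw [s0, x1_zero R, one_mul]
    exact mul_mem (mul_mem (mul_mem (r2 (m2 y)) (r3 t)) (r4 y'.2)) (r0 hr)
  obtain ⟨c, c0, c1⟩ : ∃ c : F, c ≠ 0 ∧ c ≠ 1 := by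
    obtain ⟨c, e⟩ := hc.tr
    refine ⟨c, ?_, ?_⟩ <;> rintro rfl <;> simp at e
  obtain ⟨u, l, hv⟩ := line D hK c0 c1 hs hv
  -- the centre of the window
  set A := ⁅S.X j, S.Y j k⁆ with hA
  set Z := A ⊔ Q with hZ
  have PQ : ∀ g ∈ S.P {j, k}, g ∈ normalizer (Q : Set G) := nQ _
  have nz : ∀ {g : G}, g ∈ S.B → (∀ u, g * D.a (D.d.z u) = D.a (D.d.z u) * g) →
      g ∈ normalizer (Z : Set G) := fun {g} hg e =>
    H85.le_normalizer_sup (H := zpowers g) (zpowers_le.2 (centralizer_le_normalizer _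
      fun w hw => by obtain ⟨u, rfl⟩ := mem13 R hw; exact (e u).symm))
      (zpowers_le.2 (PQ _ (BP _ hg))) (mem_zpowers g)
  have BZ : S.B ≤ normalizer (Z : Set G) := genB _
    (gen _ (fun s => nz (UB (XU j (m1 s))) fun u => R.c12 _ _)
      (fun y => nz (UB (bQU _ (q2 y))) fun u => az2 _ _)
      (fun s => nz (UB (bQU _ (q3 (m3 s)))) fun u => (R.c23 _ _).symm)
      (fun y hy => nz (UB (XU k hy)) fun u => az4 R u ⟨y, hy⟩)
      (le_sup_right.trans le_normalizer))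
    (H85.le_normalizer_sup (H85.le_normalizer_commutator (S.X_T j) T3)
      fun t ht => PQ _ (BP _ (TB ht)))
  have sZ : cj (S.s k) Z = Z := by
    rw [hZ, H85.cj_sup, H85.cj_commutator, ss, Subgroup.commutator_comm,
      H85.cj_eq_of_mem_normalizer (PQ _ (sP _ k (by simp)))]
  have n3 : ∀ {g : G}, g ∈ S.B → (∀ s, g * D.x3 s * g⁻¹ ∈ S.Y j k ⊔ Z) →
      g ∈ normalizer ((S.Y j k ⊔ Z : Subgroup G) : Set G) := fun {g} hg e =>
    H85.mem_normalizer_of_cj_le (by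
      rw [H85.cj_sup, H85.cj_eq_of_mem_normalizer (BZ hg)]
      refine sup_le ?_ le_sup_right
      rintro _ ⟨w, hw, rfl⟩
      obtain ⟨s, rfl⟩ := (R.mem3 w).1 hw
      exact e s)
  have B3 : S.B ≤ normalizer ((S.Y j k ⊔ Z : Subgroup G) : Set G) := genB _
    (gen _ (fun s => n3 (UB (XU j (m1 s))) fun t => by
        rw [R.r13]
        exact mul_mem (mem_sup_right (mem_sup_left (az_mem R _))) (mem_sup_left (m3 _)))
      (fun y => n3 (UB (bQU _ (q2 y))) fun t => by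
        rw [R.c23, mul_inv_cancel_right]; exact mem_sup_left (m3 _))
      (fun s => le_normalizer (mem_sup_left (m3 s)))
      (fun y hy => n3 (UB (XU k hy)) fun t => by
        rw [← R.c34 t ⟨y, hy⟩, mul_inv_cancel_right]; exact mem_sup_left (m3 _))
      ((le_sup_right.trans le_sup_right).trans le_normalizer))
    (H85.le_normalizer_sup T3 (TB.trans BZ))
  set W := (K ⊓ S.Q {k}) ⊔ Z with hW
  have lad3 : ∀ y ∈ S.X k, (S.Y j k ≤ W ↔ cj y (S.X j) ≤ W) := fun y hy => by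
    obtain ⟨b, hb, hg⟩ := l1 k y hy
    have yB := UB (XU k hy)
    have gP : ∀ J, k ∈ J → y * S.s k * b ∈ S.P J := fun J hJ =>
      mul_mem (mul_mem (BP _ yB) (sP _ k hJ)) (BP _ hb)
    have e1 : cj (y * S.s k * b) Z = Z := by
      rw [H85.cj_mul, H85.cj_mul, H85.cj_eq_of_mem_normalizer (BZ hb), sZ,
        H85.cj_eq_of_mem_normalizer (BZ yB)]
    have e2 : cj (y * S.s k * b) W = W := by
      rw [hW, H85.cj_sup, H85.cj_inf, e1, H85.cj_eq_of_mem (HK _ hg (gP _ (by simp))),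
        H85.cj_eq_of_mem_normalizer (nQ _ (gP _ (by simp)))]
    have e3 : cj (y * S.s k * b) (S.Y j k ⊔ Z) = cj y (S.X j) ⊔ Z := by
      rw [H85.cj_mul, H85.cj_mul, H85.cj_eq_of_mem_normalizer (B3 hb), H85.cj_sup, ss, sZ,
        H85.cj_sup, H85.cj_eq_of_mem_normalizer (BZ yB)]
    have e4 := H85.cj_le_cj_iff (y * S.s k * b) (Q := S.Y j k ⊔ Z) (R := W)
    rw [e2, e3] at e4
    exact ⟨fun e => le_sup_left.trans (e4.2 (sup_le e le_sup_right)),
      fun e => le_sup_left.trans (e4.1 (sup_le e le_sup_right))⟩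
  have zW : ∀ u, D.a (D.d.z u) ∈ W := fun u => mem_sup_right (mem_sup_left (az_mem R u))
  obtain ⟨b, hb, hg⟩ := l1 j 1 (one_mem _)
  rw [one_mul] at hg
  have gK : S.s j * b ∈ K := HK _ hg (mul_mem (sP _ j (by simp)) (BP _ hb))
  have ladj : ∀ N : Subgroup G, S.B ≤ normalizer (N : Set G) → N ≤ K → cj (S.s j) N ≤ K :=
    fun N h1 h2 => by
      rw [← H85.cj_eq_of_mem_normalizer (h1 hb), ← H85.cj_mul]
      exact H85.cj_le_of_mem h2 gK
  have ZK : (∀ u, D.a (D.d.z u) ∈ K) → Z ≤ K := fun e =>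
    sup_le (fun w hw => by obtain ⟨u, rfl⟩ := mem13 R hw; exact e u) QK
  have W3 : S.Y j k ≤ W := by
    by_cases hl : D.d.σ (l / D.d.Q (D.d.z u0)) = l / D.d.Q (D.d.z u0)
    · obtain ⟨e, he⟩ := hc.exists_Qz hl
      rw [div_mul_cancel₀ _ hc.ne] at he
      rw [lad3 _ (D.d.z (-e)).2]
      rintro _ ⟨w, hw, rfl⟩
      obtain ⟨s, rfl⟩ := (R.mem1 w).1 hw
      have e1 := scale D hK hv s
      rw [D.d.sm_z, mul_one] at e1
      have e2 : _ ∈ W := mem_sup_left ⟨e1, mul_mem (mul_mem (q1 (m1 _)) (q2 _)) (q3 (m3 _))⟩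
      change _ * D.x1 s * _ ∈ W
      rw [cy R, D.d.sm_z, Qz_neg, he, neg_mul_neg, R.c12, mul_assoc, mul_mem_cancel_left (zW _)]
      rwa [R.c12, mul_assoc, mul_mem_cancel_left (zW _)] at e2
    · have e1 := cross D hK hc hv hl
      have e2 := ladj Z BZ (ZK e1) (H85.conj_mem_cj (mem_sup_left (az_mem R u0)))
      have e3 : S.s j * D.a (D.d.z u0) * (S.s j)⁻¹ ∈ S.X k :=
        (ss j k).le (H85.conj_mem_cj (m2 _))
      have e4 := z_all D hK (y := ⟨_, e3⟩) (fun e => hu0 (R.inj2 (by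
        have := congrArg Subtype.val e
        rw [map_one]
        simpa [mul_inv_eq_iff_eq_mul] using this))) e2 u0
      have e5 := mul_mem (mul_mem (mul_mem e4 hv) (inv_mem e4)) (inv_mem hv)
      rw [show ∀ g u v w : G, g * (u * v * w) * g⁻¹ = g * u * g⁻¹ * (g * v * g⁻¹) * (g * w * g⁻¹) by
        intros; group, cy R, az4 R, mul_inv_cancel_right, ← R.c34, mul_inv_cancel_right,
        D.d.sm_z, R.c12 1 (D.d.z _), R.c12 1 (D.d.z _), mul_assoc (D.a _), mul_assoc (D.a _),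
        mul_assoc (D.a _), mul_assoc (D.a _), mul_mem_cancel_left (e1 _),
        show ∀ g u v w : G, g * u * v * w * (v * g * w)⁻¹ = g * (u * v) * g⁻¹ * v⁻¹ by
          intros; group, mul_mem_cancel_right (inv_mem (e1 _)), ← R.c23, ← mul_assoc, R.c12,
        mul_assoc, mul_assoc, mul_mem_cancel_left (e1 _), ← mul_assoc, R.r13,
        mul_mem_cancel_left (e1 _)] at e5
      have e6 := x3_all D hK (mul_ne_zero (by simp) hc.ne) e5
      intro w hw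
      obtain ⟨s, rfl⟩ := (R.mem3 w).1 hw
      exact mem_sup_left ⟨e6 s, q3 hw⟩
  have W1 : S.X j ≤ W := by simpa only [H85.cj_one] using (lad3 1 (one_mem _)).1 W3
  have W2 : ∀ y, D.a y ∈ W := fun y => by
    have e := (lad3 _ y.2).1 W3 (H85.conj_mem_cj (m1 (-1)))
    rwa [cy R, neg_neg, D.d.sm_one, mul_mem_cancel_right (W3 (m3 _)),
      mul_mem_cancel_left (W1 (m1 _))] at e
  have ext : ∀ g ∈ W, ∃ u, g * D.a (D.d.z u) ∈ K := fun g hg => by
    obtain ⟨v, hv, w, hw, rfl⟩ := (H85.mem_sup_of_le_normalizer'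
      (inf_le_right.trans ((bQU _).trans (UB.trans BZ)))).1 hg
    obtain ⟨r, hr, w', hw', rfl⟩ := (H85.mem_sup_of_le_normalizer (A := Q) (B := A) (fun w hw => by
      obtain ⟨u, rfl⟩ := mem13 R hw
      exact PQ _ (BP _ (UB (bQU _ (q2 _)))))).1 ((sup_comm A Q).le hw)
    obtain ⟨u, rfl⟩ := mem13 R hw'
    exact ⟨-u, by
      rw [z_neg, map_inv, ← mul_assoc, mul_inv_cancel_right]; exact mul_mem hv.1 (QK hr)⟩
  have WK : W ≤ K := sup_le inf_le_left (ZK fun t => by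
    obtain ⟨u, e1⟩ := ext _ (W1 (m1 1))
    obtain ⟨u', e3⟩ := ext _ (W3 (m3 t))
    have e := mul_mem (mul_mem (mul_mem e1 e3) (inv_mem e1)) (inv_mem e3)
    rwa [R.c12, ← R.c23, show ∀ u v w z : G, u * v * (w * z) * (u * v)⁻¹ * (w * z)⁻¹ =
      u * (v * w * v⁻¹) * (v * z * v⁻¹) * u⁻¹ * z⁻¹ * w⁻¹ by intros; group, R.c12,
      mul_inv_cancel_right, R.r13, map_one, one_mul,
      show ∀ u v w x y z : G, u * v * (w * x) * y * x⁻¹ * z = u * v * w * (x * y * x⁻¹) * z by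
        intros; group, ← map_inv D.a (D.d.z u), ← R.c23,
      mul_inv_cancel_right, ← map_mul, ← map_mul, ← map_mul, ← map_inv, ← map_mul, ← z_neg,
      ← z_neg, ← D.d.z_add, ← D.d.z_add, ← D.d.z_add, ← D.d.z_add,
      show u + u' + t + -u + -u' = t by ring] at e)
  have QkK : S.Q {k} ≤ K := fun g hg => by
    obtain ⟨s, y, t, y', r, hr, rfl⟩ := D.nf g (bQU _ hg)
    rw [mul_mem_cancel_right (q0 hr), mul_mem_cancel_left
      (mul_mem (mul_mem (q1 (m1 _)) (q2 _)) (q3 (m3 _)))] at hg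
    rw [mem_bot.1 ((bX k).2.1.le ⟨y'.2, hg⟩), mul_one]
    exact mul_mem (WK (mul_mem (mul_mem (W1 (m1 _)) (W2 _)) (W3 (m3 _)))) (QK hr)
  have K4 : S.X k ≤ K := (ss j k).ge.trans ((H85.cj_mono _ (fun w hw => by
    obtain ⟨y, rfl⟩ := R.mem2.ge hw
    exact q2 y)).trans (ladj _ ((BP _).trans (nQ _)) QkK))
  exact (l2 {j, k}).1.symm.trans (inf_eq_right.2 (gen K (fun s => WK (W1 (m1 s)))
    (fun y => WK (W2 y)) (fun s => WK (W3 (m3 s))) K4 QK))

end Cfsg.Agent.H3.CksQf2
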