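import Cfsg.Agent.H75.CyGa
import Cfsg.Agent.H61.IvTg
import Cfsg.Agent.H71.CyGb
import Cfsg.Agent.H47.CyNof
import Cfsg.Agent.H9.CyTra
import Cfsg.Agent.H92.CyCor

/-! Project CY: for `p = 3` a good fixed subspace of a line centre is a line. -/

set_option autoImplicit false

namespace Cfsg.Agent.H3.CyG3

open Subgroup MulAction Cfsg.Agent.H11.Cy Cfsg.Agent.H45.Iv
open scoped commutatorElement

variable {G : Type} [Group G] {Ω : Type} [MulAction G Ω] {A : Ω → Subgroup G}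

/-- line centres -/
def Bl (A : Ω → Subgroup G) (z : G) : Prop := ∃ x y, x ≠ y ∧ z ∈ Zl A x y ∧ z ≠ 1

/-- acting linearly -/
def Lin (A : Ω → Subgroup G) (Ψ : Set Ω) (u : G) : Prop := ∀ d ∈ Ψ, ∀ a ∈ A d, (⁅u, a⁆ : G) ∈ Ts A Ψ

structure Cx (A : Ω → Subgroup G) : Prop where
  st : St 3 A
  ep : Eps A
  k : SK A
  ls : LS A
  ani : ∀ x y, x ≠ y → Ani A x y
  gd : ∀ z, Bl A z → Good A (Fx Ω z)
  ga : ∀ z, Bl A z → ∀ d ∈ Fx Ω z, GA A (Fx Ω z) d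
  gb : ∀ z, Bl A z → GB A (Fx Ω z)
  tra : ∀ z, Bl A z → ∀ b, z • b ≠ b →
    ∃ r ∈ Rl A b (z • b), r ∉ Zl A b (z • b) ∧ r⁻¹ * z ∈ Kl A b (z • b)
  cor : ∀ Ψ, Sub A Ψ → ∀ d ∈ Ψ, GA A Ψ d → GB A Ψ → ∀ u : G, u ^ 4 = 1 →
    (∀ w, u • w ∈ Ψ ↔ w ∈ Ψ) → (∀ a ∈ A d, ⁅u, a⁆ ∈ Ts A Ψ) → (u * u) • d ≠ d →
    ∃ z0 ∈ Ts A Ψ ⊓ Cs A Ψ, z0 * (u * u) = (u * u) * z0 ∧ ∃ y ∈ Ψ, y ≠ d ∧
      (⁅u, z0⁆ : G) ∈ Zl A d y ∧ (⁅u, z0⁆ : G) ≠ 1

theorem pres {z u : G} (h : z * u = u * z) (w : Ω) : u • w ∈ Fx Ω z ↔ w ∈ Fx Ω z := by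
  change z • u • w = u • w ↔ z • w = w
  rw [← mul_smul, h, mul_smul, smul_left_cancel_iff]

omit [MulAction G Ω] in
theorem T_M (Ψ : Set Ω) : Ts A Ψ ≤ Ms A Ψ := commutator_le.2 fun _ hg _ hh =>
  mul_mem (mul_mem (mul_mem hg hh) (inv_mem hg)) (inv_mem hh)

omit [MulAction G Ω] in
theorem cjT {Ψ : Set Ω} {m t : G} (hm : m ∈ Ms A Ψ) (ht : t ∈ Ts A Ψ) : m * t * m⁻¹ ∈ Ts A Ψ := by
  have := mul_mem (commutator_mem_commutator hm (T_M Ψ ht)) ht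
  rwa [commutatorElement_def, inv_mul_cancel_right] at this

namespace Cx
variable (c : Cx A)
include c

theorem RF {x y : Ω} (h : x ≠ y) : Rl A x y ≤ Fl A x y := le_sup_left.trans (c.ls x y h).1.sup.le

theorem sq {z : G} (h : Bl A z) : z * z = 1 := by
  obtain ⟨x, y, hxy, hz, -⟩ := h
  exact (c.ls x y hxy).2.2.1.zsq z hz

theorem sub {z : G} (h : Bl A z) : Sub A (Fx Ω z) := by
  obtain ⟨x, y, hxy, hz, -⟩ := h
  exact (c.k.fx x y hxy z hz).1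

theorem pts {x y : Ω} (hxy : x ≠ y) {z : G} (hz : z ∈ Zl A x y) : x ∈ Fx Ω z ∧ y ∈ Fx Ω z :=
  ⟨(c.k.fx x y hxy z hz).2.1 (c.k.ln x y).1, (c.k.fx x y hxy z hz).2.1 (c.k.ln x y).2⟩

theorem eq_of_le {z z' : G} (h : Bl A z) (h' : Bl A z') (e : Fx Ω z ⊆ Fx Ω z') :
    Fx Ω z = Fx Ω z' := by
  obtain ⟨x, y, hxy, hz, -⟩ := h
  exact e.antisymm fun w hw =>
    c.gd z' h' x (e (c.pts hxy hz).1) y (e (c.pts hxy hz).2) hxy z hz w hw

theorem same {z z' : G} (h : Bl A z) {x y : Ω} (hx : x ∈ Fx Ω z) (hy : y ∈ Fx Ω z) (hxy : x ≠ y)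
    (hz : z' ∈ Zl A x y) (n : z' ≠ 1) : Fx Ω z' = Fx Ω z :=
  (c.eq_of_le h ⟨x, y, hxy, hz, n⟩ fun w hw => c.gd z h x hx y hy hxy z' hz w hw).symm

theorem exR {x y : Ω} (hxy : x ≠ y) : ∃ r ∈ Rl A x y, r ∉ Zl A x y := by
  obtain ⟨r, hr, e⟩ := (c.ls x y hxy).1.tr y (c.k.ln x y).2
  exact ⟨r, hr, fun hz => hxy (((c.ep.kfix x y hxy r).1 hz.2 x (c.k.ln x y).1).symm.trans e)⟩

theorem sqT {z t : G} (h : Bl A z) (ht : t ∈ Ts A (Fx Ω z)) (n : t ∉ Cs A (Fx Ω z)) :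
    Bl A (t * t) ∧ Fx Ω (t * t) = Fx Ω z := by
  obtain ⟨x, _, hxy, hz, -⟩ := id h
  have hx := (c.pts hxy hz).1
  obtain ⟨y, hy, ny, r, hr, nr, kk, hk, rfl⟩ := (c.ga z h x hx).lin t ht n
  have k2 := c.gb z h kk hk
  have e := mem_centralizer_iff.1 hk.2 r ((c.k.fle _ x hx y hy).1 (c.RF ny.symm hr))
  have e2 : r * kk * (r * kk) = r * r := by
    calc r * kk * (r * kk) = r * (kk * r) * kk := by group
      _ = r * (r * kk) * kk := by rw [← e]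
      _ = r * r * (kk * kk) := by group
      _ = r * r := by rw [k2, mul_one]
  rw [e2]
  have a := (c.ls x y ny.symm).2.1.sq r hr
  have b := c.ani x y ny.symm r hr nr
  exact ⟨⟨x, y, ny.symm, a, b⟩, c.same h hx hy ny.symm a b⟩

theorem nolin {z z1 u : G} (h : Bl A z) (h1 : Bl A z1) (ne : Fx Ω z ≠ Fx Ω z1)
    (hu : u ∈ Ts A (Fx Ω z1)) (nu : u ∉ Cs A (Fx Ω z1)) (pu : ∀ w, u • w ∈ Fx Ω z ↔ w ∈ Fx Ω z) :
    ¬ Lin A (Fx Ω z) u := fun l => by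
  obtain ⟨bw, ew⟩ := c.sqT h1 hu nu
  have u4 : u ^ 4 = 1 := by
    rw [← c.sq bw]
    simp only [pow_succ, pow_zero, one_mul, mul_assoc]
  obtain ⟨d, hd, md⟩ : ∃ d ∈ Fx Ω z, (u * u) • d ≠ d := by
    by_contra e
    exact ne (c.eq_of_le h h1 fun d hd => ew ▸ by_contra fun e' => e ⟨d, hd, e'⟩)
  obtain ⟨z0, -, c0, y2, hy2, ny2, hz2, nz2⟩ := c.cor _ (c.sub h) d hd (c.ga z h d hd) (c.gb z h)
    u u4 pu (l d hd) md
  have zT : (⁅u, z0⁆ : G) ∈ Ts A (Fx Ω z1) := by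
    have e : (⁅u, z0⁆ : G) = u * (z0 * u⁻¹ * z0⁻¹) := by
      simp only [commutatorElement_def]; group
    rw [e]
    exact mul_mem hu ((c.k.nrm _ z0 (ew ▸ pres c0.symm)).2.1 _ (inv_mem hu))
  generalize (⁅u, z0⁆ : G) = z2 at hz2 nz2 zT
  have b2 : Bl A z2 := ⟨d, y2, ny2.symm, hz2, nz2⟩
  have zC : z2 ∈ Cs A (Fx Ω z1) := by
    by_contra e
    obtain ⟨⟨_, _, -, -, n⟩, -⟩ := c.sqT h1 zT e
    exact n (c.sq b2)
  refine ne (c.eq_of_le h1 h fun w hw => ?_).symm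
  rw [← c.same h hd hy2 ny2.symm hz2 nz2]
  exact c.k.csfix _ z2 zC w hw

theorem three [Finite G] (d : Ω) : ∃ a ∈ A d, a ≠ 1 ∧ ∀ b ∈ A d, b = 1 ∨ b = a ∨ b = a⁻¹ := by
  haveI : Fact (Nat.Prime 3) := ⟨by decide⟩
  have hc := c.st.card d
  haveI : Nontrivial (A d) := Finite.one_lt_card_iff_nontrivial.1 (by rw [hc]; decide)
  obtain ⟨a, ha⟩ := exists_ne (1 : A d)
  refine ⟨a, a.2, fun e => ha (Subtype.ext e), fun b hb => ?_⟩
  have a3 : a ^ 3 = 1 := by rw [← hc]; exact pow_card_eq_one'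
  obtain ⟨n, hn⟩ := (mem_powers_iff_mem_zpowers.2 (mem_zpowers_of_prime_card hc ha (g' := ⟨b, hb⟩)))
  have e : a ^ (n % 3) = ⟨b, hb⟩ := by rw [← pow_eq_pow_mod _ a3]; exact hn
  have e' : (a : G) ^ (n % 3) = b := congrArg Subtype.val e
  have a3' : (a : G) ^ 3 = 1 := congrArg Subtype.val a3
  have : n % 3 = 0 ∨ n % 3 = 1 ∨ n % 3 = 2 := by omega
  rcases this with h | h | h <;> rw [h] at e'
  · exact Or.inl (by rw [← e', pow_zero])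
  · exact Or.inr (Or.inl (by rw [← e', pow_one]))
  · exact Or.inr (Or.inr (by rw [← e', eq_inv_iff_mul_eq_one, ← pow_succ, a3']))

theorem two [Finite G] {z u v : G} (h : Bl A z) (pu : ∀ w, u • w ∈ Fx Ω z ↔ w ∈ Fx Ω z)
    (pv : ∀ w, v • w ∈ Fx Ω z ↔ w ∈ Fx Ω z) :
    Lin A (Fx Ω z) u ∨ Lin A (Fx Ω z) v ∨ Lin A (Fx Ω z) (u * v) := by
  obtain ⟨x, y, hxy, hz, -⟩ := id h
  obtain ⟨hx, hy⟩ := c.pts hxy hz
  obtain ⟨a, ha, a1, h3⟩ := c.three x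
  have aM : a ∈ Ms A (Fx Ω z) := (c.k.fle _ x hx x hx).1 (mem_sup_left ha)
  have lin : ∀ g : G, (∀ w, g • w ∈ Fx Ω z ↔ w ∈ Fx Ω z) → g * a * g⁻¹ * a⁻¹ ∈ Ts A (Fx Ω z) →
      Lin A (Fx Ω z) g := fun g pg e d hd b hb => by
    obtain ⟨t', ht', a', ha', rfl⟩ := (c.ga z h x hx).dec b
      ((c.k.fle _ d hd d hd).1 (mem_sup_left hb))
    have e1 : (⁅g, t' * a'⁆ : G) = g * t' * g⁻¹ * ⁅g, a'⁆ * t'⁻¹ := by
      simp only [commutatorElement_def]; group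
    rw [e1]
    refine mul_mem (mul_mem ((c.k.nrm _ g pg).2.1 t' ht') ?_) (inv_mem ht')
    rcases h3 a' ha' with rfl | rfl | rfl
    · simp
    · exact e
    · convert cjT (inv_mem aM) (inv_mem e) using 1
      simp only [commutatorElement_def]; group
  have pm : ∀ g : G, (∀ w, g • w ∈ Fx Ω z ↔ w ∈ Fx Ω z) →
      g * a * g⁻¹ * a⁻¹ ∈ Ts A (Fx Ω z) ∨ g * a * g⁻¹ * a ∈ Ts A (Fx Ω z) := fun g pg => by
    obtain ⟨t', ht', a', ha', e⟩ := (c.ga z h x hx).dec _ ((c.k.nrm _ g pg).1 a aM)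
    rcases h3 a' ha' with rfl | rfl | rfl
    · exfalso
      have pg' : ∀ w, g⁻¹ • w ∈ Fx Ω z ↔ w ∈ Fx Ω z := fun w => by
        rw [← pg (g⁻¹ • w), smul_inv_smul]
      have aT : a ∈ Ts A (Fx Ω z) := by
        have := (c.k.nrm _ g⁻¹ pg').2.1 t' ht'
        rw [← mul_one t', ← e] at this
        convert this using 1
        group
      have := c.k.csfix _ a ((c.ga z h x hx).stab a aT (c.st.fix x a ha)) y hy
      rcases c.st.semi x y a ha this with e | e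
      exacts [a1 e, hxy e.symm]
    · left; rw [e]; simpa using ht'
    · right; rw [e]; simpa using ht'
  rcases pm u pu with eu | eu
  · exact Or.inl (lin u pu eu)
  rcases pm v pv with ev | ev
  · exact Or.inr (Or.inl (lin v pv ev))
  refine Or.inr (Or.inr (lin _ (fun w => by rw [mul_smul, pu, pv]) ?_))
  convert mul_mem ((c.k.nrm _ u pu).2.1 _ ev) (cjT aM (inv_mem eu)) using 1
  group

theorem disj {z z1 u : G} (h : Bl A z) (h1 : Bl A z1) (ne : Fx Ω z ≠ Fx Ω z1)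
    (hu : u ∈ Ts A (Fx Ω z1)) (nu : u ∉ Cs A (Fx Ω z1)) (pu : ∀ w, u • w ∈ Fx Ω z ↔ w ∈ Fx Ω z)
    (d : Ω) (hd : d ∈ Fx Ω z) : d ∉ Fx Ω z1 := fun hd1 => by
  have n : d ≠ u • d := fun e => nu ((c.ga z1 h1 d hd1).stab u hu e.symm)
  obtain ⟨r, hr, nr⟩ := c.exR n
  have a := (c.ls _ _ n).2.1.sq r hr
  have b := c.ani _ _ n r hr nr
  exact ne ((c.same h hd ((pu d).2 hd) n a b).symm.trans
    (c.same h1 hd1 (c.k.inv _ (c.sub h1) u (T_M _ hu) d hd1) n a b))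

/-- the translation of a moved point -/
theorem trn {z : G} (h : Bl A z) {b : Ω} (hb : z • b ≠ b) : ∃ r ∈ Rl A b (z • b),
    r ∉ Zl A b (z • b) ∧ r⁻¹ * z ∈ Kl A b (z • b) ∧ r • b = z • b ∧ z * r = r * z := by
  obtain ⟨r, hr, n, k1⟩ := c.tra z h b hb
  refine ⟨r, hr, n, k1, ?_, ?_⟩
  · have := (c.ep.kfix _ _ hb.symm _).1 k1 b (c.k.ln _ _).1
    rw [mul_smul, inv_smul_eq_iff] at this
    exact this.symm
  · have e2 := mem_centralizer_iff.1 k1 r (c.RF hb.symm hr)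
    calc z * r = r * (r⁻¹ * z * r) := by group
      _ = r * z := by rw [← e2]; group

theorem act [Finite G] {z z1 u z' : G} (h : Bl A z) (h1 : Bl A z1) (ne : Fx Ω z ≠ Fx Ω z1)
    (hu : u ∈ Ts A (Fx Ω z1)) (nu : u ∉ Cs A (Fx Ω z1)) (pu : ∀ w, u • w ∈ Fx Ω z ↔ w ∈ Fx Ω z)
    (h' : Bl A z') (e' : Fx Ω z' = Fx Ω z) (cm : z1 * z' = z' * z1) (b : Ω) (hb : b ∈ Fx Ω z1) :
    z' • b = u • b := by
  have nb : z' • b ≠ b := fun e => c.disj h h1 ne hu nu pu b (e' ▸ e) hb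
  obtain ⟨r, hr, -, -, rb, cr⟩ := c.trn h' nb
  have rT := (c.k.fle _ b hb _ ((pres cm b).2 hb)).2 hr
  have nr : r ∉ Cs A (Fx Ω z1) := fun e => nb (rb ▸ c.k.csfix _ r e b hb)
  have pr : ∀ w, r • w ∈ Fx Ω z ↔ w ∈ Fx Ω z := e' ▸ pres cr
  have : u * r ∈ Cs A (Fx Ω z1) := by
    by_contra e
    rcases c.two h pu pr with l | l | l
    exacts [c.nolin h h1 ne hu nu pu l, c.nolin h h1 ne rT nr pr l,
      c.nolin h h1 ne (mul_mem hu rT) e (fun w => by rw [mul_smul, pu, pr]) l]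
  have f1 := c.k.csfix _ _ this b hb
  have f2 := c.k.csfix _ _ ((c.ga z1 h1 b hb).sq u hu) b hb
  rw [mul_smul] at f1 f2
  rw [← rb]
  exact (smul_left_cancel_iff u).1 (f1.trans f2.symm)

theorem main [Finite G] {x y : Ω} (hxy : x ≠ y) {z : G} (hz : z ∈ Zl A x y) (z1 : z ≠ 1) :
    Fx Ω z ⊆ Ln A x y := fun w hw => by
  by_contra nw
  have h : Bl A z := ⟨x, y, hxy, hz, z1⟩
  obtain ⟨hx, hy⟩ := c.pts hxy hz
  have ga := c.ga z h x hx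
  obtain ⟨b, hb⟩ : ∃ b : Ω, z • b ≠ b := by
    by_contra e
    exact z1 (c.st.faith z fun w => by_contra fun e' => e ⟨w, e'⟩)
  obtain ⟨u, hu, nu, -, ub, cu⟩ := c.trn h hb
  have a1 := (c.ls _ _ hb.symm).2.1.sq u hu
  have h1 : Bl A (u * u) := ⟨_, _, hb.symm, a1, c.ani _ _ hb.symm u hu nu⟩
  obtain ⟨b1, b2⟩ := c.pts hb.symm a1
  have uT := (c.k.fle _ _ b1 _ b2).2 hu
  have nb : u • b ≠ b := ub ▸ hb
  have uC : u ∉ Cs A (Fx Ω (u * u)) := fun e => nb (c.k.csfix _ u e b b1)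
  have ne : Fx Ω z ≠ Fx Ω (u * u) := fun e => hb (show b ∈ Fx Ω z from e ▸ b1)
  have cz : z * (u * u) = u * u * z := by rw [← mul_assoc, cu, mul_assoc, cu, mul_assoc]
  have uu : u • u • b = b := by rw [← mul_smul]; exact b1
  rw [← ub] at b2
  generalize u * u = z2 at h1 b1 b2 uT uC ne cz
  have nx : z2 • x ≠ x := c.disj h h1 ne uT uC (pres cu) x hx
  obtain ⟨r, hr, -, kr, rx, cr⟩ := c.trn h1 nx
  have rT := (c.k.fle _ x hx _ ((pres cz x).2 hx)).2 hr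
  have rC : r ∉ Cs A (Fx Ω z) := fun e => nx (rx ▸ c.k.csfix _ r e x hx)
  have kC : r⁻¹ * z2 ∈ Cs A (Fx Ω z) := c.k.csof _ x hx _
    (fun a ha => mem_centralizer_iff.1 kr a (mem_sup_left ha)) fun d hd => by
      rw [mul_smul, c.act h1 h ne.symm rT rC (pres cr) h1 rfl cz d hd, inv_smul_smul]
  have sw : ∀ t ∈ Ts A (Fx Ω z), t ∉ Cs A (Fx Ω z) →
      (t * t) • b = u • b ∧ (t * t) • u • b = b := fun t ht n => by
    obtain ⟨bt, et⟩ := c.sqT h ht n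
    have e1 := mem_centralizer_iff.1 (ga.sq t ht) r (T_M _ rT)
    have e2 := mem_centralizer_iff.1 kC _ (T_M _ (mul_mem ht ht))
    have cm : z2 * (t * t) = t * t * z2 := by
      calc z2 * (t * t) = r * (r⁻¹ * z2 * (t * t)) := by group
        _ = r * (t * t) * (r⁻¹ * z2) := by rw [← e2]; group
        _ = _ := by rw [e1]; group
    exact ⟨c.act h h1 ne uT uC (pres cu) bt et cm b b1,
      (c.act h h1 ne uT uC (pres cu) bt et cm _ b2).trans uu⟩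
  have cw : ∀ t ∈ Ts A (Fx Ω z), ∀ s ∈ Ts A (Fx Ω z), t ∉ Cs A (Fx Ω z) → s ∉ Cs A (Fx Ω z) →
      t * s ∉ Cs A (Fx Ω z) → (⁅t, s⁆ : G) • b = u • b ∧ (⁅t, s⁆ : G) • u • b = b :=
    fun t ht s hs nt ns nts => by
    have e1 := mem_centralizer_iff.1 (ga.sq t ht) s (T_M _ hs)
    have e : t * s * (t * s) = ⁅t, s⁆ * (t * t) * (s * s) := by
      calc t * s * (t * s) = ⁅t, s⁆ * (s * (t * t)) * s := by
            simp only [commutatorElement_def]; group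
        _ = _ := by rw [e1]; group
    obtain ⟨p1, p2⟩ := sw t ht nt
    obtain ⟨q1, q2⟩ := sw s hs ns
    obtain ⟨r1, r2⟩ := sw _ (mul_mem ht hs) nts
    rw [e, mul_smul, mul_smul, q1, p2] at r1
    rw [e, mul_smul, mul_smul, q2, p1] at r2
    exact ⟨r1, r2⟩
  obtain ⟨p, hp, np⟩ := c.exR hxy
  obtain ⟨q, hq, eq⟩ := (c.ls x y hxy).2.2.2.full p hp np _ ((c.ls x y hxy).2.1.sq p hp)
  have nc : p * q ≠ q * p := fun e =>
    c.ani x y hxy p hp np (eq ▸ commutatorElement_eq_one_iff_mul_comm.2 e)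
  have RT := (c.k.fle _ x hx y hy).2
  have pM := T_M _ (RT hp)
  have qM := T_M _ (RT hq)
  obtain ⟨t, ht, tx⟩ := ga.tr w hw
  have nt : ∀ g ∈ Rl A x y, g * t ∉ Cs A (Fx Ω z) := fun g hg e => by
    have := c.k.csfix _ _ e x hx
    rw [mul_smul, tx, smul_eq_iff_eq_inv_smul] at this
    exact nw (this ▸ (c.ep.nrm x y hxy g⁻¹).1 (le_normalizer (inv_mem (c.RF hxy hg))) x
      (c.k.ln x y).1)
  have pC : p ∉ Cs A (Fx Ω z) := fun e => nc (mem_centralizer_iff.1 e q qM).symm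
  have c1 := cw p (RT hp) q (RT hq) pC (fun e => nc (mem_centralizer_iff.1 e p pM)) fun e => nc (by
    have := mem_centralizer_iff.1 e p pM
    rw [mul_assoc p q p] at this
    exact mul_left_cancel this)
  have c2 := cw p (RT hp) t ht pC (by simpa using nt 1 (one_mem _)) (nt p hp)
  have c3 := cw p (RT hp) _ (mul_mem (RT hq) ht) pC (nt q hq)
    (by rw [← mul_assoc]; exact nt _ (mul_mem hp hq))
  have e1 := mem_centralizer_iff.1 (ga.com p (RT hp) t ht) q qM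
  have e : (⁅p, q * t⁆ : G) = ⁅p, q⁆ * ⁅p, t⁆ := by
    calc (⁅p, q * t⁆ : G) = ⁅p, q⁆ * (q * ⁅p, t⁆) * q⁻¹ := by
          simp only [commutatorElement_def]; group
      _ = _ := by rw [e1]; group
  rw [e, mul_smul, c2.1, c1.2] at c3
  exact nb c3.1.symm

end Cx

/-- **G3** -/
theorem g3 : All fun _ _ Ω _ p A => p = 3 → Eps A → SK A → LS A → Fpf A →
    (∀ x y, x ≠ y → Ani A x y) →
    (∀ x y, x ≠ y → ∀ z ∈ Zl A x y, z ≠ 1 → Good A (Fx Ω z)) →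
    ∀ x y, x ≠ y → ∀ z ∈ Zl A x y, z ≠ 1 → Fx Ω z ⊆ Ln A x y := by
  intro G _ _ Ω _ _ p A h p3 ep k ls f ani good x y hxy z hz z1
  subst p3
  have p2 : (3 : ℕ) ≠ 2 := by decide
  have GAa := H75.CyGa.ga H61.IvTg.tg G Ω 3 A h p2 ep k ls f
  have gd : ∀ z, Bl A z → Good A (Fx Ω z) := fun z ⟨x, y, hxy, hz, n⟩ => good x y hxy z hz n
  have sb : ∀ z, Bl A z → Sub A (Fx Ω z) := fun z ⟨x, y, hxy, hz, _⟩ => (k.fx x y hxy z hz).1
  refine Cx.main ⟨h, ep, k, ls, ani, gd, fun z hz => GAa _ (sb z hz) (gd z hz), fun z hz => ?_,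
    fun z hz b hb => ?_, H92.CyCor.cor G Ω 3 A h k ls ani⟩ hxy hz z1
  · obtain ⟨x, y, hxy, hz', -⟩ := id hz
    have hx := (k.fx x y hxy z hz').2.1 (k.ln x y).1
    exact H71.CyGb.gb G Ω 3 A h p2 k ls _ (sb z hz) (gd z hz) x hx (GAa _ (sb z hz) (gd z hz) x hx)
  · obtain ⟨x, y, hxy, hz', -⟩ := id hz
    exact H9.CyTra.tra G Ω 3 A h p2 ep k ls z ((ls x y hxy).2.2.1.zsq z hz') b hb
      (H47.CyNof.nof G Ω 3 A h ep k ls x y hxy z hz' b hb)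

end Cfsg.Agent.H3.CyG3
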