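import Cfsg.Agent.H56.SpDefs

/-! Project CY, chapter SP, piece BB: the two tori commute. -/

set_option autoImplicit false

namespace Cfsg.Agent.H3.CySpBb

open Subgroup MulAction Cfsg.Agent.H11.Cy Cfsg.Agent.H56.Sp

variable {G : Type} [Group G] {Ω : Type} [MulAction G Ω] {p : ℕ} {A : Ω → Subgroup G}
  {x y x' y' : Ω} {z u : G}

theorem symm (h : Pr A x y x' y' z u) : Pr A x' y' x y u z :=
  ⟨h.ne', h.ne, h.hu, h.hz, h.zu.symm, h.cm.symm⟩

theorem hi (hy : Hy p A) (h : Pr A x y x' y' z u) : Hi A x y u ∧ Fp A x y u :=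
  hy.cz.hi x y h.ne z h.hz u ⟨_, _, h.ne', h.hu⟩ h.zu h.cm

theorem tN (hy : Hy p A) (h : Pr A x y x' y' z u) : Tl A x' y' z ≤ Nl A x y := fun t ht => by
  rw [← hy.cz.cz x y h.ne z h.hz]
  exact ht.2

theorem dic (hy : Hy p A) (h : Pr A x y x' y' z u) {t : G} (ht : t ∈ Tl A x' y' z) :
    t ∈ Cl A x y u ∨ ((∀ s ∈ Tl A x y u, t * s * t⁻¹ = s⁻¹) ∧ t * t ∈ Kl A x y) := by
  refine (hy.pg x y h.ne).dic u (hi hy h).1 (hi hy h).2 t (tN hy h ht) ?_
  have e := mem_centralizer_iff.1 ((hy.lf x' y' h.ne').cen u h.hu) t ht.1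
  rw [e, mul_inv_cancel_right, mul_inv_cancel]
  exact one_mem _

theorem fk (hy : Hy p A) (h : Pr A x y x' y' z u) {g : G} (h1 : g ∈ Fl A x y)
    (h2 : g * g = 1) : g = 1 ∨ g = z := by
  by_cases e : g = 1
  · exact Or.inl e
  · exact Or.inr ((hy.lf x y h.ne).uq g z ⟨h1, e, h2⟩ h.hz)

theorem comm (hy : Hy p A) (h : Pr A x y x' y' z u) : ∀ t ∈ Tl A x y u, ∀ t' ∈ Tl A x' y' z,
    t * t' = t' * t := fun t ht t' ht' => by
  rcases dic hy h ht' with c | ⟨c, -⟩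
  · exact mem_centralizer_iff.1 c.2 t ht
  rcases dic hy (symm h) ht with d | ⟨d, d2⟩
  · exact (mem_centralizer_iff.1 d.2 t' ht').symm
  have e1 := c t ht
  have e2 := d t' ht'
  have e3 : t * t = (t' * t')⁻¹ := by
    calc t * t = t * (t' * t * t'⁻¹)⁻¹ := by rw [e1, inv_inv]
      _ = t * t' * t⁻¹ * t'⁻¹ := by group
      _ = _ := by rw [e2]; group
  have m1 : t * t ∈ Fl A x' y' := e3 ▸ inv_mem (mul_mem ht'.1 ht'.1)
  have s := (hy.lf x' y' h.ne').fk _ m1 d2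
  have e4 : t * t = 1 := by
    rcases fk hy h (mul_mem ht.1 ht.1) s with a | a
    · exact a
    rcases fk hy (symm h) m1 s with b | b
    · exact b
    · exact absurd (b.symm.trans a) h.zu
  rw [inv_eq_of_mul_eq_one_right e4, mul_inv_eq_iff_eq_mul] at e1
  exact e1.symm

theorem bb : BbStmt := by
  intro G _ _ Ω _ _ p A st hy x y x' y' z u h
  refine ⟨comm hy h, tN hy h, ?_⟩
  obtain ⟨a1, a2⟩ := hi hy h
  obtain ⟨b1, b2⟩ := hi hy (symm h)
  obtain ⟨cy, cd⟩ := (hy.pg x' y' h.ne').tor z b1 b2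
  obtain ⟨-, cd'⟩ := (hy.pg x y h.ne).tor u a1 a2
  obtain ⟨t, ht⟩ := cy.exists_generator
  have ho : orderOf (t : G) = p + 1 := by
    rw [Subgroup.orderOf_coe, orderOf_eq_card_of_forall_mem_zpowers ht, cd]
  obtain ⟨m, hm⟩ : ∃ m, p + 1 = m + m := by
    have := st.pp.eq_two_or_odd.resolve_left hy.mc.p2
    exact ⟨(p + 1) / 2, by omega⟩
  have tu : (t : G) ^ m = u := by
    refine (fk hy (symm h) (pow_mem t.2.1 m) ?_).resolve_left ?_
    · rw [← pow_add, ← hm, ← ho, pow_orderOf_eq_one]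
    · exact pow_ne_one_of_lt_orderOf (by omega) (by omega)
  refine ⟨t, t.2, ?_⟩
  rintro ⟨f, hf, k, hk, e⟩
  have fT : f ∈ Tl A x y u := by
    refine ((hy.pg x y h.ne).cyc u a1 a2).1 f hf ⟨le_normalizer hf, fun s hs => ?_⟩
    have c1 := comm hy h s hs t t.2
    have c2 := mem_centralizer_iff.1 hk s hs.1
    rw [e, ← mul_assoc, mul_assoc f k s, ← c2, ← mul_assoc] at c1
    exact mul_right_cancel c1
  have fo : f ^ (p + 1) = 1 := by
    have := pow_card_eq_one' (x := (⟨f, fT⟩ : Tl A x y u))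
    rw [cd'] at this
    exact congrArg Subtype.val this
  have fK : f ^ m ∈ Kl A x y := by
    rcases fk hy h (pow_mem hf m) (by rw [← pow_add, ← hm, fo]) with a | a
    · rw [a]; exact one_mem _
    · rw [a]; exact (hy.lf x y h.ne).cen z h.hz
  have cm : Commute f k := mem_centralizer_iff.1 hk f hf
  refine a1.2.2 ?_
  rw [← tu, e, cm.mul_pow]
  exact mul_mem fK (pow_mem hk m)

end Cfsg.Agent.H3.CySpBb
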