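import Cfsg.Agent.H96.D4Defs

/-! The linear group on `Q / Z` when a quartic form is invariant. -/

set_option autoImplicit false

namespace Cfsg.Agent.H3.D4AqK

open Cfsg.Agent.H96.DF Subgroup

universe u

section Flag

variable {F M : Type u} [Field F] [AddCommGroup M] [Module F M]

/-- The stabiliser of a flag `M ≥ V3 ≥ V2 ≥ V1 ≥ 0`. -/
def stab (V1 V2 V3 : Submodule F M) (h12 : V1 ≤ V2) (h23 : V2 ≤ V3) : Subgroup (M ≃ₗ[F] M) where
  carrier := {g | (∀ v, g v - v ∈ V3) ∧ (∀ v ∈ V3, g v - v ∈ V2) ∧ (∀ v ∈ V2, g v - v ∈ V1) ∧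
    ∀ v ∈ V1, g v - v = 0}
  one_mem' := by simp
  mul_mem' := by
    rintro g h ⟨g3, g2, g1, g0⟩ ⟨h3, h2, h1, h0⟩
    have e : ∀ v, (g * h) v - v = (g (h v) - h v) + (h v - v) := fun v => by
      rw [LinearEquiv.mul_apply]; abel
    have e' : ∀ v, h v = v + (h v - v) := fun v => by abel
    refine ⟨fun v => e v ▸ add_mem (g3 _) (h3 _), fun v hv => e v ▸ add_mem (g2 _ ?_) (h2 _ hv),
      fun v hv => e v ▸ add_mem (g1 _ ?_) (h1 _ hv), fun v hv => ?_⟩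
    · rw [e']; exact add_mem hv (h3 v)
    · rw [e']; exact add_mem hv (h12 (h1 v hv))
    · rw [e, h0 v hv, add_zero, g0]
      rw [e', h0 v hv, add_zero]; exact hv
  inv_mem' := by
    rintro g ⟨g3, g2, g1, g0⟩
    have e : ∀ v, g⁻¹ v - v = -(g (g⁻¹ v) - g⁻¹ v) := fun v => by
      rw [← LinearEquiv.mul_apply, mul_inv_cancel]; simp
    have e' : ∀ v, g⁻¹ v = v - (g (g⁻¹ v) - g⁻¹ v) := fun v => by
      rw [← LinearEquiv.mul_apply, mul_inv_cancel]; simp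
    have k3 : ∀ v ∈ V3, g⁻¹ v ∈ V3 := fun v hv => by rw [e']; exact sub_mem hv (g3 _)
    have k2 : ∀ v ∈ V2, g⁻¹ v ∈ V2 := fun v hv => by
      rw [e']; exact sub_mem hv (g2 _ (k3 v (h23 hv)))
    have k1 : ∀ v ∈ V1, g⁻¹ v ∈ V1 := fun v hv => by
      rw [e']; exact sub_mem hv (g1 _ (k2 v (h12 hv)))
    exact ⟨fun v => e v ▸ neg_mem (g3 _), fun v hv => e v ▸ neg_mem (g2 _ (k3 v hv)),
      fun v hv => e v ▸ neg_mem (g1 _ (k2 v hv)), fun v hv => by rw [e, g0 _ (k1 v hv), neg_zero]⟩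

theorem stab_isPGroup [Nontrivial M] (p : ℕ) [Fact p.Prime] [CharP F p] {V1 V2 V3 : Submodule F M}
    (h12 : V1 ≤ V2) (h23 : V2 ≤ V3) : IsPGroup p (stab V1 V2 V3 h12 h23) := by
  rintro ⟨g, g3, g2, g1, g0⟩
  have : CharP (Module.End F M) p :=
    charP_of_injective_algebraMap (algebraMap F (Module.End F M)).injective p
  have h4 : ((g : Module.End F M) - 1) ^ 4 = 0 := by
    ext v
    exact g0 _ (g1 _ (g2 _ (g3 v)))
  have hp : 4 ≤ p ^ 2 := Nat.pow_le_pow_left (Fact.out : p.Prime).two_le 2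
  have h5 : (g : Module.End F M) ^ p ^ 2 = 1 := by
    have := sub_pow_char_pow_of_commute (R := Module.End F M) p 2 (Commute.one_right (g : Module.End F M))
    rw [pow_eq_zero_of_le hp h4, one_pow] at this
    exact (sub_eq_zero.1 this.symm)
  refine ⟨2, Subtype.ext (LinearEquiv.ext fun v => ?_)⟩
  have := LinearMap.congr_fun h5 v
  rw [Module.End.pow_apply] at this
  simpa [LinearEquiv.pow_apply] using this

theorem conj_mem_stab {V1 V2 V3 : Submodule F M} {h12 : V1 ≤ V2} {h23 : V2 ≤ V3}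
    {d g : M ≃ₗ[F] M} (hg : g ∈ stab V1 V2 V3 h12 h23) (d1 : ∀ v, d v ∈ V1 ↔ v ∈ V1)
    (d2 : ∀ v, d v ∈ V2 ↔ v ∈ V2) (d3 : ∀ v, d v ∈ V3 ↔ v ∈ V3) :
    d * g * d⁻¹ ∈ stab V1 V2 V3 h12 h23 := by
  obtain ⟨g3, g2, g1, g0⟩ := hg
  have i : ∀ v, d (d⁻¹ v) = v := fun v => d.apply_symm_apply v
  have e : ∀ v, (d * g * d⁻¹) v - v = d (g (d⁻¹ v) - d⁻¹ v) := fun v => by
    rw [map_sub, i]; rfl
  refine ⟨fun v => e v ▸ (d3 _).2 (g3 _), fun v hv => e v ▸ (d2 _).2 (g2 _ ((d3 _).1 ?_)),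
    fun v hv => e v ▸ (d1 _).2 (g1 _ ((d2 _).1 ?_)), fun v hv => ?_⟩
  · rwa [i]
  · rwa [i]
  · rw [e, g0 _ ((d1 _).1 (by rwa [i])), map_zero]

end Flag

variable {F K : Type u} [Field F] [Field K] [Algebra F K] {C : Tri F K}

/-- `u = 0` -/
def V3 (F K : Type u) [Field F] [Field K] [Algebra F K] : Submodule F (V F K) where
  carrier := {v | v.2.2.2 = 0}
  zero_mem' := rfl
  add_mem' := fun {a b} (h : a.2.2.2 = 0) (k : b.2.2.2 = 0) => show (a + b).2.2.2 = 0 by simp [h, k]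
  smul_mem' := fun c {a} (h : a.2.2.2 = 0) => show (c • a).2.2.2 = 0 by simp [h]

/-- `y = u = 0` -/
def V2 (F K : Type u) [Field F] [Field K] [Algebra F K] : Submodule F (V F K) where
  carrier := {v | v.2.2.1 = 0 ∧ v.2.2.2 = 0}
  zero_mem' := ⟨rfl, rfl⟩
  add_mem' := fun {a b} ⟨_, _⟩ ⟨_, _⟩ => by simp [*]
  smul_mem' := fun c {a} ⟨_, _⟩ => by simp [*]

/-- `x = y = u = 0` -/
def V1 (F K : Type u) [Field F] [Field K] [Algebra F K] : Submodule F (V F K) where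
  carrier := {v | v.2.1 = 0 ∧ v.2.2.1 = 0 ∧ v.2.2.2 = 0}
  zero_mem' := ⟨rfl, rfl, rfl⟩
  add_mem' := fun {a b} ⟨_, _, _⟩ ⟨_, _, _⟩ => by simp [*]
  smul_mem' := fun c {a} ⟨_, _, _⟩ => by simp [*]

theorem mem_V3 {v : V F K} : v ∈ V3 F K ↔ v.2.2.2 = 0 := Iff.rfl
theorem mem_V2 {v : V F K} : v ∈ V2 F K ↔ v.2.2.1 = 0 ∧ v.2.2.2 = 0 := Iff.rfl
theorem mem_V1 {v : V F K} : v ∈ V1 F K ↔ v.2.1 = 0 ∧ v.2.2.1 = 0 ∧ v.2.2.2 = 0 := Iff.rfl

theorem V12 : V1 F K ≤ V2 F K := fun _ h => h.2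
theorem V23 : V2 F K ≤ V3 F K := fun _ h => h.2

theorem rho_mem (t : K) : ρ C t ∈ stab (V1 F K) (V2 F K) (V3 F K) V12 V23 := by
  refine ⟨fun v => ?_, fun v hv => ?_, fun v hv => ?_, fun v hv => ?_⟩
  · simp [mem_V3, ρ_apply, rmap]
  · simp [mem_V2, ρ_apply, rmap, mem_V3.1 hv]
  · simp [mem_V1, ρ_apply, rmap, hv.1, hv.2]
  · obtain ⟨a, x, y, u⟩ := v
    obtain ⟨h1, h2, h3⟩ := hv
    simp only at h1 h2 h3
    simp [ρ_apply, rmap, h1, h2, h3]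

theorem om_smul (c : F) (v w : V F K) : om C (c • v) w = c * om C v w := by
  simp [om]; ring

theorem om_e0 (w : V F K) : om C e0 w = w.2.2.2 := by simp [om, e0]

theorem om_e3 (w : V F K) : om C e3 w = -w.1 := by simp [om, e3]

theorem rho_e0 (t : K) : ρ C t e0 = e0 := by simp [ρ_apply, rmap, e0]

/-- The tangent condition. -/
def Tan (C : Tri F K) (k : F) (e v : V F K) : Prop :=
  ∀ w, kc C k e v w w = 2 * om C e w * om C v w

theorem Tan.smul (hK : Kap C) {k c : F} (hc : c ≠ 0) {e v : V F K} (h : Tan C k (c • e) v) :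
    Tan C k e v := fun w => by
  have h1 := h w
  rw [om_smul, kc, (hK.ml.l1 v w w).map_smul] at h1
  apply mul_left_cancel₀ hc
  simp only [kc, Prod.smul_snd, smul_eq_mul] at h1 ⊢
  linear_combination h1

section

variable {p : ℕ} {D : Subgroup (V F K ≃ₗ[F] V F K)} (hD : DV C p D) {k : F}
  (hk : ∀ g ∈ D, ∀ a b c d, kc C k (g a) (g b) (g c) (g d) = kc C k a b c d)

include hD hk

theorem Tan.map {e v : V F K} (h : Tan C k e v) {d : V F K ≃ₗ[F] V F K} (hd : d ∈ D) :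
    Tan C k (d e) (d v) := fun w => by
  obtain ⟨w, rfl⟩ := d.surjective w
  obtain ⟨ε, h1, h2⟩ := hD.form d hd
  rw [hk d hd, h2, h2, h w]
  linear_combination (-2 * om C e w * om C v w) * h1

theorem orb0 (hK : Kap C) (h2 : (2 : F) ≠ 0) {d : V F K ≃ₗ[F] V F K} (hd : d ∈ D) :
    (∃ a : F, d e0 = a • e0) ∨ (k = 0 ∧ ∃ t, ∃ a : F, d e0 = a • ρ C t e3) := by
  have h0 : Tan C k e0 e0 := fun w => by
    rw [kc, hK.e0]; simp [e0]; ring
  refine hK.crit h2 k _ fun w => ?_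
  have := h0.map hD hk hd w
  rw [kc] at this
  linear_combination this

omit hD hk in
theorem tan0_iff (hK : Kap C) (h2 : (2 : F) ≠ 0) {v : V F K} : Tan C k e0 v ↔ v ∈ V2 F K := by
  rw [mem_V2, ← hK.tan0 h2 v]
  simp [Tan, kc, e0]

theorem keep (hK : Kap C) (h2 : (2 : F) ≠ 0) {d : V F K ≃ₗ[F] V F K} (hd : d ∈ D) {a : F}
    (ha : d e0 = a • e0) : (∀ v ∈ V1 F K, d v ∈ V1 F K) ∧ (∀ v ∈ V2 F K, d v ∈ V2 F K) ∧
      ∀ v ∈ V3 F K, d v ∈ V3 F K := by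
  have a0 : a ≠ 0 := by
    rintro rfl
    rw [zero_smul, LinearEquiv.map_eq_zero_iff] at ha
    simp [e0] at ha
  refine ⟨fun v hv => ?_, fun v hv => ?_, fun v hv => ?_⟩
  · have : v = v.1 • e0 := by
      obtain ⟨a, x, y, u⟩ := v
      obtain ⟨h1, h2, h3⟩ := hv
      simp only at h1 h2 h3
      simp [e0, h1, h2, h3]
    rw [this, map_smul, ha]
    simp [mem_V1, e0]
  · have := ((tan0_iff hK h2).2 hv).map hD hk hd
    rw [ha] at this
    exact (tan0_iff hK h2).1 (this.smul hK a0)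
  · obtain ⟨ε, -, h1⟩ := hD.form d hd
    have := h1 e0 v
    rw [ha, om_smul, om_e0, om_e0, mem_V3.1 hv, mul_zero] at this
    exact (mul_eq_zero.1 this).resolve_left a0

theorem nv_of [Fact p.Prime] [CharP F p] (hK : Kap C) (h2 : (2 : F) ≠ 0)
    {d : V F K ≃ₗ[F] V F K} (hd : d ∈ D) {a : F} (ha : d e0 = a • e0) : NV C d := by
  have a0 : a ≠ 0 := by
    rintro rfl
    rw [zero_smul, LinearEquiv.map_eq_zero_iff] at ha
    simp [e0] at ha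
  have i : ∀ v, d⁻¹ (d v) = v := fun v => d.symm_apply_apply v
  have hb : d⁻¹ e0 = a⁻¹ • e0 := by
    rw [eq_inv_smul_iff₀ a0, ← map_smul, ← ha, i]
  obtain ⟨k1, k2, k3⟩ := keep hD hk hK h2 hd ha
  obtain ⟨l1, l2, l3⟩ := keep hD hk hK h2 (inv_mem hd) hb
  intro t
  exact hD.syl (D ⊓ stab (V1 F K) (V2 F K) (V3 F K) V12 V23) inf_le_left
    (stab_isPGroup p V12 V23).to_inf_right (fun s => ⟨hD.rho s, rho_mem s⟩) _
    ⟨D.mul_mem (D.mul_mem hd (hD.rho t)) (D.inv_mem hd), conj_mem_stab (rho_mem t)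
      (fun v => ⟨fun h => i v ▸ l1 _ h, k1 v⟩) (fun v => ⟨fun h => i v ▸ l2 _ h, k2 v⟩)
      fun v => ⟨fun h => i v ▸ l3 _ h, k3 v⟩⟩

end

theorem aqk [Finite K] {p : ℕ} [Fact p.Prime] [CharP F p] (hK : Kap C) : AqKStmt C p := by
  rintro hp D hD ⟨k, hk⟩ ⟨d, hd, hn⟩
  have h2 : (2 : F) ≠ 0 := fun h => hp ((Nat.prime_dvd_prime_iff_eq Fact.out Nat.prime_two).1
    ((CharP.cast_eq_zero_iff F p 2).1 (by exact_mod_cast h)))
  refine ⟨fun g hg => (orb0 hD hk hK h2 hg).imp (fun ⟨a, ha⟩ => nv_of hD hk hK h2 hg ha)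
    fun h => h.2, ?_⟩
  obtain ⟨rfl, t, a, ha⟩ := (orb0 hD hk hK h2 hd).resolve_left
    fun ⟨a, ha⟩ => hn (nv_of hD hk hK h2 hd ha)
  have hn1 : ρ C (-t) * d ∈ D := mul_mem (hD.rho _) hd
  have e1 : (ρ C (-t) * d) e0 = a • e3 := by
    rw [LinearEquiv.mul_apply, ha, map_smul, ← LinearEquiv.mul_apply, ← ρ_add, neg_add_cancel,
      ρ_zero]
    rfl
  generalize ρ C (-t) * d = n1 at hn1 e1
  have i : ∀ v, n1 (n1⁻¹ v) = v := fun v => n1.apply_symm_apply v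
  obtain ⟨-, s, b, hb⟩ := (orb0 hD hk hK h2 (inv_mem hn1)).resolve_left fun ⟨b, hb⟩ => by
    have := i e0
    rw [hb, map_smul, e1] at this
    simp [e0, e3] at this
  have e2 : b • (n1 * ρ C s) e3 = e0 := by
    rw [LinearEquiv.mul_apply, ← map_smul, ← hb, i]
  have b0 : b ≠ 0 := by
    rintro rfl
    simpa [e0] using congrArg Prod.fst e2
  have e3' : (n1 * ρ C s) e3 = b⁻¹ • e0 := by rw [eq_inv_smul_iff₀ b0, e2]
  have e0' : (n1 * ρ C s) e0 = a • e3 := by rw [LinearEquiv.mul_apply, rho_e0, e1]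
  have hnD : n1 * ρ C s ∈ D := mul_mem hn1 (hD.rho s)
  generalize n1 * ρ C s = n at e3' e0' hnD
  have a0 : a ≠ 0 := by
    rintro rfl
    rw [zero_smul, LinearEquiv.map_eq_zero_iff] at e0'
    simp [e0] at e0'
  have t3 : ∀ v : V F K, Tan C 0 e3 v ↔ v.1 = 0 ∧ v.2.1 = 0 := fun v => by
    rw [← hK.tan3 h2 v]
    simp [Tan, kc]
  obtain ⟨ε, -, hε⟩ := hD.form n hnD
  refine ⟨n, hnD, ⟨a, e0'⟩, ⟨_, e3'⟩, fun x => ⟨(n (0, x, 0, 0)).2.2.1, ?_⟩,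
    fun y => ⟨(n (0, 0, y, 0)).2.1, ?_⟩⟩
  · have h1 := ((tan0_iff (v := (0, x, 0, 0)) hK h2).2 ⟨rfl, rfl⟩).map hD hk hnD
    rw [e0'] at h1
    obtain ⟨c1, c2⟩ := (t3 _).1 (h1.smul hK a0)
    have c3 := hε e3 (0, x, 0, 0)
    rw [e3', om_smul, om_e0, om_e3] at c3
    simp only [neg_zero, mul_zero, mul_eq_zero, inv_eq_zero, b0, false_or] at c3
    exact Prod.ext c1 (Prod.ext c2 (Prod.ext rfl c3))
  · have h1 := ((t3 (0, 0, y, 0)).2 ⟨rfl, rfl⟩).map hD hk hnD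
    rw [e3'] at h1
    obtain ⟨c1, c2⟩ := (tan0_iff hK h2).1 (h1.smul hK (inv_ne_zero b0))
    have c3 := hε e0 (0, 0, y, 0)
    rw [e0', om_smul, om_e0, om_e3] at c3
    simp only [mul_zero, mul_eq_zero, a0, false_or, neg_eq_zero] at c3
    exact Prod.ext c3 (Prod.ext rfl (Prod.ext c1 c2))

end Cfsg.Agent.H3.D4AqK
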