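import Cfsg.Agent.H3.FkFiA
import Cfsg.Agent.H41.RecK
import Cfsg.Agent.H60.FitF22
import Cfsg.Agent.H44.Fi23M
import Cfsg.Agent.H74.Mathieu

/-! The 2-fusion systems of `Fi₂₂` and `Fi₂₃`. -/

set_option autoImplicit false
set_option maxRecDepth 1000000

namespace Cfsg.Agent.H3.FkFi

open Cfsg Subgroup Equiv Cfsg.Agent.H41 Cfsg.Agent.H41.Rec Cfsg.Agent.H37.FK Cfsg.Agent.H42
  Cfsg.Agent.H45
open scoped Pointwise

theorem Lab.exists_perm {X : Type} {s : ℕ → X} {m : ℕ} {σ : GolayPt → X} {Ω : Set GolayPt}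
    {L : Subgroup (Perm GolayPt)} (l : Lab s m σ Ω L) {g : Perm X}
    (h : ∀ j < m, ∃ i < m, g (s j) = s i) : ∃ μ : Perm GolayPt, (∀ p ∉ Ω, μ p = p) ∧ Rl σ Ω g μ := by
  have : ∀ p, ∃ q, (p ∈ Ω → q ∈ Ω ∧ g (σ p) = σ q) ∧ (p ∉ Ω → q = p) := fun p => by
    by_cases hp : p ∈ Ω
    · obtain ⟨j, hj, e⟩ := l.b1 p hp
      obtain ⟨i, hi, e'⟩ := h j hj
      obtain ⟨q, hq, e''⟩ := l.b2 i hi
      exact ⟨q, fun _ => ⟨hq, by rw [e, e', e'']⟩, fun h => absurd hp h⟩
    · exact ⟨p, fun h => absurd h hp, fun _ => rfl⟩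
  choose f h1 h2 using this
  have hf : Function.Injective f := fun p q e => by
    by_cases hp : p ∈ Ω <;> by_cases hq : q ∈ Ω
    · exact l.inj hp hq (g.injective (by rw [(h1 p hp).2, (h1 q hq).2, e]))
    · exact absurd (h2 q hq ▸ e ▸ (h1 p hp).1) hq
    · exact absurd (h2 p hp ▸ e ▸ (h1 q hq).1) hp
    · rw [← h2 p hp, e, h2 q hq]
  exact ⟨Equiv.ofBijective f (Finite.injective_iff_bijective.1 hf), h2, fun p hp => (h1 p hp).2⟩

/-- the labelling -/
def U : ℕ := 969925652579420560415555948019516426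

/-- the coordinates of the points -/
def W (i : ℕ) : ℕ := fld 12 J23.V (app U i)

/-- the syndrome -/
noncomputable def syn (s : Finset GolayPt) : ℕ := xorC W (mask s) 24

theorem k1 : allB (fun m => Nat.beq (xorC W (enc m) 24) 0) 4096 = true := by decide +kernel

theorem k2 : allB (fun z => Nat.beq z 0 || !Nat.beq (xorC W (4096 * z) 24) 0 ||
    !Nat.beq (pc (4096 * z) % 2) 0) 4096 = true := by decide +kernel

theorem k3 : ∀ i < 24, W i < 2 ^ 11 ∧ xorC W (2 ^ i) 24 = W i := by decide +kernel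

theorem syn_lt (s : Finset GolayPt) : syn s < 2 ^ 11 :=
  xorC_induction (· < 2 ^ 11) (by norm_num) (fun _ _ => Nat.xor_lt_two_pow) _ _ _
    fun i hi => (k3 i hi).1

theorem syn_symmDiff (s t : Finset GolayPt) : syn (symmDiff s t) = syn s ^^^ syn t := by
  rw [syn, syn, syn, ← xorC_xor]
  congr 1
  exact toSet_inj (mask_lt _) (xor_lt (mask_lt _) (mask_lt _))
    (by rw [toSet_mask]; exact ((toSet_xor _ _).trans (by rw [toSet_mask, toSet_mask])).symm)

theorem syn_single (p : GolayPt) : syn {p} = W (idx p) := by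
  rw [← (k3 _ (idx_lt p)).2, syn]
  congr 1
  exact toSet_inj (mask_lt _) (Nat.pow_lt_pow_right (by norm_num) (idx_lt p))
    (by rw [toSet_mask]; exact ((toSet_pow (idx_lt p)).trans (by rw [pt_idx])).symm)

theorem syn_code {s : Finset GolayPt} (h : s ∈ codeSets) : syn s = 0 := by
  obtain ⟨m, hm, rfl⟩ := (mem_codeSets_iff_enc s).1 h
  rw [syn, mask_toSet (enc_lt m)]
  exact beq_iff.1 (of_allB k1 hm)

theorem even_code {s : Finset GolayPt} (h : s ∈ codeSets) : s.card % 2 = 0 := by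
  rcases card_codeSets h with h | h | h | h | h <;> rw [h]

theorem code_of_syn {s : Finset GolayPt} (h : syn s = 0) (he : s.card % 2 = 0) : s ∈ codeSets := by
  obtain ⟨y, hy, rfl⟩ := exists_toSet s
  have hm : y % 4096 < 4096 := Nat.mod_lt _ (by norm_num)
  have hc := toSet_mem_codeSets (isCode_enc hm)
  have h1 := syn_symmDiff (toSet y) (toSet (enc (y % 4096)))
  have h2 := card_symmDiff_add (toSet y) (toSet (enc (y % 4096)))
  have h3 := even_code hc
  have h4 := xor_lt hy (enc_lt (y % 4096))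
  have h5 : Nat.xor y (enc (y % 4096)) % 2 ^ 12 = 0 := by
    refine Nat.xor_mod_two_pow.trans ?_
    rw [show 2 ^ 12 = 4096 by norm_num, enc_mod hm, Nat.xor_self]
  rw [← toSet_xor] at h1 h2
  rw [h, syn_code hc, syn, mask_toSet h4] at h1
  rw [card_toSet h4] at h2
  obtain ⟨z, hz⟩ : ∃ z, Nat.xor y (enc (y % 4096)) = 4096 * z :=
    ⟨Nat.xor y (enc (y % 4096)) / 4096, by omega⟩
  have h6 := of_allB k2 (i := z) (by omega)
  rw [← hz, h1, show pc (Nat.xor y (enc (y % 4096))) % 2 = 0 by omega] at h6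
  have h7 : z = 0 := by simpa using h6
  rw [h7] at hz
  rwa [Nat.xor_eq_zero_iff.1 hz]

/-- the points of the base of `Fi₂₃` -/
def σ3 (p : GolayPt) : Fin 31671 := sB J23.B (app U (idx p))

theorem u1 : ∀ p : GolayPt, p ≠ none → app U (idx p) < 23 := by decide +kernel

theorem u2 : ∀ j < 23, ∃ p : GolayPt, p ≠ none ∧ app U (idx p) = j := by decide +kernel

theorem u3 : ∀ p q : GolayPt, app U (idx p) = app U (idx q) → p = q := by decide +kernel

theorem lab3 : Lab (sB J23.B) 23 σ3 {p | p ≠ none} Spor.M23 where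
  fix μ h p hp := by
    obtain rfl : p = none := not_not.1 hp
    exact h.2
  b1 p hp := ⟨_, u1 p hp, rfl⟩
  b2 j hj := by
    obtain ⟨p, hp, rfl⟩ := u2 j hj
    exact ⟨p, hp, rfl⟩
  inj p hp q hq e := u3 p q (J23.cq.inj _ (u1 p hp) _ (u1 q hq) e)

theorem conj_th {g : Perm (Fin 31671)} (hg : g ∈ L23.F.aut) {μ : Perm GolayPt}
    (h1 : ∀ p ∉ {p : GolayPt | p ≠ none}, μ p = p) (h2 : Rl σ3 {p | p ≠ none} g μ)
    (s : Finset GolayPt) : g * th (fun i => L23.F.T (sB J23.B i)) 11 (syn s) * g⁻¹ =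
      th (fun i => L23.F.T (sB J23.B i)) 11 (syn (μ • s)) := by
  induction s using Finset.induction_on with
  | empty => rw [Finset.smul_finset_empty, syn_code empty_mem_codeSets, th_zero, mul_one, mul_inv_cancel]
  | insert p s hp ih =>
    have e : insert p s = symmDiff {p} s := by
      rw [(Finset.disjoint_singleton_left.2 hp).symmDiff_eq_sup, Finset.insert_eq]; rfl
    rw [e, smul_symmDiff, syn_symmDiff, syn_symmDiff, J23.cq.ci.th_xor, J23.cq.ci.th_xor, ← ih,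
      Finset.smul_finset_singleton, syn_single, syn_single, ← conj_mul]
    congr 1
    by_cases h : p = none
    · subst h
      rw [show μ • (none : GolayPt) = none from h1 _ (not_not.2 rfl),
        show W (idx none) = 0 by decide +kernel, th_zero, mul_one, mul_inv_cancel]
    · rw [W, W, ← J23.cq.rel _ (u1 p h), ← J23.cq.rel _ (u1 (μ • p) (mem_of_fix h1 h)), ← FS.aut_T hg]
      exact congrArg _ (h2 p h)

theorem ex3 (g : Perm (Fin 31671)) (hg : g ∈ L23.F.grp)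
    (h : ∀ j < 23, ∃ i < 23, g (sB J23.B j) = sB J23.B i) :
    ∃ μ ∈ Spor.M23, Rl σ3 {p | p ≠ none} g μ := by
  obtain ⟨μ, h1, h2⟩ := lab3.exists_perm h
  refine ⟨μ, ⟨(mem_M24_iff μ).2 fun s hs => code_of_syn ?_ ?_, h1 _ (not_not.2 rfl)⟩, h2⟩
  · have := conj_th (FS.grp_le_aut hg) h1 h2 s
    rw [syn_code hs, th_zero, mul_one, mul_inv_cancel, ← th_zero (fun i => L23.F.T (sB J23.B i)) 11]
      at this
    exact (J23.cq.ind _ (by norm_num) _ (syn_lt _) this).symm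
  · rw [Finset.card_smul_finset, even_code hs]

/-- the elements of `M24` induced by `Fi₂₃` -/
def HH : Subgroup M24 where
  carrier := {μ | μ.1 none = none ∧ ∃ g ∈ L23.F.grp, Rl σ3 {p | p ≠ none} g μ.1}
  one_mem' := ⟨rfl, 1, one_mem _, fun _ _ => rfl⟩
  mul_mem' := by
    rintro μ ν ⟨h1, g, hg, h2⟩ ⟨h3, g', hg', h4⟩
    exact ⟨(congrArg μ.1 h3).trans h1, _, mul_mem hg hg', h2.mul h4 (lab3.fix _ ⟨ν.2, h3⟩)⟩
  inv_mem' := by
    rintro μ ⟨h1, g, hg, h2⟩
    have h3 : μ.1⁻¹ ∈ Spor.M23 := inv_mem ⟨μ.2, h1⟩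
    refine ⟨h3.2, _, inv_mem hg, fun p hp => Perm.inv_eq_iff_eq.2 ?_⟩
    exact ((h2 _ (mem_of_fix (lab3.fix _ h3) hp)).trans (congrArg σ3 (μ.1.apply_symm_apply p))).symm

/-- generators -/
def gl : List (ℕ × List ℕ) := [(964038787154432890784149858701906990, [9, 6, 12, 9]),
  (984522237791282842243827263779473440, [5, 4, 6, 5]),
  (976448692869377735270425038196672544, [3, 2, 7, 3]),
  (958844717248964307133962771239655456, [8, 7, 13, 8]),
  (958845341097075081467178010245453952, [1, 0, 2, 1]),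
  (980224387687010295957922729495201824, [3, 2, 4, 3]),
  (965128854020860192151391391390468128, [3, 4, 13, 3])]

theorem gl_slp : slpChk (gl.map Prod.fst) [[2, 0, 10, 12, 2, 6, 0, 8, 4, 2, 12, 8, 10],
    [14, 2, 8, 12, 4, 8, 14, 2, 4, 10, 14, 8, 12, 8]] gens23 = true := by decide +kernel

theorem gl_ok : ∀ t ∈ gl, app t.1 23 = 23 ∧ ∀ p : GolayPt, p ≠ none →
    pW cf23.pp t.2 (σ3 p) = σ3 (H42.pt (app t.1 (idx p))) := by decide +kernel

theorem sur3 (μ : Perm GolayPt) (h : μ ∈ Spor.M23) :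
    ∃ g ∈ L23.F.grp, Rl σ3 {p | p ≠ none} g μ := by
  have h1 : G23 ≤ HH := by
    rw [G23_eq]
    refine (gen_le_of_slpChk gl_slp).trans (gen_le _ fun c hc => ?_)
    have h2 := (slpChk_spec gl_slp).1 c hc
    obtain ⟨t, ht, rfl⟩ := List.mem_map.1 hc
    have h3 : ∀ p, (toM t.1).1 p = H42.pt (app t.1 (idx p)) := fun p => by
      rw [coe_toM h2, toPerm_apply (inM_isPerm h2)]
    refine ⟨?_, _, wp_mem (w := t.2) fun i _ => mem23 i, fun p hp => ?_⟩
    · rw [h3, show idx none = 23 from rfl, (gl_ok t ht).1, pt_23]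
    · rw [h3]
      exact md23.apply_eq ((gl_ok t ht).2 p hp)
  exact (h1 (x := ⟨μ, h.1⟩) (by rw [MulAction.mem_stabilizer_iff, pt_23]; exact h.2)).2

theorem nas22 : NAS Spor.M22 := nas_of H74.simple_M22 (by rw [H74.card_M22]; norm_num)

theorem nas23 : NAS Spor.M23 := nas_of H74.simple_M23 (by rw [H74.card_M23]; norm_num)

theorem fi23 : Fi23Stmt := fun T =>
  have : Finite Spor.Fi23 := H44.Fi23M.finite
  (good_of T L23.r3 (nas_of simple23 (by rw [L23.card_grp]; norm_num)) J23.cq J23.kr J23.sy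
    L23.width lab3 ex3 sur3 nas23 T.sm1.2.2.2.1).congr
    (H44.Fi23M.iso.trans (MulEquiv.subgroupCongr L23.grp_eq).symm)

/-- the points of the base of `Fi₂₂` -/
def σ2 (p : GolayPt) : Fin 3510 :=
  sB J22.B (if app U (idx p) < 10 then app U (idx p) else app U (idx p) - 1)

theorem v1 : ∀ p : GolayPt, p ≠ none ∧ p ≠ some 0 → (∃ j < 22, σ2 p = sB J22.B j) ∧
    Fin.castLE (by norm_num : 3510 ≤ 31671) (σ2 p) = σ3 p := by decide +kernel

theorem v2 : ∀ j < 22, ∃ p : GolayPt, (p ≠ none ∧ p ≠ some 0) ∧ σ2 p = sB J22.B j := by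
  decide +kernel

theorem v3 : σ3 (some 0) = ⟨3510, by norm_num⟩ := by decide +kernel

theorem lab2 : Lab (sB J22.B) 22 σ2 {p | p ≠ none ∧ p ≠ some 0} Spor.M22 where
  fix μ h p hp := by
    rcases not_and_or.1 hp with hp | hp <;> obtain rfl := not_not.1 hp
    exacts [h.1.2, h.2]
  b1 p hp := (v1 p hp).1
  b2 := v2
  inj p hp q hq e := lab3.inj hp.1 hq.1 (by rw [← (v1 p hp).2, ← (v1 q hq).2, e])

theorem rl_down {g : Perm (Fin 3510)} {g' : Perm (Fin 31671)} {μ : Perm GolayPt}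
    (hμ : μ ∈ Spor.M22) (r : Res (Fin.castLE (by norm_num)) g' g)
    (h : Rl σ3 {p | p ≠ none} g' μ) : Rl σ2 {p | p ≠ none ∧ p ≠ some 0} g μ := fun p hp =>
  Fin.castLE_injective (by norm_num : 3510 ≤ 31671) (by
    rw [← r, (v1 p hp).2, h p hp.1, (v1 _ (mem_of_fix (lab2.fix _ hμ) hp)).2])

theorem ex2 (g : Perm (Fin 3510)) (hg : g ∈ L22.F.grp)
    (h : ∀ j < 22, ∃ i < 22, g (sB J22.B j) = sB J22.B i) :
    ∃ μ ∈ Spor.M22, Rl σ2 {p | p ≠ none ∧ p ≠ some 0} g μ := by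
  obtain ⟨g', hg', h1, h2⟩ := H60.lv23.lift hg
  obtain ⟨μ, h3, h4⟩ := ex3 g' hg' fun j hj => by
    obtain ⟨p, hp, e⟩ := lab3.b2 j hj
    by_cases h0 : p = some 0
    · exact ⟨j, hj, by rw [← e, h0, v3, h1]⟩
    obtain ⟨i, hi, e1⟩ := (v1 p ⟨hp, h0⟩).1
    obtain ⟨i', hi', e2⟩ := h i hi
    obtain ⟨q, hq, e3⟩ := v2 i' hi'
    obtain ⟨j', hj', e4⟩ := lab3.b1 q hq.1
    exact ⟨j', hj', by rw [← e, ← (v1 p ⟨hp, h0⟩).2, h2, e1, e2, ← e3, (v1 q hq).2, e4]⟩
  have h5 : μ ∈ Spor.M22 := ⟨h3, lab3.inj (mem_of_fix (lab3.fix _ h3) (Option.some_ne_none _))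
    (Option.some_ne_none _) (by
      refine (h4 _ (Option.some_ne_none _)).symm.trans ?_
      rw [v3, h1])⟩
  exact ⟨μ, h5, rl_down h5 h2 h4⟩

theorem sur2 (μ : Perm GolayPt) (h : μ ∈ Spor.M22) :
    ∃ g ∈ L22.F.grp, Rl σ2 {p | p ≠ none ∧ p ≠ some 0} g μ := by
  obtain ⟨g', hg', h1⟩ := sur3 μ h.1
  obtain ⟨g, hg, h2⟩ := H60.lv23.desc hg' (by
    rw [← v3, h1 _ (Option.some_ne_none _)]
    exact congrArg σ3 h.2)
  exact ⟨g, hg, rl_down h h2 h1⟩

theorem fi22 : Fi22Stmt := fun T =>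
  have : Finite Spor.Fi22 := H44.Fi22M.finite
  (good_of T L22.r3 (nas_of simple22 (by rw [L22.card_grp]; norm_num)) J22.cq J22.kr J22.sy
    L22.width lab2 ex2 sur2 nas22 T.sm1.2.2.1).congr H60.exists_fi22_equiv.some.symm

end Cfsg.Agent.H3.FkFi
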