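import Cfsg.Agent.H37.FkKit
import Cfsg.Agent.H41.RecS
import Cfsg.Agent.H41.Cent

/-! The local criterion for the 2-fusion system of a group generated by 3-transpositions. -/

set_option autoImplicit false

namespace Cfsg.Agent.H3.FkFi

open Cfsg Subgroup Equiv Cfsg.Agent.H41 Cfsg.Agent.H41.Rec Cfsg.Agent.H37.FK

theorem exists_pi {G L : Type*} [Group G] [Group L] (N : Subgroup G) (R : G → L → Prop)
    (hmul : ∀ g h μ ν, R g μ → R h ν → R (g * h) (μ * ν))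
    (uniq : ∀ g μ ν, R g μ → R g ν → μ = ν) (ex : ∀ g ∈ N, ∃ μ, R g μ) :
    ∃ π : N →* L, ∀ g μ, π g = μ ↔ R g μ := by
  choose f hf using ex
  exact ⟨MonoidHom.mk' (fun g => f g g.2) fun a b =>
    uniq _ _ _ (hf _ (a * b).2) (hmul _ _ _ _ (hf _ a.2) (hf _ b.2)),
    fun g μ => ⟨fun e => e ▸ hf _ g.2, fun h => uniq _ _ _ (hf _ g.2) h⟩⟩

theorem nas_of {K : Type*} [Group K] (h : IsSimpleGroup K) (hc : ¬ (Nat.card K).Prime) : NAS K :=
  ⟨h, fun hm => hc (by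
    let _ : CommGroup K := { (inferInstance : Group K) with mul_comm := hm.1.1 }
    exact IsSimpleGroup.prime_card)⟩

variable {X : Type} {F : FS X} {O : X} {s : ℕ → X} {k m V : ℕ}

theorem hasD8 (h : F.R3 O) : HasD8 F.grp := by
  obtain ⟨z, hz, c, h1, h2⟩ := h.ex2
  have hc : Commute (F.t O) (F.t z) := FS.commute_t.2 hz.2
  have e : ((F.t c * (F.t O * F.t z) * F.t c : F.grp) : Perm X) O = z := by
    show F.T c (F.T O (F.T z (F.T c O))) = z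
    have h3 : F.T O (F.T z (F.T O c)) = F.T z c := by
      have := congrArg (fun g : F.grp => (g : Perm X) (F.T O c)) hc.eq
      exact this.trans (congrArg (F.T z) (FS.T_T O c))
    rw [← FS.T_swap h1, h3, FS.T_swap h2, FS.T_T]
  have n2 : F.t c * (F.t O * F.t z) * F.t c * (F.t c * (F.t O * F.t z) * F.t c) = 1 := by
    have h4 : F.t O * F.t z * (F.t O * F.t z) = 1 := by
      rw [hc.eq, mul_assoc, ← mul_assoc (F.t O), hc.eq, mul_assoc, FS.t_sq, mul_one, FS.t_sq]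
    calc _ = F.t c * (F.t O * F.t z * (F.t c * F.t c) * (F.t O * F.t z)) * F.t c := by
          simp only [mul_assoc]
      _ = 1 := by rw [FS.t_sq, mul_one, h4, mul_one, FS.t_sq]
  generalize F.t c * (F.t O * F.t z) * F.t c = n at e n2
  refine ⟨F.t O, n, FS.t_sq _, n2, ⟨2, ?_⟩, fun h5 => hz.1 ?_⟩
  · have h6 : F.t O * n * (F.t O * n) = F.t O * F.t z := by
      rw [← e, FS.t_conj, inv_eq_of_mul_eq_one_right n2]
      simp only [mul_assoc]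
    rw [show 2 ^ 2 = 2 * 2 by norm_num, pow_mul, pow_two, pow_two, h6, hc.eq, mul_assoc,
      ← mul_assoc (F.t O), hc.eq, mul_assoc, FS.t_sq, mul_one, FS.t_sq]
  · rw [← e]
    exact FS.commute_t_iff.1 h5.symm

/-- the subgroup generated by the clique -/
def AA (F : FS X) (s : ℕ → X) (m : ℕ) : Subgroup F.grp := closure {x | ∃ j < m, x = F.t (s j)}

theorem mem_AA (hq : Cq F s k m V) {x : F.grp} :
    x ∈ AA F s m ↔ x.1 ∈ sp (fun i => F.T (s i)) k := by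
  rw [hq.sp_eq, FS.gen, ← mem_map_iff_mem F.grp.subtype_injective, AA, MonoidHom.map_closure]
  congr! 2
  ext y
  constructor
  · rintro ⟨_, ⟨j, hj, rfl⟩, rfl⟩
    exact ⟨_, ⟨j, hj, rfl⟩, rfl⟩
  · rintro ⟨_, ⟨j, hj, rfl⟩, rfl⟩
    exact ⟨_, ⟨j, hj, rfl⟩, rfl⟩

theorem t_mem_AA {j : ℕ} (hj : j < m) : F.t (s j) ∈ AA F s m := subset_closure ⟨j, hj, rfl⟩

theorem fix_of_mem (hq : Cq F s k m V) {x : F.grp} (hx : x ∈ AA F s m) {j : ℕ} (hj : j < m) :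
    x.1 (s j) = s j :=
  FS.commute_t_iff.1 (Subtype.ext
    (hq.ci.ea.comm ((mem_AA hq).1 hx) ((mem_AA hq).1 (t_mem_AA hj))))

theorem pt_of_mem [Finite X] (hq : Cq F s k m V) (hw : F.Width m) {p : X}
    (hp : F.t p ∈ AA F s m) : ∃ j < m, p = s j := by
  by_contra hn
  have h1 : F.Clq (insert p (s '' Set.Iio m)) := by
    rintro _ (rfl | ⟨i, hi, rfl⟩) _ (rfl | ⟨j, hj, rfl⟩)
    · exact FS.self_mem_cl _
    · exact fix_of_mem hq hp hj
    · exact FS.cl_comm.1 (fix_of_mem hq hp hi)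
    · exact hq.cl i hi j hj
  have h2 := hw.2 _ h1
  have h3 : p ∉ s '' Set.Iio m := fun ⟨j, hj, e⟩ => hn ⟨j, hj, e.symm⟩
  rw [Set.ncard_insert_of_notMem h3,
    Set.InjOn.ncard_image (s := Set.Iio m) (fun i hi j hj => hq.inj i hi j hj), ← Finset.coe_range,
    Set.ncard_coe_finset, Finset.card_range] at h2
  omega

theorem mem_norm [Finite X] (hq : Cq F s k m V) (hw : F.Width m) {n : F.grp} :
    n ∈ normalizer (AA F s m : Set F.grp) ↔ ∀ j < m, ∃ i < m, n.1 (s j) = s i := by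
  refine ⟨fun h j hj => pt_of_mem hq hw ?_, fun h => mem_normalizer_fintype fun x hx => ?_⟩
  · rw [FS.t_conj]
    exact (mem_normalizer_iff.1 h _).1 (t_mem_AA hj)
  · refine (closure_le ((AA F s m).comap (MulAut.conj n).toMonoidHom)).2 ?_ hx
    rintro _ ⟨j, hj, rfl⟩
    obtain ⟨i, hi, e⟩ := h j hj
    show n * F.t (s j) * n⁻¹ ∈ AA F s m
    rw [← FS.t_conj, e]
    exact t_mem_AA hi

/-- a labelling of the clique by points of the Golay code -/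
structure Lab (s : ℕ → X) (m : ℕ) (σ : GolayPt → X) (Ω : Set GolayPt)
    (L : Subgroup (Perm GolayPt)) : Prop where
  fix : ∀ μ ∈ L, ∀ p ∉ Ω, μ p = p
  b1 : ∀ p ∈ Ω, ∃ j < m, σ p = s j
  b2 : ∀ j < m, ∃ p ∈ Ω, σ p = s j
  inj : Set.InjOn σ Ω

/-- `g` induces `μ` -/
def Rl (σ : GolayPt → X) (Ω : Set GolayPt) (g : Perm X) (μ : Perm GolayPt) : Prop :=
  ∀ p ∈ Ω, g (σ p) = σ (μ p)

variable {σ : GolayPt → X} {Ω : Set GolayPt} {L : Subgroup (Perm GolayPt)}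

theorem mem_of_fix {μ : Perm GolayPt} (h : ∀ p ∉ Ω, μ p = p) {p : GolayPt} (hp : p ∈ Ω) :
    μ p ∈ Ω := by
  by_contra hn
  exact hn ((μ.injective (h _ hn)).symm ▸ hp)

theorem Rl.mul {g g' : Perm X} {μ ν : Perm GolayPt} (h : Rl σ Ω g μ) (h' : Rl σ Ω g' ν)
    (hν : ∀ p ∉ Ω, ν p = p) : Rl σ Ω (g * g') (μ * ν) := fun p hp => by
  rw [Perm.mul_apply, h' p hp, h _ (mem_of_fix hν hp), Perm.mul_apply]

theorem good_of [Finite X] (T : Tools) (h3 : F.R3 O) (hs : NAS F.grp) (hq : Cq F s k m V)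
    (hk : Kr F s k m) (hy : Sy F (sp (fun i => F.T (s i)) k)) (hw : F.Width m)
    (l : Lab s m σ Ω L)
    (ex : ∀ g ∈ F.grp, (∀ j < m, ∃ i < m, g (s j) = s i) → ∃ μ ∈ L, Rl σ Ω g μ)
    (sur : ∀ μ ∈ L, ∃ g ∈ F.grp, Rl σ Ω g μ) (hL : NAS L) (hN : NSC L) : Good F.grp := by
  obtain ⟨π, hπ⟩ := exists_pi (normalizer (AA F s m : Set F.grp))
    (fun g (μ : L) => Rl σ Ω g.1 μ.1) (fun g h μ ν a b => a.mul b (l.fix _ ν.2))
    (fun g μ ν a b => Subtype.ext (Equiv.ext fun p => by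
      by_cases hp : p ∈ Ω
      · exact l.inj (mem_of_fix (l.fix _ μ.2) hp) (mem_of_fix (l.fix _ ν.2) hp)
          ((a p hp).symm.trans (b p hp))
      · rw [l.fix _ μ.2 p hp, l.fix _ ν.2 p hp]))
    (fun g hg => by
      obtain ⟨μ, h1, h2⟩ := ex g.1 g.2 ((mem_norm hq hw).1 hg)
      exact ⟨⟨μ, h1⟩, h2⟩)
  have kr : ∀ x : F.grp, (∀ j < m, x.1 (s j) = s j) → x ∈ AA F s m := fun x hx =>
    (mem_AA hq).2 (hk _ (FS.grp_le_aut x.2) hx)
  refine T.le F.grp hs (hasD8 h3) (Set.range F.t) ?_ ?_ ?_ ?_ (AA F s m) _ ?_ rfl ?_ ?_ ?_ L π ?_ ?_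
    hL hN
  · rintro _ ⟨p, rfl⟩
    exact orderOf_eq_prime (by rw [pow_two, FS.t_sq]) (h3.t_ne_one p)
  · rintro _ ⟨p, rfl⟩ _ ⟨q, rfl⟩
    exact h3.isConj p q
  · rintro _ ⟨p, rfl⟩ g
    exact ⟨_, FS.t_conj p⟩
  · rintro _ ⟨p, rfl⟩ _ ⟨q, rfl⟩ h
    have key : F.t p * F.t q * (F.t p * F.t q) = 1 := by
      rcases H60.t_three (F := F) p q with e | e
      · rwa [pow_two] at e
      · rw [h.eq_one (Odd.of_dvd_nat (by decide : Odd 3) (orderOf_dvd_of_pow_eq_one e)), mul_one]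
    rw [← inv_eq_of_mul_eq_one_right key, mul_inv_rev, inv_eq_of_mul_eq_one_right (FS.t_sq p),
      inv_eq_of_mul_eq_one_right (FS.t_sq q)]
  · rintro _ ⟨j, -, rfl⟩
    exact ⟨_, rfl⟩
  · rintro _ ⟨i, hi, rfl⟩ _ ⟨j, hj, rfl⟩
    exact FS.commute_t.2 (hq.cl i hi j hj)
  · obtain ⟨P, -, -, h2, h4, h5⟩ := hy
    have hU : UM P (sp (fun i => F.T (s i)) k) := ⟨h4, hq.ci.ea, h5⟩
    refine fun h => h2 (h.trans (index_dvd_of_le (H := P.subgroupOf F.grp) fun x hx =>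
      mem_normalizer_fintype fun a ha => (mem_AA hq).2 (hU.conj_mem hx ((mem_AA hq).1 ha))))
  · exact fun x hx => kr x fun j hj => FS.commute_t_iff.1 (hx _ (t_mem_AA hj)).symm
  · intro μ
    obtain ⟨g, hg, h⟩ := sur μ μ.2
    refine ⟨⟨⟨g, hg⟩, (mem_norm hq hw).2 fun j hj => ?_⟩, (hπ _ _).2 h⟩
    obtain ⟨p, hp, e⟩ := l.b2 j hj
    obtain ⟨i, hi, e'⟩ := l.b1 _ (mem_of_fix (l.fix _ μ.2) hp)
    exact ⟨i, hi, by rw [← e, ← e']; exact h p hp⟩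
  · ext x
    rw [MonoidHom.mem_ker, hπ, mem_subgroupOf]
    refine ⟨fun h => kr _ fun j hj => ?_, fun h p hp => ?_⟩
    · obtain ⟨p, hp, e⟩ := l.b2 j hj
      rw [← e]
      exact h p hp
    · obtain ⟨j, hj, e⟩ := l.b1 p hp
      show x.1.1 (σ p) = σ p
      rw [e]
      exact fix_of_mem hq h hj

end Cfsg.Agent.H3.FkFi
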