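import Cfsg.Agent.H78.G40A
import Cfsg.Agent.S5057

/-! An involution centraliser of `A₇` does not lie in a subgroup isomorphic to `A₆`. -/

set_option autoImplicit false

namespace Cfsg.Agent.H78.G40

open Subgroup Equiv Equiv.Perm

universe u

theorem alt7_three (g : alternatingGroup (Fin 7)) (hg : orderOf g = 2) :
    ∃ t : alternatingGroup (Fin 7), orderOf t = 3 ∧ Commute g t := by
  rw [← Subgroup.orderOf_coe] at hg
  obtain ⟨n, hn⟩ := cycleType_prime_order (σ := (g : Perm (Fin 7))) (by rw [hg]; decide)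
  have h1 := mem_alternatingGroup.mp g.2
  rw [sign_of_cycleType] at h1
  have h1' := (neg_one_pow_eq_one_iff_even (by decide)).mp h1
  have h2 := sum_cycleType (g : Perm (Fin 7))
  have h3 : (g : Perm (Fin 7)).support.card ≤ 7 :=
    (Finset.card_le_univ _).trans (Fintype.card_fin 7).le
  rw [hn, hg] at h1' h2
  simp only [Multiset.sum_replicate, Multiset.card_replicate, smul_eq_mul] at h1' h2
  obtain ⟨k, hk⟩ := h1'
  have h4 : (g : Perm (Fin 7)).supportᶜ.card = 3 := by
    rw [Finset.card_compl, Fintype.card_fin]; omega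
  obtain ⟨a, b, c, ab, ac, bc, e⟩ := Finset.card_eq_three.mp h4
  have h6 : (swap a b * swap b c).support = {a, b, c} :=
    support_swap_mul_swap (by simp [ab, ac, bc])
  have h5 : (swap a b * swap b c).IsThreeCycle := by
    rw [← card_support_eq_three_iff, h6, ← e, h4]
  refine ⟨⟨_, h5.mem_alternatingGroup⟩, by rw [← Subgroup.orderOf_coe]; exact h5.orderOf,
    Subtype.ext (Equiv.Perm.Disjoint.commute ?_)⟩
  rw [disjoint_iff_disjoint_support]
  change _root_.Disjoint _ (swap a b * swap b c).support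
  rw [h6, ← e]
  exact disjoint_compl_right

theorem alt7S : Alt7S.{u} := by
  rintro K _ P r ⟨e⟩ ⟨f⟩ hr h
  obtain ⟨t, h1, h2⟩ := alt7_three (e r) (by rw [e.orderOf_eq, hr])
  have h3 : Commute r (e.symm t) := by simpa using h2.map e.symm
  have h4 : orderOf (e.symm t) = 3 := by rw [e.symm.orderOf_eq, h1]
  have h5 := h3.orderOf_mul_eq_mul_orderOf_of_coprime (by rw [hr, h4]; decide)
  have h6 : r * e.symm t ∈ P :=
    h (mem_centralizer_singleton_iff.2 (by rw [mul_assoc, h3.eq]))
  have h7 := S5057.order_le (f ⟨_, h6⟩)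
  rw [f.orderOf_eq, ← Subgroup.orderOf_coe, h5, hr, h4] at h7
  omega

end Cfsg.Agent.H78.G40
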