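import Cfsg.Agent.S4606
import Cfsg.Agent.S0960
import Cfsg.Agent.S4652

set_option autoImplicit false
open Cfsg

namespace Cfsg.Agent.H3.K4L3

theorem five_false {G : Type*} [Group G] [Finite G] (P : Subgroup G) (hP : Nat.card P = 5)
    (hc : ∀ x ∈ P, ∀ y ∈ P, x ≠ 1 → y ≠ 1 → IsConj x y) (e : ℕ) (he23 : e = 2 ∨ e = 3)
    (he : (Subgroup.centralizer (P : Set G)).relIndex (Subgroup.normalizer (P : Set G)) = e) :
    False := by
  haveI : Fact (Nat.Prime 5) := ⟨by norm_num⟩
  haveI : Nontrivial P := Finite.one_lt_card_iff_nontrivial.mp (by omega)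
  obtain ⟨x0, hx0⟩ := exists_ne (1 : P)
  have ho0 : orderOf x0 = 5 := by
    have h1 : orderOf x0 ∣ 5 := hP ▸ orderOf_dvd_natCard x0
    rcases (Nat.dvd_prime (by norm_num)).mp h1 with h | h
    · exact absurd (orderOf_eq_one_iff.mp h) hx0
    · exact h
  set x : G := (x0 : G) with hxdef
  have hxP : x ∈ P := x0.2
  have ho : orderOf x = 5 := by rw [hxdef, Subgroup.orderOf_coe]; exact ho0
  have hx1 : x ≠ 1 := by intro h; rw [h, orderOf_one] at ho; omega
  have hx2 : x ^ 2 ≠ 1 := by
    intro h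
    have := orderOf_dvd_of_pow_eq_one h
    rw [ho] at this; omega
  have hz : Subgroup.zpowers x = P := by
    apply Subgroup.eq_of_le_of_card_ge (Subgroup.zpowers_le.mpr hxP)
    rw [Nat.card_zpowers, ho, hP]
  obtain ⟨g, hg⟩ := isConj_iff.mp (hc x hxP (x ^ 2) (P.pow_mem hxP 2) hx1 hx2)
  have hgN : g ∈ Subgroup.normalizer (P : Set G) := by
    apply Subgroup.mem_normalizer_fintype
    intro n hn
    have hn' : n ∈ Subgroup.zpowers x := by rw [hz]; exact hn
    obtain ⟨k, rfl⟩ := Subgroup.mem_zpowers_iff.mp hn'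
    rw [← conj_zpow, hg]
    exact P.zpow_mem (P.pow_mem hxP 2) k
  have hpow : ∀ n : ℕ, g ^ n * x * (g ^ n)⁻¹ = x ^ (2 ^ n) := by
    intro n
    induction n with
    | zero => simp
    | succ n ih =>
      have : g ^ (n + 1) * x * (g ^ (n + 1))⁻¹ = g ^ n * (g * x * g⁻¹) * (g ^ n)⁻¹ := by
        rw [pow_succ]; group
      rw [this, hg, ← conj_pow, ih, ← pow_mul, pow_succ]
  haveI : ((Subgroup.centralizer (P : Set G)).subgroupOf (Subgroup.normalizer (P : Set G))).Normal :=
    Subgroup.normal_subgroupOf_centralizer_normalizer _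
  have hm := Subgroup.pow_index_mem
    ((Subgroup.centralizer (P : Set G)).subgroupOf (Subgroup.normalizer (P : Set G))) ⟨g, hgN⟩
  rw [Subgroup.mem_subgroupOf] at hm
  have he' : ((Subgroup.centralizer (P : Set G)).subgroupOf (Subgroup.normalizer (P : Set G))).index = e := he
  rw [he'] at hm
  have hm' : g ^ e ∈ Subgroup.centralizer (P : Set G) := by simpa using hm
  have hcomm : x * g ^ e = g ^ e * x := Subgroup.mem_centralizer_iff.mp hm' x hxP
  have h1 : x ^ (2 ^ e) = x ^ 1 := by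
    rw [← hpow e, ← hcomm]; simp
  rw [pow_eq_pow_iff_modEq, ho] at h1
  rcases he23 with rfl | rfl
  · exact absurd h1 (by decide)
  · exact absurd h1 (by decide)

theorem main {G : Type*} [Group G] [Finite G] (p : ℕ) [Fact p.Prime] (M : Ideal Cfsg.AlgInt)
    (hM : Cfsg.IsPModular p M) (hk : Nat.card (Cfsg.principalBlock M G) = 4)
    (hl : Cfsg.blockRank p (Cfsg.principalBlock M G) = 3) (D : Sylow p G)
    (h45 : Nat.card (D : Subgroup G) = 4 ∨ Nat.card (D : Subgroup G) = 5) :
    p = 2 ∧ Nat.card (D : Subgroup G) = 4 ∧ Cfsg.IsElementaryAbelian 2 (D : Subgroup G) := by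
  classical
  letI := Fintype.ofFinite G
  have hp : p.Prime := Fact.out
  have hB : IsPBlock M (principalBlock M G) := H17.isPBlock_principalBlock
  have hD : IsDefectGroup p M (principalBlock M G) (D : Subgroup G) :=
    (S4652.result p M hM (D : Subgroup G)).mpr ⟨D, rfl⟩
  have hkl : Nat.card (principalBlock M G) = blockRank p (principalBlock M G) + 1 := by omega
  obtain ⟨n, hn⟩ := (IsPGroup.iff_card.mp D.isPGroup')
  rcases h45 with h4 | h5
  · have hp2 : p = 2 := by
      rw [h4] at hn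
      have hn0 : n ≠ 0 := by rintro rfl; simp at hn
      have h1 : p ∣ 2 ^ 2 := by
        have : (2 : ℕ) ^ 2 = p ^ n := by omega
        rw [this]; exact dvd_pow_self p hn0
      exact (Nat.prime_dvd_prime_iff_eq hp Nat.prime_two).mp (hp.dvd_of_dvd_pow h1)
    subst hp2
    exact ⟨rfl, h4, S4606.result 2 M hM _ hB _ hD hkl (Or.inl rfl)⟩
  · exfalso
    have hp5 : p = 5 := by
      rw [h5] at hn
      have hn0 : n ≠ 0 := by rintro rfl; simp at hn
      have h1 : p ∣ 5 := by rw [hn]; exact dvd_pow_self p hn0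
      exact (Nat.prime_dvd_prime_iff_eq hp (by norm_num)).mp h1
    subst hp5
    have hBl := H17.lamClosed_of_isPBlock hM.2.1 hB
    have hDp : IsPGroup 5 (D : Subgroup G) := D.isPGroup'
    have hpe : ∀ x ∈ (D : Subgroup G), ∃ k : ℕ, orderOf x = 5 ^ k := by
      intro x hx
      obtain ⟨k, hk⟩ := (IsPGroup.iff_orderOf.mp hDp) ⟨x, hx⟩
      exact ⟨k, by rw [← hk, ← Subgroup.orderOf_coe]⟩
    have hc : ∀ x ∈ (D : Subgroup G), ∀ y ∈ (D : Subgroup G), x ≠ 1 → y ≠ 1 → IsConj x y :=
      fun x hx y hy hx1 hy1 =>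
      (H23.KL.key hM hBl hkl (hpe x hx) (hpe y hy) hx1 hy1
        ((H20.locSet_Cg_nonempty_iff_dg hM (hpe x hx) hB).mpr ⟨_, hD, hx⟩)
        ((H20.locSet_Cg_nonempty_iff_dg hM (hpe y hy) hB).mpr ⟨_, hD, hy⟩)).1
    have h960 := (S0960.result 5 M hM (by norm_num) D h5 _ rfl).1
    rw [hk] at h960
    refine five_false (D : Subgroup G) h5 hc _ ?_ rfl
    generalize (Subgroup.centralizer ((D : Subgroup G) : Set G)).relIndex
      (Subgroup.normalizer ((D : Subgroup G) : Set G)) = e at h960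
    have he4 : e ≤ 4 := by
      have := Nat.le_add_right e ((5 - 1) / e)
      rw [← h960] at this; exact this
    interval_cases e
    · exact absurd h960 (by decide)
    · exact absurd h960 (by decide)
    · exact Or.inl rfl
    · exact Or.inr rfl
    · exact absurd h960 (by decide)

end Cfsg.Agent.H3.K4L3
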