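import Cfsg.Agent.H23.KLTwo
import Cfsg.Agent.H54.BdCh
import Cfsg.Agent.H8.K4Ar
import Cfsg.Agent.H3.K4L3
import Cfsg.Agent.S4733
import Cfsg.Agent.S4607

set_option autoImplicit false

namespace Cfsg.Agent.H3.K4Ch
open Cfsg Cfsg.Agent.H17 Cfsg.Agent.H23.SecT Cfsg.Agent.H23.KL
open Cfsg.Agent.H18 (ppart isPPart_ppart ppart_eq_iff)
open scoped ComplexConjugate Classical

universe u
variable {G : Type u} [Group G] [Fintype G] {M : Ideal AlgInt} {p : ℕ} [Fact p.Prime]
variable [Fintype (IrrCharacter G)]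

theorem setup2 (hM : IsPModular p M)
    (hk : Nat.card (principalBlock M G) = blockRank p (principalBlock M G) + 1) (P : Sylow p G)
    (hP : (P : Subgroup G) ≠ ⊥) : ∃ (a : IrrCharacter G → ℤ), a (H21.triv G) = 1 ∧
      ∑ χ ∈ fB (principalBlock M G), a χ ^ 2 = Nat.card (P : Subgroup G) ∧
      ∀ g : G, ∃ c : ℤ, ∑ χ ∈ fB (principalBlock M G), (a χ : ℂ) * χ.1 g =
        (Nat.card (P : Subgroup G) : ℂ) * c := by
  have hp := (Fact.out : p.Prime)
  have hB : IsPBlock M (principalBlock M G) := isPBlock_principalBlock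
  haveI : Nontrivial (P : Subgroup G) := (Subgroup.nontrivial_iff_ne_bot _).mpr hP
  haveI := P.isPGroup'.center_nontrivial
  obtain ⟨⟨⟨u, huP⟩, hz⟩, hz1⟩ := exists_ne (1 : Subgroup.center (P : Subgroup G))
  have hu1 : u ≠ 1 := fun e => hz1 (Subtype.ext (Subtype.ext e))
  have hup := pelt_of_mem P.isPGroup' huP
  have hPC : (P : Subgroup G) ≤ Cg u := fun t ht =>
    mem_Cg.mpr (congrArg Subtype.val (Subgroup.mem_center_iff.mp hz ⟨t, ht⟩))
  have hconj : ∀ x : G, (∃ k : ℕ, orderOf x = p ^ k) → x ≠ 1 → IsConj u x := fun x hx hx1 =>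
    (principal_key hM hk hup hx hu1 hx1).1
  have hC := (principal_key hM hk hup hup hu1 hu1).2
  set q := Nat.card (P : Subgroup G) with hq
  have hq' : p ^ (Nat.card (Cg u)).factorization p = q :=
    (H8.isSylowIn_of_le P hPC).card_eq.symm
  have hq1 : 1 < q := Finite.one_lt_card
  have hval : ∀ (χ : IrrCharacter G) (x : G), (∃ k : ℕ, orderOf x = p ^ k) → x ≠ 1 →
      χ.1 x = χ.1 u := fun χ x hx hx1 =>
    (H11.classFun_of_isConj (irr_class χ) (hconj x hx hx1)).symm
  have hint : ∀ χ : IrrCharacter G, ∃ a m : ℤ, χ.1 u = a ∧ χ.1 1 = a + q * m := by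
    intro χ
    obtain ⟨n, hn⟩ := S4665.exists_nat_sum_subgroup (P : Subgroup G) (H11.irr_isCharacter χ)
    have h1 : ∑ x : (P : Subgroup G), χ.1 x = χ.1 1 + (q - 1) * χ.1 u := by
      rw [← Finset.add_sum_erase _ _ (Finset.mem_univ (1 : (P : Subgroup G)))]
      congr 1
      rw [Finset.sum_congr rfl (g := fun _ => χ.1 u), Finset.sum_const,
        Finset.card_erase_of_mem (Finset.mem_univ _), Finset.card_univ, ← Nat.card_eq_fintype_card,
        nsmul_eq_mul, Nat.cast_sub hq1.le, Nat.cast_one]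
      intro x hx
      exact hval χ x (pelt_of_mem P.isPGroup' x.2)
        fun e => (Finset.mem_erase.mp hx).1 (Subtype.ext e)
    obtain ⟨d, hd⟩ := H13.exists_nat_degree (H11.irr_isCharacter χ)
    have hq0 : (q : ℂ) - 1 ≠ 0 := sub_ne_zero.mpr (by exact_mod_cast hq1.ne')
    have h2 : χ.1 u = ((((q : ℚ) * n - d) / (q - 1) : ℚ) : ℂ) := by
      push_cast
      rw [eq_div_iff hq0, ← hn, h1, hd]; ring
    obtain ⟨a, ha⟩ := H12.exists_int_of_isIntegral_rat (h2 ▸ irr_isIntegral χ u)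
    have ha' : χ.1 u = a := by rw [h2, ha]; simp
    refine ⟨a, n - a, ha', ?_⟩
    rw [hn, ha'] at h1
    push_cast
    linear_combination -h1
  choose a m ha hm using hint
  have huinv : ∀ χ : IrrCharacter G, χ.1 u⁻¹ = a χ := fun χ => by
    rw [hval χ u⁻¹ (by rwa [orderOf_inv]) (inv_ne_one.mpr hu1), ha]
  have htr : H21.triv G ∈ principalBlock M G := H21.triv_mem_principal hM.2.1
  have hF : ∀ g : G, (q : ℂ) * ind u (ppart p g) =
      ∑ χ ∈ fB (principalBlock M G), a χ * χ.1 g := by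
    intro g
    have h1 := tw_eq_sum hM hB (ind_class u) htr g
    rw [H21.triv_apply, mul_one] at h1
    rw [h1, Finset.mul_sum]
    refine Finset.sum_congr rfl fun χ hχ => ?_
    have h2 := TT_ind_npc hM hup hC htr (mem_fB.mp hχ)
    rw [H21.triv_apply, one_mul, huinv, ← Nat.cast_pow, hq'] at h2
    rw [← mul_assoc, h2]
  have hind : ∀ g : G, ind u (ppart p g) = if p ∣ orderOf g then 1 else 0 := by
    intro g
    split_ifs with h
    · exact ind_of (hconj _ (ppart_elt g) (H20.pPart_ne_one (isPPart_ppart g) h))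
    · rw [ppart_eq_iff.mpr (H20.pPart_one_of_not_dvd h)]
      exact ind_of_not fun e => hu1 (isConj_one_left.mp e)
  have hpu : p ∣ orderOf u := H20.dvd_orderOf_of_pPart_ne_one hp (H20.pPart_self hp hup) hu1
  have e1 : ∑ χ ∈ fB (principalBlock M G), a χ ^ 2 = q := by
    have := hF u
    rw [hind, if_pos hpu, mul_one] at this
    simp only [ha] at this
    have h2 : ((∑ χ ∈ fB (principalBlock M G), a χ ^ 2 : ℤ) : ℂ) = ((q : ℤ) : ℂ) := by
      push_cast; rw [this]; simp only [sq]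
    exact_mod_cast h2
  have hq0 : (q : ℂ) ≠ 0 := by exact_mod_cast (by omega : q ≠ 0)
  refine ⟨a, ?_, e1, fun g => ?_⟩
  · have h1 := ha (H21.triv G)
    rw [H21.triv_apply] at h1
    exact_mod_cast h1.symm
  · have h1 := hF g
    rw [hind] at h1
    split_ifs at h1
    · exact ⟨1, by rw [← h1]; simp⟩
    · exact ⟨0, by rw [← h1]; simp⟩

theorem data (hM : IsPModular p M) (hk : Nat.card (principalBlock M G) = 4)
    (hl : blockRank p (principalBlock M G) = 3) (P : Sylow p G) (hP : (P : Subgroup G) ≠ ⊥) :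
    ∃ x y z : ℤ, ((Nat.card (P : Subgroup G) : ℕ) : ℤ) = 1 + x ^ 2 + y ^ 2 + z ^ 2 ∧
      ∀ a b c d : ℤ, ((Nat.card (P : Subgroup G) : ℕ) : ℤ) ∣ b - a * x →
        ((Nat.card (P : Subgroup G) : ℕ) : ℤ) ∣ c - a * y →
        ((Nat.card (P : Subgroup G) : ℕ) : ℤ) ∣ d - a * z →
        ((Nat.card (P : Subgroup G) : ℕ) : ℤ) * a ≤ a ^ 2 + b ^ 2 + c ^ 2 + d ^ 2 := by
  obtain ⟨a, ha1, ha2, ha3⟩ := setup2 hM (by omega) P hP
  have htr : H21.triv G ∈ principalBlock M G := H21.triv_mem_principal hM.2.1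
  let e0 : Fin 4 ≃ principalBlock M G := (Finite.equivFinOfCardEq hk).symm
  let e : Fin 4 ≃ principalBlock M G := (Equiv.swap 0 (e0.symm ⟨_, htr⟩)).trans e0
  have he0 : e 0 = ⟨_, htr⟩ := by simp [e]
  let χ : Fin 4 → IrrCharacter G := fun i => (e i).1
  have hinj : Function.Injective χ := Subtype.val_injective.comp e.injective
  have hχ0 : χ 0 = H21.triv G := by simp [χ, he0]
  have hsum : ∀ {R : Type} [AddCommMonoid R] (f : IrrCharacter G → R),
      ∑ ψ ∈ fB (principalBlock M G), f ψ = ∑ i, f (χ i) := by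
    intro R _ f
    symm
    refine Finset.sum_bij (fun i _ => χ i) (fun i _ => mem_fB.mpr (e i).2)
      (fun i _ j _ h => hinj h) (fun ψ hψ => ⟨e.symm ⟨ψ, mem_fB.mp hψ⟩, Finset.mem_univ _, ?_⟩)
      (fun _ _ => rfl)
    simp [χ]
  set q := Nat.card (P : Subgroup G) with hq
  have hq0 : 0 < q := Nat.card_pos
  refine ⟨a (χ 1), a (χ 2), a (χ 3), ?_, ?_⟩
  · rw [hsum, Fin.sum_univ_four, hχ0, ha1] at ha2
    rw [← ha2]; ring
  · rintro t b c d ⟨w1, hw1⟩ ⟨w2, hw2⟩ ⟨w3, hw3⟩
    have h := (H54.BdCh.gen H54.BdCh.ineq0 G χ hinj 0 (by rw [hχ0]; rfl) ![t, b, c, d] q hq0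
      (fun g => ?_)).1
    · simpa [Fin.sum_univ_four] using h
    · obtain ⟨k, hk⟩ := ha3 g
      rw [hsum, Fin.sum_univ_four, hχ0, ha1] at hk
      have hqc : (q : ℂ) ≠ 0 := by exact_mod_cast hq0.ne'
      have hb : (b : ℂ) = t * a (χ 1) + q * w1 := by
        have : b = t * a (χ 1) + q * w1 := by linarith
        rw [this]; push_cast; ring
      have hc : (c : ℂ) = t * a (χ 2) + q * w2 := by
        have : c = t * a (χ 2) + q * w2 := by linarith
        rw [this]; push_cast; ring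
      have hd : (d : ℂ) = t * a (χ 3) + q * w3 := by
        have : d = t * a (χ 3) + q * w3 := by linarith
        rw [this]; push_cast; ring
      have hE : (∑ i, ((![t, b, c, d] i : ℤ) : ℂ) * (χ i : G → ℂ) g) / q =
          (t : ℂ) * k + w1 * (χ 1).1 g + w2 * (χ 2).1 g + w3 * (χ 3).1 g := by
        rw [div_eq_iff hqc, Fin.sum_univ_four, hχ0]
        simp only [Matrix.cons_val_zero, Matrix.cons_val_one, Matrix.cons_val]
        rw [hb, hc, hd]
        push_cast at hk
        linear_combination (t : ℂ) * hk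
      rw [hE]
      have hz : ∀ n : ℤ, IsIntegral ℤ (n : ℂ) := fun n => isIntegral_algebraMap (R := ℤ) (x := n)
      exact (((hz t).mul (hz k)).add ((hz w1).mul (irr_isIntegral _ g))).add
        ((hz w2).mul (irr_isIntegral _ g)) |>.add ((hz w3).mul (irr_isIntegral _ g))

end Cfsg.Agent.H3.K4Ch
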