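import Cfsg.Agent.H44.K5Defs
import Cfsg.Agent.H30.Herm

set_option autoImplicit false

namespace Cfsg.Agent.H3.K5Uni

theorem uni : H44.K5.UniStmt := fun n hn A hs hpd hdet => by
  obtain ⟨U, -, hU⟩ := H30.Herm.uni n hn A hs hpd hdet
  exact ⟨U, hU⟩

end Cfsg.Agent.H3.K5Uni
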