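import Cfsg.Agent.H3.KnC2f
import Cfsg.Agent.Eqn.Cfsg_Agent_H3_KnC2c_ev

/-! Project KN, piece C2C: the classes of involutions in case II. -/

set_option autoImplicit false
set_option maxRecDepth 100000
set_option synthInstance.maxSize 2000

namespace Cfsg.Agent.H3.KnC2c

open Equiv Subgroup Cfsg.Agent.H11.A16 Cfsg.Agent.H17.Kn Cfsg.Agent.H63 Cfsg.Agent.H64.KnG
open Cfsg.Agent.H89.Rec (Syl Idx2)

universe u

theorem ev_mem (af : Af) (n : ℕ) : ∀ w, ev n w ∈ Aff := by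
  induction n with
  | zero => exact fun _ => one_mem _
  | succ n ih =>
    intro w
    rw [ev]
    split_ifs
    · exact one_mem _
    · refine mul_mem ?_ (ih _)
      rw [gn]
      split_ifs
      · exact af.s
      · exact af.qk _ (xe_QK _ _)

theorem act_v0 : Act v0 (T 0 0 1 0 0 0 1 0 0 0) := by decide +kernel

theorem act_z : Act H17.Kn.z2 (T 0 0 0 1 0 0 0 0 0 0) := by decide +kernel

theorem okT (m1 : Mod1) (af : Af) {u : N2} (hu : u ∈ T0) (h2 : u * u = 1) :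
    ∃ m ∈ Aff, ok m u := by
  have h1 := act_U m1 hu
  have h3 := h1.mul h1
  rw [h2] at h3
  have h4 := h3.unique act_one
  rw [U, T_mul, ← T_one, T_inj] at h4
  have e : u = g10 (en u 0 1) (en u 0 2) (en u 0 3) (en u 0 4) (en u 1 2) (en u 1 3) (en u 1 4)
    (en u 2 3) (en u 2 4) (en u 3 4) := m1.nf u hu
  revert e h4
  generalize en u 0 1 = a, en u 0 2 = b, en u 0 3 = c, en u 0 4 = d, en u 1 2 = e, en u 1 3 = f,
    en u 1 4 = g, en u 2 3 = h, en u 2 4 = k, en u 3 4 = l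
  rintro ⟨-, a1, a2, a3, -, a4, a5, -, a6, -⟩ rfl
  have z : ∀ p q : ZMod 2, p + q + p = 0 → q = 0 := by decide
  refine ⟨_, ev_mem af _ _, key a e h l (z _ _ a1) (z _ _ a4) (z _ _ a6) b f (z c _ ?_) k
    (z g _ ?_) c g (z d _ ?_) d⟩
  · rw [← a2]; ring
  · rw [← a5]; ring
  · rw [← a3]; ring

theorem cls (m1 : Mod1) {y : N2} (hy : y ∈ T0) :
    y * v0 * y⁻¹ = v0 ∨ y * v0 * y⁻¹ = v0 * H17.Kn.z2 := by
  have h1 := act_U m1 hy
  rw [mul_inv_eq_iff_eq_mul, mul_inv_eq_iff_eq_mul]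
  have h2 := h1.mul act_v0
  have h3 := act_v0.mul h1
  have h4 := (act_v0.mul act_z).mul h1
  rw [U, T_mul] at h2 h3
  rw [U, T_mul, T_mul] at h4
  have z : ∀ p q : ZMod 2, p = q ∨ p = q + 1 := by decide
  rcases z (en y 0 1) (en y 3 4) with e | e
  · refine Or.inl (h2.eq ?_)
    convert h3 using 1
    rw [T_inj, e]
    refine ⟨?_, ?_, ?_, ?_, ?_, ?_, ?_, ?_, ?_, ?_⟩ <;> ring
  · refine Or.inr (h2.eq ?_)
    convert h4 using 1
    rw [T_inj, e]
    refine ⟨?_, ?_, ?_, ?_, ?_, ?_, ?_, ?_, ?_, ?_⟩ <;> ring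

theorem four (m1 : Mod1) {y : N2} (hy : y ∈ T0) : y * y * (y * y) ≠ v0 := fun e => by
  have h1 := act_U m1 hy
  have h2 := (h1.mul h1).mul (h1.mul h1)
  rw [e] at h2
  have h3 := h2.unique act_v0
  rw [U, T_mul, T_mul, T_inj] at h3
  have h4 := h3.2.2.1
  revert h4
  generalize en y 0 1 = a, en y 0 2 = b, en y 0 3 = c, en y 1 2 = e, en y 1 3 = f, en y 2 3 = h
  revert a b c e f h
  decide

theorem four' (m1 : Mod1) {y : N2} (hy : y ∈ T0) : y * gm y * (y * gm y) ≠ v0 := fun e => by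
  have h1 := act_U m1 hy
  have hq := act_U m1 (mul_mem hy (gm_mem m1 y))
  have h2 := hq.mul (act_gm_inv m1 hy h1)
  rw [mul_inv_cancel_right] at h2
  have h3 := h2.unique h1
  have h4 := hq.mul hq
  rw [e] at h4
  have h5 := h4.unique act_v0
  rw [U, T_mul, T_inj] at h5
  rw [U, U, fl_T, T_mul, T_inj] at h3
  obtain ⟨-, -, -, -, a1, a2, -, a3, -, -⟩ := h3
  obtain ⟨-, -, b1, -, -, b2, -⟩ := h5
  revert a1 a2 a3 b1 b2
  generalize en (y * gm y) 0 1 = a, en (y * gm y) 0 2 = b, en (y * gm y) 0 3 = c,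
    en (y * gm y) 1 2 = e, en (y * gm y) 1 3 = f, en (y * gm y) 2 3 = h, en y 1 2 = p,
    en y 2 3 = q, en y 1 3 = r
  revert a b c e f h p q r
  decide +kernel

variable {G : Type u} [Group G] {J : N2 → G} {φ : G → Perm Ω} {t : G}

theorem real (k : Kit J φ) {m : Perm Ω} (hm : m ∈ Aff) {u v : N2} (hu : u ∈ T0) (hv : v ∈ T0)
    (h : cj m u v) : ∃ g, R J g u v := by
  have e : m * pm2 u * m⁻¹ = pm2 v := by
    rw [mul_inv_eq_iff_eq_mul]; exact Equiv.ext h
  obtain ⟨g, -, -, hg⟩ := k.real (zpowers u) T0 (zpowers_le.2 hu) le_rfl m hm (by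
    rintro _ ⟨n, rfl⟩
    exact ⟨v ^ n, zpow_mem hv n, by rw [map_zpow, map_zpow, ← e, conj_zpow]⟩)
  exact ⟨g, hg u (mem_zpowers u) v hv e⟩

theorem memTT (m1 : Mod1) (h : Tg J φ t) (tt : t * t = 1) {s : G} (hs : s ∈ TT J t) :
    ∃ y ∈ T0, s = J y ∨ s = J y * t := by
  have em := h.em
  have ti : t⁻¹ = t := inv_eq_of_mul_eq_one_left tt
  have sw : ∀ u ∈ T0, t * J u = J (gm u) * t := fun u hu => mul_inv_eq_iff_eq_mul.1 (h.act u hu)
  let K : Subgroup G :=
    { carrier := {s | ∃ y ∈ T0, s = J y ∨ s = J y * t}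
      one_mem' := ⟨1, one_mem _, Or.inl em.one.symm⟩
      mul_mem' := by
        rintro _ _ ⟨y, hy, rfl | rfl⟩ ⟨v, hv, rfl | rfl⟩
        · exact ⟨y * v, mul_mem hy hv, Or.inl (em.mul _ hy _ hv).symm⟩
        · exact ⟨y * v, mul_mem hy hv, Or.inr (by rw [em.mul _ hy _ hv, mul_assoc])⟩
        · exact ⟨y * gm v, mul_mem hy (gm_mem m1 v), Or.inr (by
            rw [em.mul _ hy _ (gm_mem m1 v), mul_assoc, mul_assoc, sw v hv])⟩
        · exact ⟨y * gm v, mul_mem hy (gm_mem m1 v), Or.inl (by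
            rw [em.mul _ hy _ (gm_mem m1 v), mul_assoc, ← mul_assoc t, sw v hv, mul_assoc, tt,
              mul_one])⟩
      inv_mem' := by
        rintro _ ⟨y, hy, rfl | rfl⟩
        · exact ⟨y⁻¹, inv_mem hy, Or.inl (em.inv hy).symm⟩
        · exact ⟨gm y⁻¹, gm_mem m1 _, Or.inr (by
            rw [mul_inv_rev, ti, ← em.inv hy, sw _ (inv_mem hy)])⟩ }
  have : TT J t ≤ K := sup_le (im_le fun u hu => ⟨u, hu, Or.inl rfl⟩)
    (zpowers_le.2 ⟨1, one_mem _, Or.inr (by rw [em.one, one_mul])⟩)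
  exact this hs

theorem c2c (hB : Base.{u}) : C2cStmt.{u} := by
  intro G _ _ J φ t h hS tt
  have m1 := hB.m1
  have k := hB.kit J φ h.toKi
  have em := h.em
  obtain ⟨f1, f2, f3, f4, f5, f6, f7, zT, vT, f8, f9, f10, f11, f12, f13, f14⟩ := facts
  refine ⟨fun u hu h2 htv => ?_, fun u hu h2 h1 htv => ?_, fun g hg => ?_⟩
  · obtain ⟨m, hm, o⟩ := okT m1 hB.af hu h2
    rw [ok, if_pos htv] at o
    rcases o with o | o
    · exact real k hm hu zT o
    · obtain ⟨g, a⟩ := real k hm hu f8 o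
      obtain ⟨g', -, b⟩ := k.fus _ f4 f5
      have c := h.act _ (AA_le_T0 f4)
      rw [f3] at c
      exact ⟨_, (a.trans c.symm).trans b.symm⟩
  · obtain ⟨m, hm, o⟩ := okT m1 hB.af hu h2
    rw [ok, if_neg htv] at o
    rcases o with o | o | o
    · exact absurd o h1
    · exact real k hm hu vT o
    · obtain ⟨g, a⟩ := real k hm hu f9 o
      obtain ⟨g', b⟩ := real k (ev_mem hB.af _ _) f10 vT f1
      have c := h.act _ f10
      rw [f2] at c
      exact ⟨_, (a.trans c.symm).trans b⟩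
  · have mS : ∀ y ∈ T0, J y ∈ TT J t := fun y hy => mem_sup_left (mem_im hy)
    have tS : t ∈ TT J t := mem_sup_right (mem_zpowers t)
    have tz : t * J H17.Kn.z2 * t⁻¹ = J H17.Kn.z2 := by have := h.act _ zT; rwa [f7] at this
    have tv0 : t * J v0 * t⁻¹ = J v0 := by have := h.act _ vT; rwa [f6] at this
    have cz : TT J t ≤ C1[J H17.Kn.z2] := sup_le (im_le fun u hu =>
      mem_centralizer_singleton_iff.2 (by
        rw [← em.mul _ hu _ zT, ← em.mul _ zT _ hu, (hB.m2.ab.2.2.2.2.2.2 u).eq]))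
      (zpowers_le.2 (mem_centralizer_singleton_iff.2 (mul_inv_eq_iff_eq_mul.1 tz)))
    obtain ⟨r, hr, hc⟩ := hB.gen.extr (TT J t) (J v0) (J H17.Kn.z2) g⁻¹ hS (mS _ zT)
      (by rw [inf_eq_left.2 cz]; exact hS.mono cz le_top) (mS _ vT) hg.symm
    have i1 : Idx2 (TT J t ⊓ centralizer {J v0}) (TT J t) :=
      Idx2.of_swap (y' := J (v0 * H17.Kn.z2)) (s := J (xe 0 1)) (fun s hs => by
        obtain ⟨y, hy, e⟩ := memTT m1 h tt hs
        have e1 : s * J v0 * s⁻¹ = J (y * v0 * y⁻¹) := by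
          rw [← em.self hy vT]
          rcases e with rfl | rfl
          · rfl
          · rw [← congrArg (fun q => J y * q * (J y)⁻¹) tv0]; group
        rw [e1]
        exact (cls m1 hy).imp (congrArg J) (congrArg J)) (mS _ f11) fun e => f13 (by
          refine em.inj _ (mul_mem f11 vT) _ (mul_mem vT f11) ?_
          rw [em.mul _ f11 _ vT, em.mul _ vT _ f11]; exact e)
    have i2 : Idx2 ((TT J t ⊓ centralizer {J v0}).map (MulAut.conj r).toMonoidHom) (TT J t) :=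
      Idx2.of_card (by
        rintro _ ⟨c, ⟨c1, c2⟩, rfl⟩
        exact hc c c1 (mem_centralizer_singleton_iff.1 c2)) (by
        rw [card_map_of_injective (MulAut.conj r).injective]; exact i1.card)
    have sq : ∀ y ∈ T0, J y * t * (J y * t) = J (y * gm y) := fun y hy => by
      rw [em.mul _ hy _ (gm_mem m1 y), ← h.act y hy, inv_eq_of_mul_eq_one_left tt]; group
    obtain ⟨c, ⟨c1, -⟩, e⟩ := i2.sq_mem (mul_mem (mS _ f12) tS)
    rw [sq _ f12] at e
    have e4 : c ^ 4 = J v0 := by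
      apply (MulAut.conj r).injective
      rw [map_pow]
      change (MulAut.conj r).toMonoidHom c ^ 4 = r * J v0 * r⁻¹
      rw [e, hr, ← em.pow (mul_mem f12 (gm_mem m1 _)), f14]
    rw [show c ^ 4 = c * c * (c * c) by simp only [pow_succ, pow_zero, one_mul, mul_assoc]] at e4
    obtain ⟨y, hy, rfl | rfl⟩ := memTT m1 h tt c1
    · rw [← em.mul _ hy _ hy, ← em.mul _ (mul_mem hy hy) _ (mul_mem hy hy)] at e4
      exact four m1 hy (em.inj _ (mul_mem (mul_mem hy hy) (mul_mem hy hy)) _ vT e4)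
    · have q := mul_mem hy (gm_mem m1 y)
      rw [sq y hy, ← em.mul _ q _ q] at e4
      exact four' m1 hy (em.inj _ (mul_mem q q) _ vT e4)

end Cfsg.Agent.H3.KnC2c
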