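import Cfsg.Agent.H3.LTB2

/-! Alignment of the two sides: tools and the case `EE`. -/

set_option autoImplicit false

namespace Cfsg.Agent.H3.LTB

open Subgroup Cfsg.Agent.H85 Cfsg.Agent.H93.LT

universe u

variable {G : Type u} [Group G]

theorem kitA_of {h : Hyp G} (k : Kit h) : KitA h := { k with }

theorem cn_cn (u r o : G) : cn (cn u o) (cn r o) = cn (cn u r) o := by simp only [cn]; group

theorem comm_cn {x y : G} (c : Commute x y) (o : G) : Commute (cn x o) (cn y o) := by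
  rw [Commute, SemiconjBy, ← cn_mul', c.eq, cn_mul']

theorem cn_fix {u v r o : G} (hu : cn u o = u) (hv : cn v o = v) (e : cn u r = v) :
    cn u (cn r o) = v := by rw [← hu, cn_cn, e, hv]

theorem comm_fix {x y o : G} (c : Commute x y) (hy : cn y o = y) : Commute (cn x o) y :=
  hy ▸ comm_cn c o

theorem order_cn (x o : G) : orderOf (cn x o) = orderOf x := by
  simpa only [MulAut.conj_apply, inv_inv] using (MulAut.conj o⁻¹).orderOf_eq x

theorem eq_one_of {P : Subgroup G} (hP : IsPGroup 2 P) {x : G} (hx : x ∈ P) (h : Odd (orderOf x)) :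
    x = 1 := by
  obtain ⟨n, e⟩ := hP ⟨x, hx⟩
  exact orderOf_eq_one_iff.1 (Nat.Coprime.eq_one_of_dvd
    (Nat.Coprime.pow_right n (Nat.coprime_two_right.2 h))
    (orderOf_dvd_of_pow_eq_one (congrArg Subtype.val e)))

theorem comm_of_odd {P : Subgroup G} (hP : IsPGroup 2 P) {o x : G} (ho : Odd (orderOf o))
    (hc : o ∈ centralizer (P : Set G)) (h : x⁻¹ * cn x o ∈ P) : Commute x o := by
  generalize hv : x⁻¹ * cn x o = v at h
  have e : cn x o = x * v := by rw [← hv, mul_inv_cancel_left]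
  have key : ∀ n : ℕ, cn x (o ^ n) = x * v ^ n := fun n => by
    induction n with
    | zero => simp
    | succ n ih => rw [pow_succ, cn_mul, ih, cn_mul', e, cn_comm (hc _ (pow_mem h n)), pow_succ',
        mul_assoc]
  have h1 := key (orderOf o)
  rw [pow_orderOf_eq_one] at h1
  have h2 : v ^ orderOf o = 1 := by simpa using h1.symm
  rw [eq_one_of hP h (ho.of_dvd_nat (orderOf_dvd_of_pow_eq_one h2)), mul_one] at e
  exact comm_of_cn e

theorem pquot_zp {B : Subgroup G} {d : G} (hd : d ∈ normalizer (B : Set G)) {k : ℕ}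
    (h : d ^ 2 ^ k ∈ B) : PQuot 2 B (B ⊔ zpowers d) := fun x hx => by
  obtain ⟨b, hb, _, ⟨i, rfl⟩, rfl⟩ := (mem_sup_of_le_normalizer (zpowers_le_of_mem hd)).1 hx
  have key : ∀ n : ℕ, (b * d ^ i) ^ n * ((d ^ i) ^ n)⁻¹ ∈ B := fun n => by
    induction n with
    | zero => simp
    | succ n ih =>
      have := mul_mem ih (cn_mem (inv_mem (pow_mem (zpow_mem hd i) n)) hb)
      convert this using 1
      simp only [pow_succ, cn]; group
  refine ⟨k, (mul_mem_cancel_right (inv_mem ?_)).1 (key _)⟩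
  rw [← zpow_natCast, ← zpow_mul, mul_comm, zpow_mul, zpow_natCast]
  exact zpow_mem h i

variable [Finite G]

theorem N_sup {B : Subgroup G} {d g : G} (hB : ∀ x ∈ B, cn x g ∈ B ⊔ zpowers d)
    (h : cn d g ∈ B ⊔ zpowers d) : g ∈ normalizer ((B ⊔ zpowers d : Subgroup G) : Set G) :=
  mem_N fun _ hx => mem_cj.1 ((sup_le (fun x hx => mem_cj.2 (hB x hx))
    (zpowers_le_of_mem (mem_cj.2 h)) : _ ≤ cj g (B ⊔ zpowers d)) hx)

theorem align {Γ O Q : Subgroup G} (hQ : IsSyl 2 Q Γ) (h1 : O ≤ Γ) (h2 : Γ ≤ normalizer (O : Set G))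
    (h3 : PQuot 2 O Γ) {m : G} (hm : m ∈ Γ) (h4 : m * m = 1) : ∃ o ∈ O, cn m o ∈ Q := by
  obtain ⟨g, hg, e⟩ := hQ.exists_le_cj (Q := zpowers m)
    ((pquot_zp (B := ⊥) (le_normalizer_of_normal (mem_top m)) (k := 1)
      (by rw [pow_one, pow_two, h4]; exact one_mem _)).isPGroup IsPGroup.of_bot |>.to_le le_sup_right)
    (zpowers_le_of_mem hm)
  obtain ⟨o, ho, q, hq, rfl⟩ := (mem_sup_of_le_normalizer (hQ.le.trans h2)).1
    ((hQ.sup_eq_of_pquot h1 h2 h3).ge hg)
  exact ⟨o, ho, cn_mem' (le_normalizer hq) (by rw [← cn_mul]; exact mem_cj.1 (e (mem_zpowers m)))⟩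

variable {h : Hyp G}

theorem sylZ (k : KitA h) : IsSyl 2 h.Z (centralizer (h.T0 : Set G)) := by
  have h1 := (h.syl.of_le (le_inf h.syl.le (T_N k)) inf_le_left).inf_of_le_normalizer
    (N := centralizer (h.T0 : Set G))
    (fun x hx => ⟨ct.2 (hx _ (E1_T0 h (Z_E1 h (tZ h)))), centralizer_le_normalizer _ hx⟩)
    (inf_le_right.trans (normalizer_le_normalizer_centralizer _))
  rwa [show h.T ⊓ centralizer (h.T0 : Set G) = h.Z from le_antisymm
    (fun x hx => inf_E k (CT_E1 k hx.1 (centralizer_le (E1_T0 h) hx.2))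
      (m_E1 h ▸ CT_E1 (kitA_mirror k) hx.1 (m_E1 h ▸ centralizer_le (E2_T0 h) hx.2)))
    (le_inf ((Z_E1 h).trans ((E1_T0 h).trans (T0_T h))) (Z_cent h))] at h1

omit [Finite G] in
theorem Z_T0 (h : Hyp G) : h.Z ≤ h.T0 := (Z_E1 h).trans (E1_T0 h)

theorem exists_O1 (k : KitA h) {T1 : Subgroup G} (h1 : h.T0 ≤ T1) : ∃ O : Subgroup G,
    (∀ o, o ∈ O ↔ o ∈ centralizer (T1 : Set G) ∧ Odd (orderOf o)) ∧
      normalizer (T1 : Set G) ≤ normalizer (O : Set G) := by
  obtain ⟨O, h2, -⟩ := exists_odd_compl (sylZ k) fun x hx v hv => (hx v (Z_T0 h hv)).symm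
  have key : ∀ o, o ∈ O ⊓ centralizer (T1 : Set G) ↔
      o ∈ centralizer (T1 : Set G) ∧ Odd (orderOf o) := fun o =>
    ⟨fun e => ⟨e.2, ((h2 o).1 e.1).2⟩, fun e => ⟨(h2 o).2 ⟨centralizer_le h1 e.1, e.2⟩, e.1⟩⟩
  exact ⟨_, key, fun n hn => mem_N fun o ho => (key _).2
    ⟨cn_mem (normalizer_le_normalizer_centralizer _ hn) ho.2, order_cn o n ▸ ((key o).1 ho).2⟩⟩

theorem dec_C (k : KitA h) {c x y : G} (hc : c ∈ centralizer (h.T0 : Set G))
    (hx : x ∈ normalizer (h.T0 : Set G)) (hy : y ∈ normalizer (h.T0 : Set G)) (cx : Commute x c)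
    (cy : Commute y c) : ∃ u ∈ h.Z, ∃ o ∈ centralizer (closure {h.t, h.f, h.a, h.b, x, y} : Set G),
      Odd (orderOf o) ∧ c = u * o := by
  obtain ⟨O, h2, -, h3⟩ := exists_odd_compl (sylZ k) fun x hx v hv => (hx v (Z_T0 h hv)).symm
  obtain ⟨u, hu, o, ho, rfl⟩ := h3 c hc
  obtain ⟨h4, h5⟩ := (h2 o).1 ho
  have key : ∀ x ∈ normalizer (h.T0 : Set G), Commute x (u * o) → Commute x o := fun x hx c =>
    comm_of_odd (pT0 h) h5 h4 (by
      have e : cn x o = cn x u⁻¹ := by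
        nth_rw 2 [← cn_comm c]
        rw [← cn_mul, mul_assoc, ← (show Commute u o from h4 u (Z_T0 h hu)).inv_left.eq,
          mul_inv_cancel_left]
      have := mul_mem (cn_mem hx (Z_T0 h hu)) (inv_mem (Z_T0 h hu))
      rw [e]; convert this using 1; simp only [cn]; group)
  refine ⟨u, hu, o, ?_, h5, rfl⟩
  rw [centralizer_closure]
  rintro v (rfl | rfl | rfl | rfl | rfl | rfl)
  exacts [h4 _ (Z_T0 h (tZ h)), h4 _ (Z_T0 h (fZ h)), h4 _ (aT0 h), h4 _ (bT0 h), key _ hx cx,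
    key _ hy cy]

omit [Finite G] in
theorem P_Z (h : Hyp G) : h.P ≤ h.Z := closure_mono fun _ k => Or.inr k

omit [Finite G] in
theorem comm_P (h : Hyp G) {p x : G} (hp : p ∈ h.P) (h1 : Commute x h.z) (h2 : Commute x h.f) :
    Commute x p := mem_centralizer_singleton_iff.1 ((closure_le (centralizer {x})).2 (by
      rintro v (rfl | rfl)
      exacts [mem_centralizer_singleton_iff.2 h1.symm, mem_centralizer_singleton_iff.2 h2.symm]) hp)
      |>.symm

omit [Finite G] in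
theorem mem_Z (h : Hyp G) {u : G} (hu : u ∈ h.Z) : u ∈ h.P ∨ u * h.t ∈ h.P :=
  cases_closure (centralizer_le_normalizer _ fun _ hp => (comm_P h hp (tz h) h.tf).symm) h.tt (by
    rintro v (rfl | rfl | rfl)
    exacts [Or.inr rfl, Or.inl (subset_closure (by simp)), Or.inl (subset_closure (by simp))]) hu

omit [Finite G] in
theorem mem_P (h : Hyp G) {u : G} (hu : u ∈ h.P) :
    u = 1 ∨ u = h.z ∨ u = h.f ∨ u = h.z * h.f := by
  have := cases_closure (K := zpowers h.z) (a := h.f) (centralizer_le_normalizer _ (by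
    rintro _ ⟨n, rfl⟩; exact ((fz h).symm.zpow_left n).eq)) h.ff (s := {h.z, h.f}) (by
      rintro x (rfl | rfl); exacts [Or.inl (mem_zpowers _), Or.inr rfl]) hu
  have ai := inv_eq_of_mul_eq_one_right h.ff
  rcases this with k | k <;> rcases mem_zp h k with k | k
  · exact Or.inl k
  · exact Or.inr (Or.inl k)
  · exact Or.inr (Or.inr (Or.inl ((eq_inv_of_mul_eq_one_left k).trans ai)))
  · exact Or.inr (Or.inr (Or.inr (by rw [eq_mul_inv_of_mul_eq k, ai])))

theorem N_T0 (h : Hyp G) {g : G} (h1 : cn h.t g ∈ h.T0) (h2 : Commute g h.f) (h3 : Commute g h.a)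
    (h4 : cn h.b g ∈ h.T0) : g ∈ normalizer (h.T0 : Set G) := mem_N_closure (by
  rintro x (rfl | rfl | rfl | rfl)
  exacts [h1, (cn_comm h2.symm).symm ▸ Z_T0 h (fZ h), (cn_comm h3.symm).symm ▸ aT0 h, h4])

theorem p_T1 (h : Hyp G) {x y : G} (hx : x ∈ normalizer (h.T0 : Set G))
    (hy : y ∈ normalizer (h.T0 : Set G)) (x2 : x * x = 1) (y2 : y * y = 1)
    (xy : x⁻¹ * cn x y ∈ h.T0) : IsPGroup 2 (closure {h.t, h.f, h.a, h.b, x, y} : Subgroup G) := by
  have h1 := (pquot_zp hx (k := 1) (by rw [pow_one, pow_two, x2]; exact one_mem _)).isPGroup (pT0 h)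
  have h2 := (pquot_zp (N_sup (d := x) (fun v hv => mem_sup_left (cn_mem hy hv))
    ((mul_mem_cancel_left (inv_mem (mem_sup_right (mem_zpowers x)))).1 (mem_sup_left xy))) (k := 1)
    (by rw [pow_one, pow_two, y2]; exact one_mem _)).isPGroup h1
  refine h2.to_le ((closure_le _).2 ?_)
  rintro v (rfl | rfl | rfl | rfl | rfl | rfl)
  exacts [mem_sup_left (mem_sup_left (Z_T0 h (tZ h))), mem_sup_left (mem_sup_left (Z_T0 h (fZ h))),
    mem_sup_left (mem_sup_left (aT0 h)), mem_sup_left (mem_sup_left (bT0 h)),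
    mem_sup_left (mem_sup_right (mem_zpowers _)), mem_sup_right (mem_zpowers _)]

omit [Finite G] in
theorem T0_T1 (h : Hyp G) (x y : G) : h.T0 ≤ closure {h.t, h.f, h.a, h.b, x, y} :=
  closure_mono (by intro v; simp; tauto)

end Cfsg.Agent.H3.LTB
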