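import Cfsg.Agent.H3.LTAl1

/-! Alignment of the two sides: the case `TQ`. -/

set_option autoImplicit false
set_option linter.unusedSimpArgs false

namespace Cfsg.Agent.H3.LTB

open Subgroup Cfsg.Agent.H85 Cfsg.Agent.H93.LT

universe u

variable {G : Type u} [Group G]

namespace Q

variable (h : TQ0 G)

/-- the group `T₁` -/
abbrev T1 : Subgroup G := closure {h.t, h.f, h.a, h.b, h.y, h.Y}

theorem t1 : h.t ∈ T1 h := subset_closure (by simp)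
theorem f1 : h.f ∈ T1 h := subset_closure (by simp)
theorem a1 : h.a ∈ T1 h := subset_closure (by simp)
theorem b1 : h.b ∈ T1 h := subset_closure (by simp)
theorem y1 : h.y ∈ T1 h := subset_closure (by simp)
theorem Y1 : h.Y ∈ T1 h := subset_closure (by simp)
theorem z1 : h.z ∈ T1 h := z_mem h.toHyp (a1 h) (b1 h)

/-- the data with `n` conjugated by an element centralizing `T₁` -/
def twist (o : G) (c : ∀ v ∈ T1 h, cn v o = v) : TQ0 G :=
  { h with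
    n := cn h.n o
    nn := by rw [← cn_mul', h.nn]; simp [cn]
    zn := cn_fix (c _ (z1 h)) (c _ (f1 h)) h.zn
    nb := comm_fix h.nb (c _ (b1 h))
    ny := comm_fix h.ny (c _ (y1 h))
    tn := cn_fix (c _ (t1 h)) (c _ (mul_mem (mul_mem (mul_mem (z1 h) (f1 h)) (b1 h)) (t1 h))) h.tn
    an := cn_fix (c _ (a1 h)) (c _ (mul_mem (a1 h) (y1 h))) h.an
    Yn := cn_fix (c _ (Y1 h)) (c _ (mul_mem (b1 h) (Y1 h))) h.Yn
    nX := h.Xn.conj_mem' _ h.nX o }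

theorem fn : cn h.f h.n = h.z := by rw [← h.zn, ← cn_mul, h.nn]; simp [cn]

theorem sw {x g v : G} (g2 : g * g = 1) (e : cn x g = x * v) : g * x = x * (v * g) := by
  rw [← mul_assoc, ← e, cn, inv_eq_of_mul_eq_one_right g2, mul_assoc _ g, g2, mul_one]

theorem act : ∀ v ∈ T1 h, cn v ((h.m * h.n) ^ 4) = v := by
  have l : ∀ {a b c : G}, a * b = c → ∀ w, a * (b * w) = c * w := fun e w => by rw [← mul_assoc, e]
  have r1 := sw h.aa (ba h.toHyp)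
  have r2 := h.ta.eq
  have r3 := h.tb.eq
  have r4 := h.ya.eq
  have r5 := sw h.yy (h.by.trans (mul_assoc _ _ _))
  have r6 := sw h.yy h.ty
  have r7 := h.Ya.eq
  have r8 := h.Yb.eq
  have r9 := sw h.YY (h.tY.trans (mul_assoc _ _ _))
  have r10 := sw h.YY h.yY
  have s1 := (fz h.toHyp).eq
  have s2 := h.za.symm.eq
  have s3 := h.zb.symm.eq
  have s4 := (tz h.toHyp).eq
  have s5 := h.yz.eq
  have s6 := h.Yz.eq
  have u2 := h.fa.symm.eq
  have u3 := h.fb.symm.eq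
  have u4 := h.tf.eq
  have u5 := h.yf.eq
  have u6 := h.Yf.eq
  have r0 : h.b * h.a = h.z * (h.a * h.b) := by
    rw [r1, l s3, mul_assoc, l h.zz, one_mul]
  have k2 : cn h.t ((h.m * h.n) ^ 2) = h.Y ∧ cn h.f ((h.m * h.n) ^ 2) = h.f ∧
      cn h.a ((h.m * h.n) ^ 2) = h.a ∧ cn h.b ((h.m * h.n) ^ 2) = h.f * h.b ∧
      cn h.y ((h.m * h.n) ^ 2) = h.y ∧ cn h.Y ((h.m * h.n) ^ 2) = h.t := by
    simp only [pow_succ, pow_zero, one_mul, cn_mul, cn_mul', h.tm, h.Ym, h.bm, h.zn, fn h, h.tn,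
      h.an, h.Yn, cn_comm h.mz.symm, cn_comm h.mf.symm, cn_comm h.ma.symm, cn_comm h.my.symm,
      cn_comm h.nb.symm, cn_comm h.ny.symm]
    simp only [mul_assoc, r0, r2, r3, r4, r5, r6, r7, r8, r9, r10,
      s1, s2, s3, s4, s5, s6, u2, u3, u4, u5, u6, l r0, l r2, l r3, l r4, l r5, l r6, l r7, l r8,
      l r9, l r10, l s1, l s2, l s3, l s4, l s5, l s6, l u2, l u3, l u4, l u5, l u6, h.aa, h.bb,
      h.tt, h.ff, h.zz, h.yy, h.YY, l h.aa, l h.bb, l h.tt, l h.ff, l h.zz, l h.yy, l h.YY,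
      one_mul, mul_one, and_self]
  obtain ⟨k1, k2, k3, k4, k5, k6⟩ := k2
  have k : cn h.t ((h.m * h.n) ^ 4) = h.t ∧ cn h.f ((h.m * h.n) ^ 4) = h.f ∧
      cn h.a ((h.m * h.n) ^ 4) = h.a ∧ cn h.b ((h.m * h.n) ^ 4) = h.b ∧
      cn h.y ((h.m * h.n) ^ 4) = h.y ∧ cn h.Y ((h.m * h.n) ^ 4) = h.Y := by
    rw [show 4 = 2 + 2 from rfl, pow_add]
    simp only [cn_mul, cn_mul', k1, k2, k3, k4, k5, k6, l h.ff, one_mul, and_self]
  intro v hv
  refine cn_comm ((show (h.m * h.n) ^ 4 ∈ centralizer (T1 h : Set G) from ?_) v hv)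
  rw [centralizer_closure]
  rintro v (rfl | rfl | rfl | rfl | rfl | rfl)
  exacts [comm_of_cn k.1, comm_of_cn k.2.1, comm_of_cn k.2.2.1, comm_of_cn k.2.2.2.1,
    comm_of_cn k.2.2.2.2.1, comm_of_cn k.2.2.2.2.2]

variable [Finite G]

theorem y_N : h.y ∈ normalizer (h.T0 : Set G) :=
  N_T0 h.toHyp (h.ty ▸ Z_T0 h.toHyp (mul_mem (tZ _) (fZ _))) h.yf h.ya
    (h.by ▸ mul_mem (mul_mem (bT0 h.toHyp) (Z_T0 h.toHyp (fZ _))) (Z_T0 h.toHyp (zZ _)))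

theorem Y_N : h.Y ∈ normalizer (h.T0 : Set G) :=
  N_T0 h.toHyp (h.tY ▸ Z_T0 h.toHyp (mul_mem (mul_mem (tZ _) (fZ _)) (zZ _))) h.Yf h.Ya
    ((cn_comm h.Yb.symm).symm ▸ bT0 h.toHyp)

theorem pT1 : IsPGroup 2 (T1 h) := p_T1 h.toHyp (y_N h) (Y_N h) h.yy h.YY
  (by rw [h.yY, inv_mul_cancel_left]; exact Z_T0 h.toHyp (fZ _))

theorem dec (k : KitA h.toHyp) : ∃ u ∈ h.Z, ∃ o ∈ centralizer (T1 h : Set G),
    Odd (orderOf o) ∧ (h.m * h.n) ^ 4 = u * o :=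
  dec_C k (fun v hv => comm_of_cn (act h v (T0_T1 h.toHyp _ _ hv))) (y_N h) (Y_N h)
    (comm_of_cn (act h _ (y1 h))) (comm_of_cn (act h _ (Y1 h)))

theorem fin (k : KitA h.toHyp) {Q : Subgroup G} (pQ : IsPGroup 2 Q) (h1 : T1 h ≤ Q) (hm : h.m ∈ Q)
    (hn : h.n ∈ Q) : (h.m * h.n) ^ 4 = 1 ∨ (h.m * h.n) ^ 4 = h.z * h.f := by
  obtain ⟨u, hu, o, ho, h2, e⟩ := dec h k
  have h3 : o ∈ Q := (mul_mem_cancel_left (h1 (T0_T1 h.toHyp _ _ (Z_T0 h.toHyp hu)))).1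
    (e ▸ pow_mem (mul_mem hm hn) 4)
  rw [eq_one_of pQ h3 h2, mul_one] at e
  have f1 : h.f ≠ 1 := fun e => h.fL (e ▸ one_mem _)
  have fz : h.f ≠ h.z := fun e => h.fL (e ▸ zL h.toHyp)
  have hP : u ∈ h.P := (mem_Z h.toHyp hu).resolve_right fun k => by
    have c1 : Commute h.y u := e ▸ comm_of_cn (act h _ (y1 h))
    have c3 := c1.inv_right.mul_right (comm_P h.toHyp k h.yz h.yf)
    rw [inv_mul_cancel_left] at c3
    exact f1 (by simpa using (cn_comm c3.symm).symm.trans h.ty)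
  have c1 : Commute u (h.m * h.n) := e ▸ (Commute.refl _).pow_left 4
  have c2 := cn_comm c1
  rw [cn_mul, cn_comm (comm_P h.toHyp hP h.mz h.mf).symm] at c2
  rw [e]
  rcases mem_P h.toHyp hP with k | k | k | k
  · exact Or.inl k
  · rw [k, h.zn] at c2; exact absurd c2 fz
  · rw [k, fn] at c2; exact absurd c2.symm fz
  · exact Or.inr k

theorem m_N : h.m ∈ normalizer (T1 h : Set G) := mem_N_closure (by
  rintro v (rfl | rfl | rfl | rfl | rfl | rfl)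
  exacts [h.tm ▸ mul_mem (a1 h) (t1 h), (cn_comm h.mf.symm).symm ▸ f1 h,
    (cn_comm h.ma.symm).symm ▸ a1 h,
    h.bm ▸ mul_mem (mul_mem (mul_mem (b1 h) (t1 h)) (y1 h)) (Y1 h),
    (cn_comm h.my.symm).symm ▸ y1 h, h.Ym ▸ mul_mem (mul_mem (f1 h) (a1 h)) (Y1 h)])

theorem n_N : h.n ∈ normalizer (T1 h : Set G) := mem_N_closure (by
  rintro v (rfl | rfl | rfl | rfl | rfl | rfl)
  exacts [h.tn ▸ mul_mem (mul_mem (mul_mem (z1 h) (f1 h)) (b1 h)) (t1 h), fn h ▸ z1 h,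
    h.an ▸ mul_mem (a1 h) (y1 h), (cn_comm h.nb.symm).symm ▸ b1 h, (cn_comm h.ny.symm).symm ▸ y1 h,
    h.Yn ▸ mul_mem (b1 h) (Y1 h)])

end Q

theorem alQ (hk : KitStmt.{u}) : AlQStmt.{u} := by
  intro G _ _ h
  have k := kitA_of (hk G h.toHyp)
  obtain ⟨O, hO, hN⟩ := exists_O1 k (T0_T1 h.toHyp h.y h.Y)
  have nB : normalizer (Q.T1 h : Set G) ≤ normalizer ((O ⊔ Q.T1 h : Subgroup G) : Set G) :=
    le_normalizer_sup hN le_rfl
  have hm := Q.m_N h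
  have hn := Q.n_N h
  have m2 : h.m * h.m ∈ Q.T1 h := h.mm ▸ mul_mem (Q.f1 h) (Q.a1 h)
  have hc : (h.m * h.n) ^ 2 ^ 2 ∈ O ⊔ Q.T1 h := by
    obtain ⟨u, hu, o, ho, h2, e⟩ := Q.dec h k
    rw [show 2 ^ 2 = 4 from rfl, e]
    exact mul_mem (mem_sup_right (T0_T1 h.toHyp _ _ (Z_T0 h.toHyp hu)))
      (mem_sup_left ((hO o).2 ⟨ho, h2⟩))
  have q1 := pquot_sup (Q.pT1 h) (le_normalizer.trans hN)
  set B := O ⊔ Q.T1 h
  have q2 := q1.trans (pquot_zp (nB (mul_mem hm hn)) hc)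
  have q3 := q2.trans (pquot_zp (d := h.n) (N_sup (fun v hv => mem_sup_left (cn_mem (nB hn) hv)) (by
    have := mul_mem (inv_mem (mem_sup_right (mem_zpowers (h.m * h.n))) :
      (h.m * h.n)⁻¹ ∈ B ⊔ zpowers (h.m * h.n)) (mem_sup_left (mem_sup_right m2))
    convert this using 1
    rw [cn, mul_assoc, mul_assoc, h.nn]; group)) (k := 1)
    (by rw [pow_one, pow_two, h.nn]; exact one_mem _))
  set C := B ⊔ zpowers (h.m * h.n) ⊔ zpowers h.n
  have BC : B ≤ C := le_sup_left.trans le_sup_left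
  have nC : h.n ∈ C := mem_sup_right (mem_zpowers _)
  have mC : h.m ∈ C := (mul_mem_cancel_right nC).1 (mem_sup_left (mem_sup_right (mem_zpowers _)))
  have hΓ : C ≤ normalizer (O : Set G) := le_trans (sup_le (sup_le (sup_le
    (fun o ho => centralizer_le_normalizer _ ((hO o).1 ho).1) le_normalizer)
    (zpowers_le_of_mem (mul_mem hm hn))) (zpowers_le_of_mem hn)) hN
  obtain ⟨R, hQ, hTQ⟩ := exists_isSyl_ge (H := C) ((pquot_zp hm (k := 1)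
    (by rw [pow_one, pow_two]; exact m2)).isPGroup (Q.pT1 h))
    (sup_le (le_sup_right.trans BC) (zpowers_le_of_mem mC))
  obtain ⟨o, ho, e1⟩ := align hQ (le_sup_left.trans BC) hΓ q3 nC h.nn
  let l := Q.twist h o fun v hv => cn_comm (((hO o).1 ho).1 v hv)
  exact ⟨⟨l, Q.fin l (kitA_of (hk G l.toHyp)) hQ.isPGroup (le_sup_left.trans hTQ)
    (hTQ (mem_sup_right (mem_zpowers _))) e1⟩, rfl, rfl, rfl⟩

end Cfsg.Agent.H3.LTB
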