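import Cfsg.Agent.H3.LTB1

/-! The second half of the kit. -/

set_option autoImplicit false

namespace Cfsg.Agent.H3.LTB

open Subgroup Cfsg.Agent.H85 Cfsg.Agent.H93.LT

universe u

variable {G : Type u} [Group G] [Finite G] {h : Hyp G}

theorem exists_odd_compl {C Z : Subgroup G} (hS : IsSyl 2 Z C)
    (hc : ∀ x ∈ C, ∀ v ∈ Z, x * v = v * x) : ∃ O : Subgroup G,
    (∀ x, x ∈ O ↔ x ∈ C ∧ Odd (orderOf x)) ∧ Odd (Nat.card O) ∧
      ∀ x ∈ C, ∃ v ∈ Z, ∃ o ∈ O, x = v * o := by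
  have hP : normalizer ((hS.toSylow : Subgroup C) : Set C) ≤
      centralizer ((hS.toSylow : Subgroup C) : Set C) := fun x _ v hv =>
    Subtype.ext (hc x x.2 v hv).symm
  have h1 := MonoidHom.ker_transferSylow_isComplement' hS.toSylow hP
  have h2 := MonoidHom.not_dvd_card_ker_transferSylow hS.toSylow hP
  have h3 : Odd (Nat.card ((MonoidHom.transferSylow hS.toSylow hP).ker.map C.subtype)) := by
    rw [card_map_of_injective C.subtype_injective]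
    exact Nat.not_even_iff_odd.1 (mt even_iff_two_dvd.1 h2)
  refine ⟨_, fun x => ⟨fun hx => ⟨map_subtype_le _ hx, h3.of_dvd_nat (orderOf_dvd_natCard _ hx)⟩,
    fun hx => ⟨⟨x, hx.1⟩, ?_, rfl⟩⟩, h3, fun x hx => ?_⟩
  · obtain ⟨n, e⟩ := hS.toSylow.isPGroup' (MonoidHom.transferSylow hS.toSylow hP ⟨x, hx.1⟩)
    have h4 := hx.2.of_dvd_nat ((orderOf_map_dvd (MonoidHom.transferSylow hS.toSylow hP) _).trans
      (dvd_of_eq (orderOf_coe (⟨x, hx.1⟩ : C)).symm))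
    exact orderOf_eq_one_iff.1 (Nat.Coprime.eq_one_of_dvd
      (Nat.Coprime.pow_right n (Nat.coprime_two_right.2 h4)) (orderOf_dvd_of_pow_eq_one e))
  · obtain ⟨⟨a, b⟩, e⟩ := h1.symm.2 ⟨x, hx⟩
    exact ⟨_, a.2, _, ⟨_, b.2, rfl⟩, (congrArg Subtype.val e).symm⟩

omit [Finite G] in
theorem ct {c : G} : c ∈ centralizer ({h.t} : Set G) ↔ Commute h.t c :=
  mem_centralizer_singleton_iff.trans eq_comm

omit [Finite G] in
theorem pT0 (h : Hyp G) : IsPGroup 2 h.T0 := h.syl.isPGroup.to_le (T0_T h)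

omit [Finite G] in
theorem T0_ct (h : Hyp G) : h.T0 ≤ centralizer {h.t} := (T0_T h).trans h.syl.le

/-- the normalizer of `E₁` in `C(t)` -/
abbrev N1 (h : Hyp G) : Subgroup G := centralizer {h.t} ⊓ normalizer (h.E1 : Set G)

theorem syl_N1 (k : KitA h) : IsSyl 2 h.T0 (N1 h) := by
  refine ⟨le_inf (T0_ct h) (T0_N h), pT0 h, fun R pR h1 h2 => le_antisymm (fun x hx => ?_) h1⟩
  obtain ⟨c, -, e⟩ := h.syl.exists_cj_le pR (h2.trans inf_le_left)
  obtain ⟨h3, h4⟩ := jay k ((cj_mono c h1).trans e)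
  have h5 : c * x * c⁻¹ ∈ normalizer (cj c h.E1 : Set G) := by
    rw [← cj_normalizer]; exact conj_mem_cj (h2 hx).2
  rw [← conj_mem_cj_iff (g := c), cj_eq_of_mem_normalizer h3]
  rcases h4 with ⟨e1, -⟩ | ⟨e1, -⟩ <;> rw [e1] at h5
  · exact NT_E1 k (e (conj_mem_cj hx)) h5
  · exact m_T0 h ▸ NT_E1 (kitA_mirror k) (e (conj_mem_cj hx)) (m_E1 h ▸ h5)

omit [Finite G] in
theorem CE_le (h : Hyp G) : centralizer (h.E1 : Set G) ≤ N1 h := fun _ hx =>
  ⟨ct.2 (hx _ (Z_E1 h (tZ h))), centralizer_le_normalizer _ hx⟩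

theorem sylE1 (k : KitA h) : IsSyl 2 h.E1 (centralizer (h.E1 : Set G)) := by
  have := (syl_N1 k).inf_of_le_normalizer (CE_le h)
    (inf_le_right.trans (normalizer_le_normalizer_centralizer _))
  rwa [show h.T0 ⊓ centralizer (h.E1 : Set G) = h.E1 from le_antisymm
    (fun x hx => CT_E1 k (T0_T h hx.1) hx.2)
    (le_inf (E1_T0 h) fun x hx y hy => EA.comm k.cE.2.2.1 hy hx)] at this

theorem piV (k : KitA h) {c u : G} (hc : c ∈ N1 h) (hu : u ∈ h.E1) : u⁻¹ * cn u c ∈ h.V1 :=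
  D0_E1 k (k.pi c hc.1 u (T0_T h (E1_T0 h hu)) (T0_T h (E1_T0 h (cn_mem hc.2 hu))))
    (mul_mem (inv_mem hu) (cn_mem hc.2 hu))

theorem cnV (k : KitA h) {c u : G} (hc : c ∈ N1 h) (hu : u ∈ h.V1) : cn u c ∈ h.V1 :=
  (mul_mem_cancel_left (inv_mem hu)).1 (piV k hc (V1_E1 h hu))

theorem KC (k : KitA h) {c : G} (hc : c ∈ N1 h) (hz : cn h.z c = h.z) (ha : cn h.a c = h.a) :
    c ∈ centralizer (h.E1 : Set G) := by
  have hV : ∀ g, g ∈ centralizer (h.V1 : Set G) → Commute h.z g ∧ Commute h.a g := fun g hg =>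
    ⟨hg _ (zV h), hg _ (aV h)⟩
  have hN : N1 h ≤ normalizer ((N1 h ⊓ centralizer (h.V1 : Set G) : Subgroup G) : Set G) :=
    le_normalizer_inf le_normalizer (le_trans (fun g hg => mem_N fun x hx => cnV k hg hx)
      (normalizer_le_normalizer_centralizer _))
  have h1 := ((syl_N1 k).inf_of_le_normalizer inf_le_left hN).sup_eq_of_pquot
    (N := centralizer (h.E1 : Set G)) (le_inf (CE_le h) (centralizer_le (V1_E1 h)))
    ((inf_le_left.trans inf_le_right).trans (normalizer_le_normalizer_centralizer _))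
    fun g hg => ⟨1, by
      rw [pow_one, pow_two]
      refine cent_E1 h ((ct.1 hg.1.1).mul_right (ct.1 hg.1.1)) ((hV g hg.2).1.mul_right (hV g hg.2).1)
        (comm_of_cn ?_) ((hV g hg.2).2.mul_right (hV g hg.2).2)
      have h2 := piV k hg.1 (Z_E1 h (fZ h))
      generalize hv : h.f⁻¹ * cn h.f g = v at h2
      have e : cn h.f g = h.f * v := by rw [← hv, mul_inv_cancel_left]
      rw [cn_mul, e, cn_mul', e, cn_comm (hg.2 v h2), mul_assoc, k.cE.2.2.1 v (V1_E1 h h2), mul_one]⟩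
  refine (h1.ge.trans (sup_le le_rfl fun x hx => ?_)) ⟨hc, ?_⟩
  · have : x ∈ h.E1 := (mem_T0 h hx.1).resolve_right fun e => nab h (by
      have h2 := EA.comm k.cE.2.2.1 (aE h) e
      rwa [← mul_assoc, (hV x hx.2.2).2.eq, mul_assoc, mul_assoc, mul_left_cancel_iff] at h2)
    exact fun y hy => EA.comm k.cE.2.2.1 hy this
  · rw [Pre.V1, SetLike.mem_coe, centralizer_closure]
    rintro y (rfl | rfl)
    exacts [comm_of_cn hz, comm_of_cn ha]

omit [Finite G] in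
theorem cn_inj {x y g : G} (e : cn x g = cn y g) : x = y := by simpa [cn] using e

omit [Finite G] in
theorem cn_one {x g : G} (e : cn x g = 1) : x = 1 := cn_inj (g := g) (e.trans (by simp [cn]))

omit [Finite G] in
theorem a_ne (h : Hyp G) : h.a ≠ 1 ∧ h.z ≠ h.a :=
  ⟨fun e => nab h (by rw [e, one_mul, mul_one]), fun e => nab h (e ▸ h.zb)⟩

theorem aut1 (k : KitA h) : ∀ c ∈ centralizer ({h.t} : Set G), c ∈ normalizer (h.E1 : Set G) →
    ∃ w ∈ closure ({h.b, h.r} : Set G), ∀ x ∈ h.E1, cn x c = cn x w := by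
  intro c c1 c2
  have hc : c ∈ N1 h := ⟨c1, c2⟩
  have hb : h.b ∈ closure ({h.b, h.r} : Set G) := subset_closure (by simp)
  have hr : h.r ∈ closure ({h.b, h.r} : Set G) := subset_closure (by simp)
  have zb := cn_comm h.zb
  have azr : cn (h.a * h.z) h.r = h.z := by
    rw [cn_mul', h.ar, h.zr, mul_assoc, h.za.eq, ← mul_assoc, h.aa, one_mul]
  obtain ⟨w, hw, e1, e2⟩ : ∃ w ∈ closure ({h.b, h.r} : Set G),
      cn h.z c = cn h.z w ∧ cn h.a c = cn h.a w := by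
    have n1 : cn h.z c ≠ 1 := fun e => h.z1 (cn_one e)
    have n2 : cn h.a c ≠ 1 := fun e => (a_ne h).1 (cn_one e)
    have n3 : cn h.z c ≠ cn h.a c := fun e => (a_ne h).2 (cn_inj e)
    rcases (mem_V1 h (cnV k hc (zV h))).resolve_left n1 with e1 | e1 | e1 <;>
      rcases (mem_V1 h (cnV k hc (aV h))).resolve_left n2 with e2 | e2 | e2
    · exact (n3 (e1.trans e2.symm)).elim
    · exact ⟨1, one_mem _, by simpa using e1, by simpa using e2⟩
    · exact ⟨_, hb, by rw [e1, zb], by rw [e2, h.ab]⟩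
    · exact ⟨_, mul_mem hb hr, by rw [e1, cn_mul, zb, h.zr], by rw [e2, cn_mul, h.ab, azr]⟩
    · exact (n3 (e1.trans e2.symm)).elim
    · exact ⟨_, hr, by rw [e1, h.zr], by rw [e2, h.ar]⟩
    · exact ⟨_, mul_mem hr hr, by rw [e1, cn_mul, h.zr, h.ar], by rw [e2, cn_mul, h.ar, azr]⟩
    · exact ⟨_, mul_mem (mul_mem hb hr) hr, by rw [e1, cn_mul, cn_mul, zb, h.zr, h.ar],
        by rw [e2, cn_mul, cn_mul, h.ab, azr, h.zr]⟩
    · exact (n3 (e1.trans e2.symm)).elim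
  have hwN : w ∈ N1 h := (closure_le (N1 h)).2 (by
    rintro x (rfl | rfl)
    exacts [⟨ct.2 h.tb, b_N h⟩, ⟨ct.2 h.rt.symm, r_N h⟩]) hw
  have := KC k (mul_mem hc (inv_mem hwN)) (by rw [cn_mul, e1]; simp [mul_assoc])
    (by rw [cn_mul, e2]; simp [mul_assoc])
  refine ⟨w, hw, fun x hx => ?_⟩
  rw [show c = c * w⁻¹ * w by group, cn_mul, cn_comm (this x hx)]

theorem tr1 (k : KitA h) : ∀ n ∈ normalizer (h.E1 : Set G), cn h.t n ∈ h.Z →
    ∃ m, h.N0 m ∧ cn h.t m = cn h.t n := by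
  intro n hn hZ
  obtain ⟨c, hc, e⟩ := (syl_N1 k).exists_cj_le (isPGroup_cj n (pT0 h)) fun x hx =>
    ⟨mem_centralizer_singleton_iff.2 (by
      have := Z_cent h hZ _ (mem_cj.1 hx)
      calc x * h.t = n * (n⁻¹ * x * n * cn h.t n) * n⁻¹ := by group
        _ = _ := by rw [this]; group),
      by simpa [mul_assoc] using mul_mem (mul_mem hn (T0_N h (mem_cj.1 hx))) (inv_mem hn)⟩
  rw [← cj_mul] at e
  exact ⟨c * n, N0_of k (mem_normalizer_of_cj_le e) (mul_mem hc.2 hn),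
    by rw [cn_mul, cn_comm (ct.1 hc.1)]⟩

omit [Finite G] in
theorem trZ (k : KitA h) : ∀ u ∈ h.Z, IsConj h.t u →
    ∃ n ∈ normalizer (h.T0 : Set G), cn h.t n = u := by
  intro u hu hc
  obtain ⟨g, e1, e2⟩ := k.into u h.T0 hc (pT0 h) fun x hx =>
    mem_centralizer_singleton_iff.2 (Z_cent h hu x hx)
  exact ⟨g⁻¹, (jay k ((cj_le_iff_le_cj_inv _).2 fun x hx => mem_cj.2 (by simpa using e2 x hx))).1,
    by rw [← e1]; simp [mul_assoc]⟩

theorem fix1 (k : KitA h) {c : G} (hc : c ∈ centralizer ({h.t} : Set G)) (hn : h.N0 c) :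
    cn h.z c = h.z ∧ (cn h.a c = h.a ∨ cn h.a c = h.a * h.z) := by
  have h1 : cn h.z c = h.z := by
    have h2 := cn_mem hn.2 (Z_E2 h (zZ h))
    rcases mem_V1 h (cnV k ⟨hc, hn.1⟩ (zV h)) with e | e | e | e
    · exact absurd (cn_one e) h.z1
    · exact e
    · exact absurd (e ▸ h2) (a_E2 k)
    · exact absurd ((mul_mem_cancel_right (Z_E2 h (zZ h))).1 (e ▸ h2)) (a_E2 k)
  refine ⟨h1, ?_⟩
  rcases mem_V1 h (cnV k ⟨hc, hn.1⟩ (aV h)) with e | e | e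
  · exact absurd (cn_one e) (a_ne h).1
  · exact absurd (cn_inj (h1.trans e.symm)) (a_ne h).2
  · exact e

theorem N0_dec (k : KitA h) {c : G} (hc : c ∈ centralizer ({h.t} : Set G)) (hn : h.N0 c) :
    c ∈ h.T0 ⊔ centralizer (h.T0 : Set G) := by
  have hN : ∀ d ∈ h.T0, h.N0 d := fun d hd => N0_of k (le_normalizer hd) (T0_N h hd)
  have mu : ∀ {x y}, h.N0 x → h.N0 y → h.N0 (x * y) := fun a b => ⟨mul_mem a.1 b.1, mul_mem a.2 b.2⟩
  have s1 : ∀ c ∈ centralizer ({h.t} : Set G), h.N0 c → cn h.a c = h.a → cn h.b c = h.b →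
      c ∈ h.T0 ⊔ centralizer (h.T0 : Set G) := fun c hc hn e1 e2 =>
    mem_sup_right (cent_T0 h (ct.1 hc) (KC k ⟨hc, hn.1⟩ (fix1 k hc hn).1 e1 _ (Z_E1 h (fZ h)))
      (comm_of_cn e1) (comm_of_cn e2))
  have s2 : ∀ c ∈ centralizer ({h.t} : Set G), h.N0 c → cn h.a c = h.a →
      c ∈ h.T0 ⊔ centralizer (h.T0 : Set G) := fun c hc hn e1 => by
    rcases (fix1 (kitA_mirror k) hc ((m_N0 h).2 hn)).2 with e | e
    · exact s1 c hc hn e1 e
    · refine (mul_mem_cancel_right (mem_sup_left (aT0 h))).1 (s1 _ (mul_mem hc (ct.2 h.ta))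
        (mu hn (hN _ (aT0 h))) (by rw [cn_mul, e1, cn_comm (Commute.refl _)]) ?_)
      rw [cn_mul, show cn h.b c = h.b * h.z from e, cn_mul', ba, cn_comm h.za, mul_assoc, h.zz,
        mul_one]
  rcases (fix1 k hc hn).2 with e | e
  · exact s2 c hc hn e
  · refine (mul_mem_cancel_right (mem_sup_left (bT0 h))).1 (s2 _ (mul_mem hc (ct.2 h.tb))
      (mu hn (hN _ (bT0 h))) ?_)
    rw [cn_mul, e, cn_mul', h.ab, cn_comm h.zb, mul_assoc, h.zz, mul_one]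

theorem nT0 (k : KitA h) : ∃ O : Subgroup G, Odd (Nat.card O) ∧ O ≤ centralizer (h.T0 : Set G) ∧
    normalizer (h.T0 : Set G) ≤ normalizer (O : Set G) ∧
    ∀ c ∈ centralizer ({h.t} : Set G), c ∈ normalizer (h.T0 : Set G) →
      ∃ u ∈ h.T, ∃ o ∈ O, c = u * o := by
  have hT := h.syl.of_le (le_inf h.syl.le (T_N k)) inf_le_left
  have hC : centralizer (h.T0 : Set G) ≤ centralizer {h.t} ⊓ normalizer (h.T0 : Set G) :=
    fun x hx => ⟨ct.2 (hx _ (E1_T0 h (Z_E1 h (tZ h)))), centralizer_le_normalizer _ hx⟩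
  have h1 := hT.inf_of_le_normalizer hC (inf_le_right.trans (normalizer_le_normalizer_centralizer _))
  rw [show h.T ⊓ centralizer (h.T0 : Set G) = h.Z from le_antisymm
    (fun x hx => inf_E k (CT_E1 k hx.1 (centralizer_le (E1_T0 h) hx.2))
      (m_E1 h ▸ CT_E1 (kitA_mirror k) hx.1 (m_E1 h ▸ centralizer_le (E2_T0 h) hx.2)))
    (le_inf ((Z_E1 h).trans ((E1_T0 h).trans (T0_T h))) (Z_cent h))] at h1
  obtain ⟨O, h2, h3, h4⟩ := exists_odd_compl h1 fun x hx v hv => (hx v (E1_T0 h (Z_E1 h hv))).symm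
  have h5 : normalizer (h.T0 : Set G) ≤ normalizer (O : Set G) := fun n hn => mem_N fun o ho =>
    (h2 _).2 ⟨cn_mem (normalizer_le_normalizer_centralizer _ hn) ((h2 o).1 ho).1, by
      have := (MulAut.conj n⁻¹).orderOf_eq o
      simp only [MulAut.conj_apply, inv_inv] at this
      rw [this]; exact ((h2 o).1 ho).2⟩
  refine ⟨O, h3, fun o ho => ((h2 o).1 ho).1, h5, fun c c1 c2 => ?_⟩
  have h6 : ∀ n ∈ normalizer (h.T0 : Set G), cj n h.E1 = h.E1 ∧ cj n h.E2 = h.E2 ∨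
      cj n h.E1 = h.E2 ∧ cj n h.E2 = h.E1 := fun n hn =>
    (jay k ((cj_eq_of_mem_normalizer hn).le.trans (T0_T h))).2
  have h7 := hT.sup_eq_of_pquot (N := centralizer {h.t} ⊓ normalizer (h.T0 : Set G) ⊓
    (normalizer (h.E1 : Set G) ⊓ normalizer (h.E2 : Set G))) inf_le_left
    (le_normalizer_inf le_normalizer fun n hn => cj_eq_iff_mem_normalizer.1 (by
      rw [cj_inf, cj_normalizer, cj_normalizer]
      rcases h6 n hn.2 with ⟨e1, e2⟩ | ⟨e1, e2⟩ <;> rw [e1, e2]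
      exact inf_comm _ _)) fun n hn => ⟨1, by
      rw [pow_one, pow_two]
      refine ⟨mul_mem hn hn, cj_eq_iff_mem_normalizer.1 ?_, cj_eq_iff_mem_normalizer.1 ?_⟩ <;>
        rw [cj_mul] <;> rcases h6 n hn.2 with ⟨e1, e2⟩ | ⟨e1, e2⟩ <;> simp only [e1, e2]⟩
  have h8 : c ∈ h.T ⊔ O := (h7.ge.trans (sup_le (fun n hn => (sup_le ((T0_T h).trans le_sup_left)
    (fun x hx => by
      obtain ⟨v, hv, o, ho, rfl⟩ := h4 x hx
      exact mul_mem (mem_sup_left (T0_T h (E1_T0 h (Z_E1 h hv)))) (mem_sup_right ho)) : _ ≤ h.T ⊔ O)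
    (N0_dec k hn.1.1 hn.2)) le_sup_left)) ⟨c1, c2⟩
  obtain ⟨u, hu, o, ho, e⟩ := (mem_sup_of_le_normalizer' ((T_N k).trans h5)).1 h8
  exact ⟨u, hu, o, ho, e.symm⟩

theorem cT2 (k : KitA h) : ∀ R : Subgroup G, IsPGroup 2 R → h.T0 ≤ R → R ≤ centralizer {h.t} →
    R = h.T0 ∨ (h.e ≠ 1 ∧ Nat.card R = 64 ∧
      ∃ c ∈ R, cn h.a c = h.b ∧ cn h.b c = h.a ∧ cn h.f c = h.f * h.z) := by
  intro R pR h1 h2
  obtain ⟨c, hc, e⟩ := h.syl.exists_cj_le pR h2
  have h3 := (jay k ((cj_mono c h1).trans e)).1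
  have h4 : h.T0 ≤ cj c R := (cj_eq_of_mem_normalizer h3).ge.trans (cj_mono c h1)
  refine or_iff_not_imp_left.2 fun hn => ?_
  obtain ⟨x, hx, hx'⟩ := SetLike.exists_of_lt (lt_of_le_of_ne h4 fun e =>
    hn (cj_inj c (e.symm.trans (cj_eq_of_mem_normalizer h3).symm)))
  obtain ⟨he, h5⟩ := (mem_T k (e hx)).resolve_left hx'
  have h6 : h.e ∈ cj c R := inv_mem_iff.1 ((mul_mem_cancel_left hx).1 (h4 h5))
  have h7 : cj c R = h.T := le_antisymm e fun y hy => (mem_T k hy).elim (h4 ·) fun k' =>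
    (mul_mem_cancel_right (inv_mem h6)).1 (h4 k'.2)
  obtain ⟨O, -, h8, -, h9⟩ := nT0 k
  obtain ⟨u, hu, o, ho, rfl⟩ := h9 c hc h3
  obtain ⟨e1, e2, e3⟩ := e_of h he
  have key : ∀ x ∈ h.T0, cn x (o⁻¹ * h.e * o) = cn x h.e := fun x hx => by
    rw [cn_mul, cn_mul, cn_comm (Commute.inv_right (h8 ho x hx)),
      cn_comm (h8 ho _ (cn_mem (T_N k (eT h)) hx))]
  refine ⟨he, by rw [← card_cj (u * o), h7, (k.cT.resolve_left fun k' => he k'.1).2.2],
    o⁻¹ * h.e * o, ?_, (key _ (aT0 h)).trans e1, (key _ (bT0 h)).trans e2,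
    (key _ (E1_T0 h (Z_E1 h (fZ h)))).trans e3⟩
  have := mem_cj.1 (h7.ge (mul_mem (mul_mem hu (eT h)) (inv_mem hu)))
  convert this using 1; group

theorem kitB : KitBStmt.{u} := fun _ _ _ h k =>
  { k with
    aut1 := aut1 k
    aut2 := m_E1 h ▸ aut1 (kitA_mirror k)
    sylE1 := sylE1 k
    sylE2 := m_E1 h ▸ sylE1 (kitA_mirror k)
    cT2 := cT2 k
    nT0 := nT0 k
    trZ := trZ k
    tr1 := tr1 k
    tr2 := fun n hn hZ => (tr1 (kitA_mirror k) n (m_E1 h ▸ hn) (m_Z h ▸ hZ)).imp fun _ e =>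
      ⟨(m_N0 h).1 e.1, e.2⟩ }

end Cfsg.Agent.H3.LTB
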