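import Cfsg.Agent.H48.M2Defs

/-! The triality tensor on the centralizer of an ark. -/

set_option autoImplicit false

namespace Cfsg.Agent.H48.M2

open Cfsg Subgroup Cfsg.Agent.H48 Cfsg.Agent.H48.Rec Cfsg.Agent.H49 Cfsg.Agent.H95.Par
open Cfsg.Agent.H97.Gr (DD ZZ)
open Cfsg.Agent.H97.Yt (M)

namespace GM

section Lattice

variable {α β : Lam → V8} {γ : Co0 → V8} {t : V8 → V8 → V8} {q1 q3 : V8 → ZMod 2}

theorem two_W8 (u : Lam) : u + u ∈ W8 := W8_cong W8.zero_mem (cong_add_self u).symm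

theorem fix_cong {v v' : Lam} (h : H49.Fix zt v) (c : cong v v') : H49.Fix zt v' :=
  c.symm.trans (cong.trans h (c.smul zt))

theorem fix_zero : H49.Fix zt 0 := by
  unfold H49.Fix; rw [smul_zero]; exact cong.refl _

theorem a_cong (lm : LM α β γ t q1 q3) {n n' : Lam} (h : n ∈ W8) (c : cong n n') :
    α n' = α n := by
  obtain ⟨u, rfl⟩ := c
  rw [lm.a_add n h _ (two_W8 u), (lm.a_ker _ (two_W8 u)).2 (cong_add_self u).symm, add_zero]

theorem b_cong (lm : LM α β γ t q1 q3) {v v' : Lam} (h : H49.Fix zt v) (c : cong v v') :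
    β v' = β v := by
  obtain ⟨u, rfl⟩ := c
  have h2 : H49.Fix zt (u + u) := fix_cong fix_zero (cong_add_self u).symm
  rw [lm.b_add v _ h h2, (lm.b_ker _ h2).2 (two_W8 u), add_zero]

theorem x0_center {c : Co0} (hc : c ∈ center Co0) : X0 c := by
  refine ⟨(Subgroup.mem_center_iff.1 hc zt).symm, fun n _ => ?_⟩
  rcases mem_center_Co0.1 hc with rfl | rfl
  · rw [one_smul]; exact cong.refl _
  · rw [negEl_smul]; exact cong_neg _

theorem c_cong (lm : LM α β γ t q1 q3) {x y : Co0} (h : X0 x) (c : x⁻¹ * y ∈ center Co0) :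
    γ y = γ x := by
  have := lm.c_mul x _ h (x0_center c)
  rwa [mul_inv_cancel_left, (lm.c_ker _ (x0_center c)).2 (Or.inl c), add_zero] at this

theorem x0_mul {x y : Co0} (hx : X0 x) (hy : X0 y) : X0 (x * y) :=
  ⟨by rw [mul_assoc, hy.1, ← mul_assoc, hx.1, mul_assoc], fun n hn => by
    rw [mul_smul]; exact (hx.2 n hn).trans ((hy.2 n hn).smul x)⟩

end Lattice

variable {A : Subgroup M} {w b : M} {θ : Th w} {R : Lam → M → Prop}

theorem memW (s : Std A w b θ R) {v : Lam} {n : M} (r : R v n) (hn : n ∈ A) : v ∈ W8 := by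
  obtain ⟨v', h1, h2⟩ := (s.pre n).1 ⟨hn, s.ch.mem r⟩
  exact W8_cong h1 ((s.ch.uniq h2 r).2 (Or.inl rfl))

theorem memA (s : Std A w b θ R) {v : Lam} {n : M} (r : R v n) (hv : v ∈ W8) : n ∈ A ⊓ Qz w :=
  (s.pre n).2 ⟨v, hv, r⟩

theorem fixJ (s : Std A w b θ R) {v : Lam} {p : M} (r : R v p) (hp : p ∈ CP A) :
    H49.Fix zt v := s.ch.cong_of_comm r s.ass (hp b s.ten.bE)

theorem memJ (s : Std A w b θ R) (pf : PFa A) {v : Lam} {p : M} (r : R v p)
    (hv : H49.Fix zt v) : p ∈ Qz w ⊓ CP A := by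
  rw [← pf.d1 w s.ten.zE s.ch.zz]
  refine ⟨s.ch.mem r, fun n hn => ?_⟩
  obtain ⟨m, ⟨u, h1⟩, h2⟩ := (s.pre n).1 hn
  rw [s.ch.comm_iff h2 r]
  have h3 := ((cong_add_sub u (zt • u)).trans h1.symm).dot_mod v
  have h4 := H74.Mon.dot_cm zt_sq u hv
  omega

theorem x0_of (s : Std A w b θ R) {k : Co0} {x : M} (a : Ass θ k x) (hx : x ∈ CP A) : X0 k := by
  refine ⟨comm_of_mk1 ?_ (by rw [tr8_zt]; norm_num), fun n hn => ?_⟩
  · obtain ⟨h1, e1⟩ := a
    obtain ⟨h2, e2⟩ := s.ass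
    change (QuotientGroup.mk k : Spor.Co1) * QuotientGroup.mk zt =
      QuotientGroup.mk zt * QuotientGroup.mk k
    rw [e1, e2, ← map_mul, ← map_mul]
    exact congrArg θ (Subtype.ext (hx b s.ten.bE).symm)
  · obtain ⟨y, r⟩ := s.ch.ex2 n
    exact s.ch.cong_of_comm r a (hx y (memA s r hn).1).symm

theorem ass_cen (s : Std A w b θ R) {k k' : Co0} {x : M} (a : Ass θ k x) (a' : Ass θ k' x) :
    k⁻¹ * k' ∈ center Co0 :=
  (s.ch.ass_mem_iff (a.inv.mul a')).1 (by rw [inv_mul_cancel]; exact one_mem _)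

theorem mem_sup_iff (s : Std A w b θ R) {x : M} : x ∈ Qz w ⊔ A ↔ x ∈ Qz w ∨ x * b ∈ Qz w := by
  constructor
  · intro h
    obtain ⟨q, hq, a, ha, rfl⟩ := (mem_sup_of_le_normalizer' s.ten.QN).1 h
    exact (s.ten.spl a ha).imp (mul_mem hq) fun e => by rw [mul_assoc]; exact mul_mem hq e
  · rintro (h | h)
    · exact mem_sup_left h
    · have := mul_mem (mem_sup_left (T := A) h) (mem_sup_right (S := Qz w) (inv_mem s.ten.bE))
      rwa [mul_inv_cancel_right] at this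

theorem zmod2_iff {a : ZMod 2} : a = 0 ↔ ¬ a = 1 := by revert a; decide

theorem sur_of_card (pf : PFa A) (hw : w ∈ A) (hz : w ∈ ZZ) (c : M → V8)
    (cm : ∀ x ∈ CP A, ∀ y ∈ CP A, c (x * y) = c x + c y)
    (ck : ∀ x ∈ CP A, c x = 0 ↔ x ∈ Qz w ⊔ A) (a : V8) : ∃ x ∈ CP A, c x = a := by
  obtain ⟨w', h1, h2, h3⟩ := pf.ex' w hw hz
  let φ : ↥(Qz w' ⊓ CP A) →* Multiplicative V8 :=
    MonoidHom.mk' (fun x => Multiplicative.ofAdd (c x)) fun x y =>
      congrArg Multiplicative.ofAdd (cm _ x.2.2 _ y.2.2)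
  have le : A ⊓ Qz w' ≤ Qz w' ⊓ CP A := fun x hx => ⟨hx.2, fun y hy => pf.el.cm hy hx.1⟩
  have hk : φ.ker = (A ⊓ Qz w').subgroupOf (Qz w' ⊓ CP A) := by
    ext x
    rw [MonoidHom.mem_ker, mem_subgroupOf]
    refine Iff.trans (ck _ x.2.2) ⟨fun h => ⟨pf.tr w hw hz w' h1 h2 h3 ⟨x.2, h⟩, x.2.1⟩,
      fun h => mem_sup_right h.1⟩
  have e := φ.ker.card_mul_index
  rw [index_ker, hk, Nat.card_congr (subgroupOfEquivOfLe le).toEquiv, pf.c9 w' h1 h2,
    pf.c17 w' h1 h2] at e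
  have e2 : Nat.card (Multiplicative V8) = 2 ^ 8 := by
    rw [Nat.card_congr Multiplicative.toAdd, Nat.card_fun, Nat.card_zmod, Nat.card_fin]
  have top : φ.range = ⊤ := eq_top_of_card_eq _ (by omega)
  obtain ⟨x, hx⟩ := (top.ge (mem_top (Multiplicative.ofAdd a)) : _ ∈ φ.range)
  exact ⟨x, x.2.2, Multiplicative.ofAdd.injective hx⟩

end GM

open GM in
theorem gm_of (tm : TmStmt) (st : StStmt) (pfs : PfStmt) : GmStmt := by
  intro A hA w hw hz
  obtain ⟨α, β, γ, t, q1, q3, tri, lm⟩ := tm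
  obtain ⟨b, θ, R, s⟩ := st A hA w hw hz
  have pf := pfs A hA
  choose! f hf using s.ch.ex1
  choose! g hg using fun x : M => exists_ass (θ := θ) (h := x)
  have hg' : ∀ x ∈ CP A, Ass θ (g x) x := fun x hx => hg x (hx w hw).symm
  have cm : ∀ x ∈ CP A, ∀ y ∈ CP A, γ (g (x * y)) = γ (g x) + γ (g y) := fun x hx y hy => by
    have h1 := x0_of s (hg' x hx) hx
    have h2 := x0_of s (hg' y hy) hy
    rw [← lm.c_mul _ _ h1 h2]
    exact c_cong lm (x0_mul h1 h2) (ass_cen s ((hg' x hx).mul (hg' y hy)) (hg' _ (mul_mem hx hy)))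
  have ck : ∀ x ∈ CP A, γ (g x) = 0 ↔ x ∈ Qz w ⊔ A := fun x hx => by
    rw [lm.c_ker _ (x0_of s (hg' x hx) hx), mem_sup_iff s, s.ch.ass_mem_iff (hg' x hx),
      s.ch.ass_mem_iff ((hg' x hx).mul s.ass)]
  have cg : ∀ {v x}, R v x → cong v (f x) := fun r =>
    (s.ch.uniq r (hf _ (s.ch.mem r))).2 (Or.inl rfl)
  refine ⟨fun n => α (f n), fun p => β (f p), fun x => γ (g x), t, q1, q3, tri,
    fun n hn n' hn' => ?_, fun n hn => ?_, fun a => ?_, fun n hn => ?_, fun p hp p' hp' => ?_,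
    fun p hp => ?_, fun a => ?_, fun p hp => ?_, cm, ck, sur_of_card pf hw hz _ cm ck,
    fun x hx p hp => ?_⟩
  · have h1 := memW s (hf n hn.2) hn.1
    have h2 := memW s (hf n' hn'.2) hn'.1
    rw [← lm.a_add _ h1 _ h2]
    exact a_cong lm (add_mem h1 h2) (cg (s.ch.mul (hf n hn.2) (hf n' hn'.2)))
  · rw [lm.a_ker _ (memW s (hf n hn.2) hn.1), s.ch.zero_iff (hf n hn.2)]
  · obtain ⟨m, h1, rfl⟩ := lm.a_sur a
    obtain ⟨n, r⟩ := s.ch.ex2 m
    exact ⟨n, memA s r h1, a_cong lm h1 (cg r)⟩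
  · rw [zmod2_iff, lm.a_q _ (memW s (hf n hn.2) hn.1)]
    constructor
    · intro h
      by_cases e : n = 1
      · exact Or.inl e
      refine Or.inr ((two (pf.el n hn.1) e).resolve_left fun hd => h ?_)
      obtain ⟨v, r, hv⟩ := s.ch.of_DD hd hn.2
      exact ⟨v, (cg r).symm, hv⟩
    · rintro h ⟨m, c, hm⟩
      have hd := s.ch.t2 (s.ch.cg (hf n hn.2) c) hm
      rcases h with e | e
      · have := H97.Gr.orderOf_DD hd
        rw [e, orderOf_one] at this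
        omega
      · exact disj hd e
  · have h1 := fixJ s (hf p hp.1) hp.2
    have h2 := fixJ s (hf p' hp'.1) hp'.2
    have r := s.ch.mul (hf p hp.1) (hf p' hp'.1)
    rw [← lm.b_add _ _ h1 h2]
    exact b_cong lm (fixJ s r (mul_mem hp.2 hp'.2)) (cg r)
  · rw [lm.b_ker _ (fixJ s (hf p hp.1) hp.2)]
    exact ⟨fun h => (memA s (hf p hp.1) h).1, memW s (hf p hp.1)⟩
  · obtain ⟨v, h1, rfl⟩ := lm.b_sur a
    obtain ⟨p, r⟩ := s.ch.ex2 v
    exact ⟨p, memJ s pf r h1, b_cong lm h1 (cg r)⟩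
  · rw [lm.b_q _ (fixJ s (hf p hp.1) hp.2), s.ch.sq_iff (hf p hp.1)]
  · have r := s.ch.r_comm (hg' x hx) (hf p hp.1)
    obtain ⟨h1, h2⟩ := lm.act _ _ (x0_of s (hg' x hx) hx) (fixJ s (hf p hp.1) hp.2)
    exact ⟨memA s r h1, (a_cong lm h1 (cg r)).trans h2⟩

end Cfsg.Agent.H48.M2
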