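import Mathlib
import Cfsg.Agent.H3.NGCent
import Cfsg.Agent.H3.Cores
import Cfsg.Agent.H63.BG1
import Cfsg.Agent.H15.Even3
import Cfsg.Agent.H13.M11Iso
import Cfsg.Agent.S0205
import Cfsg.Agent.S3800
import Cfsg.Agent.S2601
import Cfsg.Agent.S2602
import Cfsg.Agent.S2603
import Cfsg.Agent.S2126
import Cfsg.Agent.S2060
import Cfsg.Agent.S2119

/-!
Almost simple groups with solvable 2-local subgroups; simple groups with abelian outer
automorphism group.
-/

set_option autoImplicit false

namespace Cfsg.Agent.H3.NGA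

open Subgroup Cfsg
open scoped MatrixGroups commutatorElement

universe u

/-- The outer automorphism group of `L` is abelian. -/
def OutAb (L : Type*) [Group L] : Prop := ∀ a b : MulAut L, ⁅a, b⁆ ∈ Inn L

section out

variable {L L' : Type*} [Group L] [Group L']

theorem outAb_of_comm (h : ∀ x y : Out L, x * y = y * x) : OutAb L := fun a b => by
  rw [← QuotientGroup.eq_one_iff]
  change QuotientGroup.mk' (Inn L) ⁅a, b⁆ = 1
  rw [map_commutatorElement, commutatorElement_eq_one_iff_mul_comm]
  exact h _ _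

theorem OutAb.congr (h : OutAb L') (e : L ≃* L') : OutAb L := fun a b => by
  obtain ⟨g, hg⟩ := h (MulAut.congr e a) (MulAut.congr e b)
  refine ⟨e.symm g, (MulAut.congr e).injective ?_⟩
  rw [map_commutatorElement (MulAut.congr e), ← hg]
  ext x
  simp

theorem le_center_of_card_dvd_two [Finite L] {N : Subgroup L} [hN : N.Normal]
    (h : Nat.card N ∣ 2) : N ≤ center L := by
  intro x hx
  rw [mem_center_iff]
  intro g
  by_contra hne
  have hx1 : x ≠ 1 := by rintro rfl; simp at hne
  have h1 : g * x * g⁻¹ ≠ 1 := by simpa using hx1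
  have h2 : g * x * g⁻¹ ≠ x := fun e => hne (by rw [← mul_inv_eq_iff_eq_mul, e])
  have h3 : 2 < Nat.card N := by
    have := Fintype.ofFinite N
    rw [Nat.card_eq_fintype_card, Fintype.two_lt_card_iff]
    exact ⟨1, ⟨x, hx⟩, ⟨_, hN.conj_mem x hx g⟩, fun e => hx1 (congrArg Subtype.val e).symm,
      fun e => h1 (congrArg Subtype.val e).symm, fun e => h2 (congrArg Subtype.val e).symm⟩
  exact absurd (Nat.le_of_dvd two_pos h) (by omega)

theorem comm_of_card_ker {X C : Type*} [Group X] [CommGroup C] (φ : X →* C)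
    (h : Nat.card φ.ker = 1) (x y : X) : x * y = y * x := by
  have := (φ.ker_eq_bot_iff).1 (eq_bot_of_card_eq _ h)
  exact this (by rw [map_mul, map_mul, mul_comm])

variable {F : Type*} [Field F] [Fintype F]

theorem outAb_psl2 (h4 : 4 ≤ Fintype.card F) : OutAb PSL(2, F) := by
  obtain ⟨p, hp⟩ := CharP.exists F
  obtain ⟨n, hp', hn⟩ := FiniteField.card F p
  have : Fact p.Prime := ⟨hp'⟩
  obtain ⟨φ, -, -, h⟩ := S2602.result (F := F) (p := p) (f := n) n.pos hn (hn ▸ h4)
  have : Finite (MulAut PSL(2, F)) := inferInstance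
  exact outAb_of_comm (φ.isMulCommutative_of_isCyclic_of_ker_le_center
    (le_center_of_card_dvd_two (h ▸ Nat.gcd_dvd_left _ _))).1.1

theorem outAb_psl3 (h : Fintype.card F = 3) : OutAb PSL(3, F) := by
  have : Fact (Nat.Prime 3) := ⟨Nat.prime_three⟩
  obtain ⟨φ, -, -, h⟩ := S2601.result (F := F) (p := 3) (f := 1) (n := 3) le_rfl h le_rfl
  exact outAb_of_comm (comm_of_card_ker φ h)

theorem outAb_psu33 (h : Fintype.card F = 3 ^ 2) : OutAb (PSU 3 F 3) := by
  have : Fact (Nat.Prime 3) := ⟨Nat.prime_three⟩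
  obtain ⟨φ, -, -, h⟩ := S2603.result (K := F) (p := 3) (f := 1) (q := 3) (n := 3) le_rfl rfl h
    le_rfl (by simp)
  exact outAb_of_comm (comm_of_card_ker φ h)

theorem outAb_psu34 (h : Fintype.card F = 4 ^ 2) : OutAb (PSU 3 F 4) := by
  obtain ⟨φ, -, -, h⟩ := S2603.result (K := F) (p := 2) (f := 2) (q := 4) (n := 3) one_le_two rfl h
    le_rfl (by simp)
  exact outAb_of_comm (comm_of_card_ker φ h)

theorem outAb_sz8 (h : Fintype.card F = 2 ^ (2 * 1 + 1)) : OutAb (Lie.Sz F (2 ^ (1 + 1))) := by
  have : Fact (Nat.Prime 3) := ⟨Nat.prime_three⟩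
  have := isCyclic_of_prime_card (p := 3) (S2126.result (F := F) le_rfl h)
  exact outAb_of_comm fun x y => (IsCyclic.isMulCommutative (α := Out _)).1.1 x y

theorem outAb_m11 : OutAb Spor.M11 := by
  have := (Nat.card_eq_one_iff_unique.1 S2060.result).1
  exact outAb_of_comm fun _ _ => Subsingleton.elim _ _

theorem outAb_a7 : OutAb (alternatingGroup (Fin 7)) := fun a b => by
  have h := (S2119.result 7 (by norm_num) (by norm_num)).2
  obtain ⟨x, rfl⟩ := h a
  obtain ⟨y, rfl⟩ := h b
  refine ⟨⟨⁅x, y⁆, ?_⟩, ?_⟩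
  · rw [Equiv.Perm.mem_alternatingGroup, map_commutatorElement,
      commutatorElement_eq_one_iff_mul_comm, mul_comm]
  · exact Eq.trans rfl (map_commutatorElement MulAut.conjNormal x y)

end out

variable {G : Type u} [Group G] [Finite G]

omit [Finite G] in
theorem commutator_eq_of_outAb {L : Subgroup G} [L.Normal] [IsSimpleGroup L]
    (hL : ¬ IsMulCommutative L) (hC : centralizer (L : Set G) = ⊥) (h : OutAb L) :
    commutator G = L := by
  apply le_antisymm
  · rw [commutator_def, commutator_le]
    intro a _ b _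
    obtain ⟨l, hl⟩ := h (MulAut.conjNormal a) (MulAut.conjNormal b)
    rw [← map_commutatorElement] at hl
    have h1 : (l : G)⁻¹ * ⁅a, b⁆ ∈ centralizer (L : Set G) := by
      rw [mem_centralizer_iff]
      intro x hx
      have := congrArg (fun φ : MulAut L => ((φ ⟨x, hx⟩ : L) : G)) hl
      simp only [MulAut.conj_apply, coe_mul, coe_inv, MulAut.conjNormal_apply] at this
      calc x * ((l : G)⁻¹ * ⁅a, b⁆) = (l : G)⁻¹ * (l * x * (l : G)⁻¹) * ⁅a, b⁆ := by group
        _ = _ := by rw [this]; group
    rw [hC, mem_bot, inv_mul_eq_one] at h1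
    exact h1 ▸ l.2
  · have h1 : commutator L = ⊤ := ((commutator_normal ⊤ ⊤).eq_bot_or_eq_top).resolve_left fun h2 =>
      hL ⟨⟨fun a b => by
        have : ⁅a, b⁆ ∈ ⁅(⊤ : Subgroup L), (⊤ : Subgroup L)⁆ :=
          commutator_mem_commutator trivial trivial
        rwa [h2, mem_bot, commutatorElement_eq_one_iff_mul_comm] at this⟩⟩
    have h2 := map_commutator (⊤ : Subgroup L) ⊤ L.subtype
    rw [← commutator_def, h1, ← MonoidHom.range_eq_map, range_subtype] at h2
    rw [h2]
    exact commutator_mono le_top le_top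

omit [Finite G] in
/-- Solvability of the 2-local subgroups passes to subgroups. -/
theorem two_of_injective {X : Type*} [Group X] (f : X →* G) (hf : Function.Injective f)
    (h : ∀ N : Subgroup G, IsTwoLocal N → Group.IsSolvable N) (N : Subgroup X)
    (hN : IsTwoLocal N) : Group.IsSolvable N := by
  obtain ⟨T, h1, h2, rfl⟩ := hN
  have := h _ ⟨T.map f, h1.map f, fun h3 => h2 ((map_eq_bot_iff_of_injective _ hf).1 h3), rfl⟩
  have : Group.IsSolvable ((normalizer (T : Set X)).map f) :=
    H29.isSolvable_of_le (le_normalizer_map f)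
  exact H29.isSolvable_of_equiv (equivMapOfInjective _ f hf)

/-- Solvability of the 2-local subgroups passes to `G / O(G)`. -/
theorem two_quot (h : ∀ N : Subgroup G, IsTwoLocal N → Group.IsSolvable N)
    (N : Subgroup (G ⧸ oddCore G)) (hN : IsTwoLocal N) : Group.IsSolvable N := by
  obtain ⟨T, h1, h2, rfl⟩ := hN
  let π := QuotientGroup.mk' (oddCore G)
  obtain ⟨P⟩ : Nonempty (Sylow 2 (T.comap π)) := inferInstance
  let f : T.comap π →* T := (π.comp (T.comap π).subtype).codRestrict T fun x => x.2
  have hf : Function.Surjective f := fun ⟨t, ht⟩ => by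
    obtain ⟨g, rfl⟩ := QuotientGroup.mk'_surjective _ t
    exact ⟨⟨g, ht⟩, rfl⟩
  have h3 : ((P.mapSurjective hf : Sylow 2 T) : Subgroup T) = ⊤ :=
    ((P.mapSurjective hf).3 (h1.to_subgroup ⊤) le_top).symm
  have h4 : ((P : Subgroup (T.comap π)).map (T.comap π).subtype).map π = T := by
    have := congrArg (Subgroup.map T.subtype) h3
    rw [Sylow.coe_mapSurjective, map_map, ← MonoidHom.range_eq_map, range_subtype] at this
    rw [map_map]
    exact this
  have h5 : IsPGroup 2 ((P : Subgroup (T.comap π)).map (T.comap π).subtype) := P.2.map _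
  rw [← h4, S3800.normalizer_map _ (pPrimeCore_coprime 2 G) _ h5]
  have := h _ ⟨_, h5, fun h6 => h2 (by rw [← h4, h6, Subgroup.map_bot]), rfl⟩
  exact Group.isSolvable_of_surjective (π.subgroupMap_surjective _)

/-- A finite group with `O₂ = O = 1` and solvable centralizers of involutions is almost simple. -/
theorem exists_simple_normal [Nontrivial G] (h2 : pCore 2 G = ⊥) (hO : oddCore G = ⊥)
    (hc : ∀ t : G, t ≠ 1 → t * t = 1 → Group.IsSolvable (centralizer ({t} : Set G))) :
    ∃ L : Subgroup G, L.Normal ∧ IsSimpleGroup L ∧ ¬ IsMulCommutative L ∧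
      centralizer (L : Set G) = ⊥ := by
  obtain ⟨N, hN, -⟩ := H63.exists_minNormal (H := (⊤ : Subgroup G)) (A := ⊤) top_ne_bot
    le_normalizer
  have hNn : N.Normal := normalizer_eq_top_iff.1 (top_le_iff.1 hN.norm)
  obtain ⟨L, hL, hLN⟩ := H63.exists_minNormal (H := N) (A := N) hN.ne_bot le_normalizer
  have hns : ¬ Group.IsSolvable L := fun hs => by
    obtain ⟨p, hp, he⟩ := H63.minnormal_solvable_abelem hL hs
    have hP : IsPGroup p L := fun x => ⟨1, Subtype.ext (by simpa using he.2 x x.2)⟩
    have h3 : L ≤ pCore p G := (le_map_pCore hP hLN hL.norm).trans (map_pCore_le_pCore N)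
    apply hL.ne_bot
    rw [eq_bot_iff]
    by_cases hp2 : p = 2
    · rwa [hp2, h2] at h3
    · exact h3.trans ((pCore_le_pPrimeCore
        ((Nat.coprime_primes hp Nat.prime_two).2 hp2)).trans hO.le)
  have hodd : ¬ 2 ∣ Nat.card (centralizer (L : Set G)) := fun h => by
    obtain ⟨t, ht⟩ := exists_prime_orderOf_dvd_card' 2 h
    have h3 : t * t = 1 := by rw [← pow_two, ← ht, pow_orderOf_eq_one]
    have := hc t (fun e => by
      rw [show t = 1 from Subtype.ext e, orderOf_one] at ht
      exact absurd ht (by decide)) (congrArg Subtype.val h3)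
    exact hns (H29.isSolvable_of_le (K := centralizer ({(t : G)} : Set G)) fun x hx =>
      mem_centralizer_singleton_iff.2 (t.2 x hx))
  have hLn : L.Normal := by
    refine ⟨fun x hx g => ?_⟩
    have h0 : H63.cj g⁻¹ N = N := Normal.map_conj_eq N g⁻¹
    have h1 := hL.cj g⁻¹
    rw [h0] at h1
    have h3 : L ≤ H63.cj g⁻¹ L := by
      by_contra h3
      have h4 := hL.inf_eq_bot h1.norm h3
      have h5 : H63.cj g⁻¹ L ≤ N := by
        rw [← h0]
        exact map_mono hLN
      have h6 : H63.cj g⁻¹ L ≤ centralizer (L : Set G) := by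
        rw [← commutator_eq_bot_iff_le_centralizer, eq_bot_iff, ← h4]
        exact le_inf (le_normalizer_iff_commutator_le_right.1 (h5.trans hL.norm))
          (le_normalizer_iff_commutator_le_left.1 (hLN.trans h1.norm))
      have h7 : Nat.card (H63.cj g⁻¹ L) = Nat.card L :=
        card_map_of_injective (MulAut.conj g⁻¹).injective
      exact hodd ((h7 ▸ (H15.even_card_of_not_isSolvable hns).two_dvd).trans (card_dvd_of_le h6))
    obtain ⟨y, hy, rfl⟩ := h3 hx
    simpa [mul_assoc] using hy
  obtain rfl : L = N := hN.eq hLN hL.ne_bot (normalizer_eq_top_iff.2 hLn).ge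
  have : Nontrivial L := (nontrivial_iff_ne_bot L).2 hL.ne_bot
  refine ⟨L, hLn, ⟨fun K hK => ?_⟩, fun h => hns (Group.isSolvable_of_comm h.1.1), ?_⟩
  · rcases hL.eq_bot_or_eq (K := K.map L.subtype) (map_subtype_le K) (by
      have := le_normalizer_map (H := K) L.subtype
      rwa [normalizer_eq_top_iff.2 hK, ← MonoidHom.range_eq_map, range_subtype] at this) with h | h
    · exact Or.inl ((map_eq_bot_iff_of_injective _ L.subtype_injective).1 h)
    · refine Or.inr (map_injective L.subtype_injective ?_)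
      rw [h, ← MonoidHom.range_eq_map, range_subtype]
  · rw [eq_bot_iff, ← hO]
    exact le_pPrimeCore ((Nat.Prime.coprime_iff_not_dvd Nat.prime_two).2 hodd).symm

/-- `G' / O(G') ≅ (G / O(G))'`. -/
theorem comm_quot_equiv :
    Nonempty (↥(commutator G) ⧸ oddCore ↥(commutator G) ≃* commutator (G ⧸ oddCore G)) := by
  let π := QuotientGroup.mk' (oddCore G)
  let f : commutator G →* G ⧸ oddCore G := π.comp (commutator G).subtype
  have h1 : f.ker = oddCore (commutator G) := by
    rw [← MonoidHom.comap_ker, QuotientGroup.ker_mk']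
    exact pPrimeCore_subgroupOf_eq _
  have h2 : f.range = commutator (G ⧸ oddCore G) := by
    rw [MonoidHom.range_comp, range_subtype, commutator_def, map_commutator, commutator_def,
      ← MonoidHom.range_eq_map, MonoidHom.range_eq_top.2 (QuotientGroup.mk'_surjective _)]
  exact ⟨(QuotientGroup.quotientMulEquivOfEq h1.symm).trans
    ((QuotientGroup.quotientKerEquivRange f).trans (MulEquiv.subgroupCongr h2))⟩

/-- A nonsolvable group with solvable 2-local subgroups is almost simple modulo its core. -/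
theorem exists_socle (hG : ¬ Group.IsSolvable G)
    (hL : ∀ N : Subgroup G, IsTwoLocal N → Group.IsSolvable N) :
    ∃ L : Subgroup (G ⧸ oddCore G), L.Normal ∧ IsSimpleGroup L ∧ ¬ IsMulCommutative L ∧
      centralizer (L : Set (G ⧸ oddCore G)) = ⊥ := by
  have hs : ¬ Group.IsSolvable (G ⧸ oddCore G) := fun _ => by
    have : Group.IsSolvable (oddCore G) :=
      S0205.result (Nat.coprime_two_right.1 (pPrimeCore_coprime 2 G))
    exact hG (Group.isSolvable_of_ker_le_range (oddCore G).subtype (QuotientGroup.mk' (oddCore G))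
      (by simp))
  have : Nontrivial (G ⧸ oddCore G) := by
    by_contra h
    rw [not_nontrivial_iff_subsingleton] at h
    exact hs inferInstance
  refine exists_simple_normal ?_ (pPrimeCore_quotient_pPrimeCore 2 G)
    fun t h1 h2 => cent_solvable_of_two (two_quot hL) h1 h2
  by_contra h
  have := two_quot hL _ ⟨_, pCore_isPGroup 2 _, h, rfl⟩
  rw [normalizer_eq_top] at this
  exact hs (H29.isSolvable_of_equiv topEquiv.symm)

end Cfsg.Agent.H3.NGA
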