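import Cfsg.Agent.H89.OlDefs
import Cfsg.Agent.H26.K64A

/-! Fusion inside a coset of the commutator subgroup. -/

set_option autoImplicit false

namespace Cfsg.Agent.H3.OlCf

open Subgroup Cfsg.Agent.H18 Cfsg.Agent.H17 Cfsg.Agent.H26.K64 Cfsg.Agent.H89.Ol MonoidAlgebra

universe u

theorem cf : CFStmt.{u} := by
  classical
  rintro G _ _ M B P e a s h c hc c' hc' ⟨hu, g, e1, hg⟩
  have := s.charP
  have := Fintype.ofFinite (IrrCharacter G)
  have hw := s.sub (mul_mem h.mem h.mem)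
  have hC := s.Cz_le_NP (mul_mem h.mem h.mem)
  have h1 : zpowers (a * a) ≤ zpowers (a * c) :=
    h.sq c hc ▸ zpowers_le.2 (mul_mem (mem_zpowers _) (mem_zpowers _))
  have h2 : cs g (zpowers (a * a)) = zpowers (a * a) := by
    rw [← h.sq c hc, cs_zpowers, ← conj_mul, ← e1, h.sq c hc, h.sq c' hc']
  have h3 := ((hw.of_le s.pair (s.sub hu) h1).cj (x := g) trivial).trans hg
  rw [h2] at h3
  have hP : P ≤ NP ⊤ (zpowers (a * a)) (esub 2 P e (a * a)) :=
    (le_inf le_rfl h.nz).trans (hw.inf_Nz_le_NP s.pair)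
  have hH : NP ⊤ (zpowers (a * a)) (esub 2 P e (a * a)) ≤ Nz (zpowers (a * a)) :=
    (NP_le _ _ _).trans inf_le_right
  have l := s.loc_of_le hw hC le_rfl hP
  have gH : g ∈ NP ⊤ (zpowers (a * a)) (esub 2 P e (a * a)) :=
    ⟨⟨trivial, mem_Nz_iff_cs.2 h2⟩, h3.unique s.pair hw⟩
  generalize NP ⊤ (zpowers (a * a)) (esub 2 P e (a * a)) = H at *
  have := Fintype.ofFinite H
  obtain ⟨k1, g', e2, k2⟩ := s.loc_fus l (u := ⟨_, hP hu⟩) (g := ⟨g, gH⟩) hu
    ((centralizer_le h1).trans hC) hg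
  have s' := s.loc_bs l
  obtain ⟨k, hk, k3⟩ := inner_of_forall s'.prim s'.max (fun _ => True) (fun _ _ => Iff.rfl)
    (fun _ _ _ _ => trivial) (fun R r hr _ t ht ho => coe_mem_Cz_map.1 (h.odd _
      (map_le_iff_le_comap.2 hr.le) t (coe_mem_Nz_map.2 ht.1.2) (hH t.2)
      (by rwa [Subgroup.orderOf_coe]))) (s'.sub k1) (mem_top g') k2 trivial
  refine ⟨k, hk, e1.trans ?_⟩
  have k4 := mem_Cz_zpowers.1 k3
  exact congrArg Subtype.val (e2.trans (b := _) (c := k * ⟨_, hP hu⟩ * k⁻¹) (by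
    rw [mul_inv_eq_iff_eq_mul, mul_assoc, mul_assoc, k4]; group))

end Cfsg.Agent.H3.OlCf
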