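import Mathlib
import Cfsg.Agent.H45.OnDefs

/-! Involutions with one fixed point each give a transitive action. -/

set_option autoImplicit false

namespace Cfsg.Agent.H45.On

universe u v

theorem par_aux {O : Type*} [Finite O] (f : Function.End O) (hf : ∀ w, f (f w) = w) :
    Nat.card O ≡ Nat.card {w // f w = w} [MOD 2] := by
  classical
  haveI : Fintype O := Fintype.ofFinite O
  haveI : Fact (Nat.Prime 2) := ⟨Nat.prime_two⟩
  have := Equiv.Perm.card_fixedPoints_modEq (α := O) (f := f) (p := 2) (n := 1) (by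
    rw [pow_one, pow_two]; funext w; exact hf w)
  rwa [← Nat.card_eq_fintype_card, ← Nat.card_eq_fintype_card] at this

theorem par_aux2 {G : Type u} {Ω : Type v} [Group G] [MulAction G Ω] [Finite Ω] (O : Set Ω) (t : G)
    (tt : t * t = 1) (hO : ∀ w ∈ O, t • w ∈ O) :
    Nat.card O ≡ Nat.card {w : O // t • w.1 = w.1} [MOD 2] := by
  have := par_aux (O := O) (fun w => ⟨t • w.1, hO _ w.2⟩) fun w =>
    Subtype.ext (by simp only [← mul_smul, tt, one_smul])
  simpa only [Subtype.ext_iff] using this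

theorem parStmt : ParStmt.{u, v} := by
  intro G Ω _ _ _ Y Φ hY hT z hz z' hz'
  by_contra hn
  obtain ⟨O, hO⟩ : ∃ O : Set Ω, ∀ w, w ∈ O ↔ ∃ c ∈ Y, c • z = w := ⟨{w | ∃ c ∈ Y, c • z = w}, fun _ => Iff.rfl⟩
  have h1 : ∀ w ∈ O, w ∈ Φ := fun w hw => by
    obtain ⟨c, hc, e⟩ := (hO w).mp hw
    exact e ▸ hY c hc z hz
  have h2 : ∀ t ∈ Y, ∀ w ∈ O, t • w ∈ O := fun t ht w hw => by
    obtain ⟨c, hc, e⟩ := (hO w).mp hw
    exact (hO _).mpr ⟨t * c, Y.mul_mem ht hc, by rw [mul_smul, e]⟩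
  obtain ⟨t, ht, tt, tz, hu⟩ := hT z hz
  obtain ⟨t', ht', tt', -, hu'⟩ := hT z' hz'
  have e := par_aux2 O t tt (h2 t ht)
  have e' := par_aux2 O t' tt' (h2 t' ht')
  have c1 : Nat.card {w : O // t • w.1 = w.1} = 1 :=
    Nat.card_eq_one_iff_exists.mpr ⟨⟨⟨z, (hO z).mpr ⟨1, Y.one_mem, one_smul _ _⟩⟩, tz⟩,
      fun w => Subtype.ext (Subtype.ext (hu _ (h1 _ w.1.2) w.2))⟩
  have c0 : Nat.card {w : O // t' • w.1 = w.1} = 0 := by
    haveI : IsEmpty {w : O // t' • w.1 = w.1} := ⟨fun w => hn (by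
      have h3 := hu' _ (h1 _ w.1.2) w.2
      have h4 := (hO _).mp w.1.2
      rwa [h3] at h4)⟩
    exact Nat.card_of_isEmpty
  rw [c1] at e
  rw [c0] at e'
  exact absurd (e.symm.trans e') (by decide)

end Cfsg.Agent.H45.On
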