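import Cfsg.Agent.H95.ParDefs
import Cfsg.Agent.H58.DegG

/-! Project PAR, piece KIT: minimal subgroups over a simple group. -/

set_option autoImplicit false

namespace Cfsg.Agent.H3.Par

open Subgroup Cfsg.Agent.H95.Par

theorem kit0 : Kit0Stmt := by
  intro Γ X _ _ _ A B _ ⟨e⟩
  let π := e.toMonoidHom.comp (QuotientGroup.mk' B)
  obtain ⟨K, hK, hm⟩ := wellFounded_lt.has_min {K : Subgroup A | K.map π = ⊤}
    ⟨⊤, map_top_of_surjective _ (e.surjective.comp (QuotientGroup.mk'_surjective B))⟩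
  refine ⟨K.map A.subtype, π.comp (inclusion (map_subtype_le K)), fun x => ?_, fun L hL => ?_⟩
  · obtain ⟨k, hk, rfl⟩ := hK.ge (mem_top x)
    exact ⟨⟨k, mem_map_of_mem _ hk⟩, rfl⟩
  · have le : L.map (inclusion (map_subtype_le K)) ≤ K := by
      rintro _ ⟨⟨_, k, hk, rfl⟩, -, rfl⟩
      exact hk
    refine eq_top_iff.2 ?_
    rintro ⟨_, k, hk, rfl⟩ -
    obtain ⟨l, hl, e⟩ := (le.eq_of_not_lt (hm _ (by rwa [← map_map] at hL))).ge hk
    rwa [show l = ⟨_, k, hk, rfl⟩ from Subtype.ext (congrArg (Subtype.val : A → Γ) e)] at hl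

theorem nrm {Γ X : Type} [Group Γ] [Finite Γ] [Group X] {H : Subgroup Γ} {π : H →* X} (h : Min H π)
    {p : ℕ} [Fact p.Prime] (P : Sylow p π.ker) : ((P : Subgroup π.ker).map π.ker.subtype).Normal :=
  normalizer_eq_top_iff.1 (h.min _ (by
    rw [← map_top_of_surjective _ h.surj, ← P.normalizer_sup_eq_top, Subgroup.map_sup,
      (Subgroup.map_eq_bot_iff π.ker).2 le_rfl, sup_bot_eq]))

theorem kit1 : Kit1Stmt := by
  intro Γ X _ _ _ _ H π h
  refine ⟨((Group.isNilpotent_of_finite_tfae (G := π.ker)).out 3 0).1 (?_ :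
    ∀ (p : ℕ) (_ : Fact p.Prime) (P : Sylow p π.ker), (P : Subgroup π.ker).Normal),
    fun P _ x hx hc => ?_⟩
  · exact fun p _ P => comap_map_eq_self_of_injective π.ker.subtype_injective
      (P : Subgroup π.ker) ▸ (nrm h P).comap _
  · rcases (Normal.map inferInstance π h.surj :
      ((centralizer (P : Set H)).map π).Normal).eq_bot_or_eq_top with e | e
    · exact absurd (e.le (mem_map_of_mem π fun g hg => (hc g hg).symm)) hx
    · exact fun g hg => mem_center_iff.2 fun y => ((h.min _ e).ge (mem_top y) g hg).symm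

theorem kit2 : Kit2Stmt := by
  intro Γ X _ _ _ _ H π h hX h2 ho
  refine ⟨h.surj, ?_, (h.min _ (by
    rw [commutator_def, map_commutator, map_top_of_surjective _ h.surj, ← commutator_def,
      hX])).ge.trans' le_top⟩
  have : Finite X := Finite.of_surjective _ h.surj
  refine relIndex_eq_one.1 (Nat.eq_one_iff_not_exists_prime_dvd.2 fun p pp hp => ?_)
  have := Fact.mk pp
  obtain ⟨P⟩ := (inferInstance : Nonempty (Sylow p π.ker))
  have := nrm h P
  have hP := P.isPGroup'.map π.ker.subtype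
  refine P.not_dvd_index (hp.trans (index_dvd_of_le (map_le_iff_le_comap.1 ?_)))
  by_cases p2 : p = 2
  · exact h2 _ this (map_subtype_le _) (p2 ▸ hP)
  have cH : Nat.card H = Nat.card π.ker * Nat.card X := by
    rw [← π.ker.card_mul_index, index_ker, MonoidHom.range_eq_top.2 h.surj, card_top]
  obtain ⟨r, rr, rp, hr, hk⟩ := ho p pp p2 (((hp.trans (index_dvd_card _)).trans
    (card_subgroup_dvd_card _)).trans (card_subgroup_dvd_card H))
  have := Fact.mk rr
  obtain ⟨R⟩ := (inferInstance : Nonempty (Sylow r H))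
  obtain ⟨x, hx, x1⟩ : ∃ x ∈ (R : Subgroup H), π x ≠ 1 := by
    by_contra! e
    have := index_dvd_of_le (show (R : Subgroup H) ≤ π.ker from e)
    rw [index_ker, MonoidHom.range_eq_top.2 h.surj, card_top] at this
    exact R.not_dvd_index (hr.trans this)
  obtain ⟨c, h3, h4⟩ := H58.DG.exists_pow_modEq R.isPGroup' (le_normalizer_of_normal) rp hP
  rcases c.eq_zero_or_pos with rfl | c0
  · rw [pow_zero, one_mul] at h4
    exact (kit1 Γ X H π h).2 _ (nrm h P) x x1 fun g hg =>
      ((eq_of_le_of_card_ge inf_le_left h4.le).ge hg).2 x hx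
  · refine absurd h3 (hk c c0 (Dvd.dvd.trans ?_ (card_subgroup_dvd_card H)))
    rw [pow_add, cH]
    exact mul_dvd_mul ((Dvd.intro _ h4.symm).trans (card_dvd_of_le (map_subtype_le _)))
      (Nat.ordProj_dvd _ _)

end Cfsg.Agent.H3.Par
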