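import Cfsg.Agent.Lead.PcDefs

/-! Project PL, piece ABM: removing the odd part of `M`. -/

set_option autoImplicit false

namespace Cfsg.Agent.H3.PlAbm

open Subgroup Cfsg.Agent.Lead.Pc
open scoped commutatorElement

universe u

variable {G : Type u} [Group G] [Finite G] {V W M : Subgroup G}

theorem exH (h : Ab V W M) : ∃ H : Subgroup G, H.Normal ∧ H ≤ M ∧ (∀ w ∈ W, w ∈ H → w = 1) ∧
    ∃ n, Odd n ∧ ∀ m ∈ M, ∃ w ∈ W, m ^ n = w ∧ w⁻¹ * m ∈ H := by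
  haveI := h.nW
  haveI : Fact (Nat.Prime 2) := ⟨Nat.prime_two⟩
  have p2 : IsPGroup 2 (W.subgroupOf M) := fun w =>
    ⟨1, Subtype.ext (Subtype.ext (by simpa [pow_two] using h.el _ w.2))⟩
  obtain ⟨k, hk⟩ := IsPGroup.iff_card.1 p2
  obtain ⟨K, hK⟩ := exists_right_complement'_of_coprime (N := W.subgroupOf M) (by
    rw [hk]; exact (Nat.coprime_two_left.2 h.odd).pow_left k)
  have cK : Nat.card K = W.relIndex M := hK.symm.index_eq_card.symm
  have wn : ∀ w ∈ W, w ^ W.relIndex M = w := fun w hw => by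
    obtain ⟨j, hj⟩ := h.odd
    rw [hj, pow_succ, pow_mul, pow_two, h.el w hw, one_pow, one_mul]
  have kn : ∀ c ∈ K.map M.subtype, c ^ W.relIndex M = 1 := by
    rintro _ ⟨c, hc, rfl⟩
    have := pow_card_eq_one' (x := (⟨c, hc⟩ : K))
    rw [cK] at this
    exact congrArg (fun x : K => ((x : M) : G)) this
  have dec : ∀ m ∈ M, ∃ w ∈ W, m ^ W.relIndex M = w ∧ w⁻¹ * m ∈ K.map M.subtype := fun m hm => by
    obtain ⟨⟨w, c⟩, e⟩ := hK.2 ⟨m, hm⟩
    have e' : ((w : M) : G) * ((c : M) : G) = m := congrArg Subtype.val e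
    have hw : ((w : M) : G) ∈ W := w.2
    have hc : ((c : M) : G) ∈ K.map M.subtype := ⟨c, c.2, rfl⟩
    have cm : Commute ((w : M) : G) ((c : M) : G) := (h.cen _ (c : M).2 _ hw).symm
    refine ⟨_, hw, ?_, by rw [← e', inv_mul_cancel_left]; exact hc⟩
    rw [← e', cm.mul_pow, wn _ hw, kn _ hc, mul_one]
  have le : K.map M.subtype ≤ M := map_subtype_le K
  refine ⟨K.map M.subtype, ⟨fun c hc g => ?_⟩, le, fun w hw hc => (wn w hw).symm.trans (kn w hc),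
    _, h.odd, dec⟩
  obtain ⟨w, -, e, hw⟩ := dec _ (h.nM.conj_mem c (le hc) g)
  rw [conj_pow, kn c hc, mul_one, mul_inv_cancel] at e
  simpa [← e] using hw

theorem abm : AbmStmt.{u} := by
  intro ih G _ _ V W M h
  obtain ⟨H, nH, le, dj, n, ⟨j, hj⟩, dec⟩ := exH h
  have sj := QuotientGroup.mk'_surjective H
  set π := QuotientGroup.mk' H with hπ
  have ker : ∀ g, π g = 1 ↔ g ∈ H := fun g => QuotientGroup.eq_one_iff g
  have inj : ∀ w ∈ W, ∀ w' ∈ W, π w = π w' → w = w' := fun w hw w' hw' e =>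
    inv_mul_eq_one.1 (dj _ (mul_mem (inv_mem hw) hw') ((ker _).1 (by
      rw [map_mul, map_inv, e, inv_mul_cancel])))
  have dec' : ∀ m ∈ M, ∃ w ∈ W, m ^ n = w ∧ π w = π m := fun m hm => by
    obtain ⟨w, hw, e, hh⟩ := dec m hm
    have := (ker _).2 hh
    rw [map_mul, map_inv, inv_mul_eq_one] at this
    exact ⟨w, hw, e, this⟩
  have mW : ∀ g, π g ∈ W.map π ↔ g ∈ M := fun g => by
    constructor
    · rintro ⟨w, hw, e⟩
      have := le ((ker (w⁻¹ * g)).1 (by rw [map_mul, map_inv, e, inv_mul_cancel]))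
      simpa using mul_mem (h.wm hw) this
    · intro hg
      obtain ⟨w, hw, -, e⟩ := dec' g hg
      exact ⟨w, hw, e⟩
  have mV : ∀ w ∈ W, π w ∈ V.map π ↔ w ∈ V := fun w hw =>
    ⟨fun ⟨v, hv, e⟩ => inj v (h.vw hv) w hw e ▸ hv, fun hv => ⟨w, hv, rfl⟩⟩
  have a : Ab (V.map π) (W.map π) (W.map π) := by
    refine ⟨h.nV.map π sj, h.nW.map π sj, h.nW.map π sj, map_mono h.vw, le_rfl,
      fun e => h.ne fun w hw => (mV w hw).1 (e ⟨w, hw, rfl⟩), ?_, ?_, by simp, ?_, ?_, ?_, ?_⟩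
    · rintro _ ⟨w, hw, rfl⟩
      rw [← map_mul, h.el w hw, map_one]
    · rintro _ ⟨m, hm, rfl⟩ _ ⟨w, hw, rfl⟩
      rw [← map_mul, h.cen m (h.wm hm) w hw, map_mul]
    · rintro _ ⟨y, hy, rfl⟩ _ ⟨y', hy', rfl⟩ n1 n2
      obtain ⟨g, e⟩ := h.tr y hy y' hy' (fun e => n1 ⟨y, e, rfl⟩) fun e => n2 ⟨y', e, rfl⟩
      exact ⟨π g, by rw [← e, map_mul, map_mul, map_inv]⟩
    · have e : W.map π = M.map π := le_antisymm (map_mono h.wm) (by
        rintro _ ⟨m, hm, rfl⟩; exact (mW m).2 hm)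
      rw [e, index_map_eq M sj fun g hg => le ((ker g).1 hg)]
      exact h.ev
    · intro t t' n1 n2 s1 s2
      obtain ⟨t, rfl⟩ := sj t
      obtain ⟨t', rfl⟩ := sj t'
      rw [← map_mul, mW] at s1 s2
      rw [mW] at n1 n2
      obtain ⟨g, e⟩ := h.cj t t' n1 n2 s1 s2
      exact ⟨π g, by simpa using (mW _).2 e⟩
    · intro t n1 s1
      obtain ⟨t, rfl⟩ := sj t
      rw [← map_mul, mW] at s1
      rw [mW] at n1
      obtain ⟨w, hw, e1, e2⟩ := dec' _ s1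
      have e3 : t ^ n * t ^ n = w := by rw [← e1, (Commute.refl t).mul_pow]
      rw [← map_mul, ← e2, mV w hw, ← e3]
      refine h.sq _ (fun c => n1 ?_) (e3 ▸ hw)
      rw [hj, pow_succ, pow_mul, pow_two] at c
      exact (mul_mem_cancel_left (pow_mem s1 j)).1 c
  obtain ⟨t, s1, s2, s3, s4⟩ := ih _ _ _ a
  obtain ⟨t0, rfl⟩ := sj t
  obtain ⟨w, hw, e1, e2⟩ := dec' _ ((mW (t0 * t0)).1 (by rwa [map_mul]))
  have wn : w ^ n = w := by rw [hj, pow_succ, pow_mul, pow_two, h.el w hw, one_pow, one_mul]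
  have q1 : t0 ^ (n * n) * t0 ^ (n * n) = w := by
    rw [← (Commute.refl t0).mul_pow, pow_mul, e1, wn]
  have q2 : π (t0 ^ (n * n)) = π t0 := by
    have t4 : π t0 ^ 4 = 1 := by
      rw [← a.el _ s1]; simp only [pow_succ, pow_zero, one_mul, mul_assoc]
    rw [map_pow, show n * n = 4 * (j * j + j) + 1 by rw [hj]; ring, pow_succ, pow_mul, t4, one_pow,
      one_mul]
  generalize t0 ^ (n * n) = t at q1 q2
  rw [← q2] at s2 s3 s4
  have cW : ∀ x ∈ W, (⁅t, x⁆ : G) ∈ W := fun x hx => mul_mem (h.nW.conj_mem x hx t) (inv_mem hx)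
  refine ⟨t, q1 ▸ hw, fun c => s2 ⟨_, c, map_mul _ _ _⟩, fun v hv => ?_, ?_⟩
  · rw [← mul_inv_eq_iff_eq_mul]
    refine inj _ (h.nW.conj_mem v (h.vw hv) t) v (h.vw hv) ?_
    rw [map_mul, map_mul, s3 _ ⟨v, hv, rfl⟩, map_inv, mul_inv_cancel_right]
  · rcases s4 with s | ⟨_, ⟨x, hx, rfl⟩, s⟩
    · refine Or.inl fun v hv => ?_
      obtain ⟨_, ⟨x, hx, rfl⟩, e⟩ := s _ ⟨v, hv, rfl⟩
      exact ⟨x, hx, inj _ (cW x hx) v (h.vw hv) (by rw [map_commutatorElement, e])⟩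
    · exact Or.inr ⟨x, hx, fun c => s ⟨_, c, map_commutatorElement _ _ _⟩⟩

end Cfsg.Agent.H3.PlAbm
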