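import Cfsg.Agent.H63.Frob
import Cfsg.Agent.H63.BG1
import Cfsg.Agent.H57.Spec
import Cfsg.Agent.H4.Schmidt
import Cfsg.Agent.H3.Cores
import Cfsg.Agent.S4249
import Cfsg.Agent.S0205

/-!
Groups in which every element of order divisible by `p` has order `p`: the Sylow `p`-subgroups
form a TI-set.
-/

set_option autoImplicit false

namespace Cfsg.Agent.H3

open Subgroup Cfsg Cfsg.Agent.H63 Cfsg.Agent.H67

variable {G : Type*} [Group G] {p : ℕ}

/-- Every element of order divisible by `p` has order `p`. -/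
def PureP (p : ℕ) (G : Type*) [Group G] : Prop := ∀ g : G, p ∣ orderOf g → orderOf g = p

theorem PureP.subgroup (h : PureP p G) (H : Subgroup G) : PureP p H := fun g hg => by
  have := h g (by rwa [orderOf_coe])
  rwa [orderOf_coe] at this

variable [hp : Fact p.Prime]

theorem PureP.pow_eq_one_of_commute (h : PureP p G) {z c : G} (hz : z ^ p = 1) (h1 : z ≠ 1)
    (hc : Commute c z) : c ^ p = 1 := by
  by_cases hd : p ∣ orderOf c
  · rw [← h c hd, pow_orderOf_eq_one]
  · have hzo : orderOf z = p := orderOf_eq_prime hz h1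
    have h2 := hc.orderOf_mul_eq_mul_orderOf_of_coprime
      (hzo ▸ ((Nat.Prime.coprime_iff_not_dvd hp.out).2 hd).symm)
    have h3 := h (c * z) (by rw [h2, hzo]; exact dvd_mul_left _ _)
    rw [h2, hzo] at h3
    have : orderOf c = 1 := Nat.eq_of_mul_eq_mul_right hp.out.pos (by rw [h3, one_mul])
    rw [orderOf_eq_one_iff.1 this, one_pow]

theorem PureP.pow_eq_one (h : PureP p G) {P : Subgroup G} (hP : IsPGroup p P) {x : G}
    (hx : x ∈ P) : x ^ p = 1 := by
  obtain ⟨k, hk⟩ := IsPGroup.iff_orderOf.1 hP ⟨x, hx⟩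
  rw [← orderOf_coe] at hk
  rcases k with _ | k
  · rw [orderOf_eq_one_iff.1 (by simpa using hk : orderOf x = 1), one_pow]
  · rw [← h x (hk ▸ dvd_pow_self p k.succ_ne_zero), pow_orderOf_eq_one]

theorem PureP.isPGroup_of_le_cent (h : PureP p G) {D X : Subgroup G} (hD : IsPGroup p D)
    (hne : D ≠ ⊥) (hX : X ≤ C[D]) : IsPGroup p X := by
  obtain ⟨z, hz, h1⟩ := (bot_or_exists_ne_one D).resolve_left hne
  exact fun x => ⟨1, Subtype.ext (by
    simpa using h.pow_eq_one_of_commute (h.pow_eq_one hD hz) h1 (hX x.2 z hz).symm)⟩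

variable [Finite G]

theorem PureP.false_of_hughes (h : PureP p G) {K : Subgroup G} [K.Normal] {z x : G} (hz : z ∈ K)
    (hz1 : z ≠ 1) (hzp : z ^ p = 1) (hK : ¬ IsPGroup p K) (hx : x ^ p = 1) (hxK : x ∉ K) :
    False := by
  set X := K ⊔ zpowers x with hX
  have hle : closure {g : X | g ^ p ≠ 1} ≤ K.subgroupOf X := by
    rw [closure_le]
    intro g hg
    by_contra hgK
    apply hg
    obtain ⟨k, hk, y, hy, hky⟩ := mem_sup_of_normal_left.1 g.2
    obtain ⟨i, rfl⟩ := mem_zpowers_iff.1 hy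
    have h1 : ((g : G) : G ⧸ K) ^ p = 1 := by
      rw [← hky, QuotientGroup.mk_mul, (QuotientGroup.eq_one_iff k).2 hk, one_mul,
        ← QuotientGroup.mk_pow, ← zpow_natCast, ← zpow_mul, mul_comm, zpow_mul, zpow_natCast, hx,
        one_zpow, QuotientGroup.mk_one]
    have h2 : orderOf ((g : G) : G ⧸ K) = p :=
      orderOf_eq_prime h1 fun h => hgK ((QuotientGroup.eq_one_iff (g : G)).1 h)
    have h3 := h g (h2 ▸ orderOf_map_dvd (QuotientGroup.mk' K) (g : G))
    exact Subtype.ext (by rw [coe_pow, ← h3, pow_orderOf_eq_one]; rfl)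
  have hne : K.subgroupOf X ≠ ⊤ := fun e =>
    hxK (subgroupOf_eq_top.1 e (mem_sup_right (mem_zpowers x)))
  obtain ⟨hnil, hi⟩ := S4249.result (G := X) p hp.out (fun hh => hK (IsPGroup.to_le hh le_sup_left))
    (fun e => hne (eq_top_iff.2 (e ▸ hle)))
  have hge : K.subgroupOf X ≤ closure {g : X | g ^ p ≠ 1} := by
    have h1 := relIndex_mul_index hle
    rw [hi] at h1
    rcases (Nat.dvd_prime hp.out).1 (Dvd.intro_left _ h1) with h2 | h2
    · exact absurd (index_eq_one.1 h2) hne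
    · rw [h2] at h1
      exact relIndex_eq_one.1 (Nat.eq_of_mul_eq_mul_right hp.out.pos (by rw [h1, one_mul]))
  obtain ⟨r, hr, hrp, hrd⟩ : ∃ r : ℕ, r.Prime ∧ r ≠ p ∧ r ∣ Nat.card K := by
    by_contra hn
    push Not at hn
    exact hK (isPGroup_of_isPi hp.out fun r hr hd => by_contra fun hne => hn r hr hne hd)
  haveI := Fact.mk hr
  obtain ⟨y, hy⟩ := exists_prime_orderOf_dvd_card' (G := K) r hrd
  have hc := H4.commute_of_isNilpotent_of_coprime hnil
    (x := ⟨y, mem_sup_left y.2⟩) (y := ⟨z, mem_sup_left hz⟩) (hge y.2) (hge hz) (by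
      rw [← orderOf_coe, ← orderOf_coe]
      change (orderOf (y : G)).Coprime (orderOf z)
      rw [orderOf_coe, hy, orderOf_eq_prime hzp hz1]
      exact (Nat.coprime_primes hr hp.out).2 hrp)
  have h1 := h.pow_eq_one_of_commute hzp hz1 (c := y) (congrArg Subtype.val hc)
  have h2 := orderOf_dvd_of_pow_eq_one h1
  rw [orderOf_coe, hy] at h2
  exact hrp ((Nat.prime_dvd_prime_iff_eq hr hp.out).1 h2)

theorem PureP.sylow_le_pCore (h : PureP p G) (h2 : p ≠ 2) (hD : pCore p G ≠ ⊥) (P : Sylow p G) :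
    (P : Subgroup G) ≤ pCore p G := by
  set D := pCore p G with hDd
  have hDp : IsPGroup p D := pCore_isPGroup p G
  by_contra hP
  obtain ⟨z, hz, hz1⟩ := (bot_or_exists_ne_one D).resolve_left hD
  have hC : C[D] ≤ D := le_pCore (h.isPGroup_of_le_cent hDp hD le_rfl)
  suffices ∃ K : Subgroup G, K.Normal ∧ D ≤ K ∧ ¬ IsPGroup p K ∧ ¬ p ∣ D.relIndex K by
    obtain ⟨K, hKn, hDK, hK, hi⟩ := this
    have : ¬ (P : Subgroup G) ≤ K := fun hle => hP (le_of_normal_syl (syl_mk hDK hDp hi)
      ((normalIn_top_iff.2 inferInstance).of_le hDK le_top) hle P.isPGroup')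
    obtain ⟨x, hx, hxK⟩ := SetLike.not_le_iff_exists.1 this
    exact h.false_of_hughes (hDK hz) hz1 (h.pow_eq_one hDp hz) hK (h.pow_eq_one P.isPGroup' hx) hxK
  rcases Nat.even_or_odd (Nat.card G) with he | ho
  · haveI : Fact (Nat.Prime 2) := ⟨Nat.prime_two⟩
    obtain ⟨s, hs⟩ := exists_prime_orderOf_dvd_card' (G := G) 2 (even_iff_two_dvd.1 he)
    have hss : s * s = 1 := by rw [← sq, ← hs, pow_orderOf_eq_one]
    have hsp : s ^ p ≠ 1 := fun e =>
      h2 ((Nat.prime_dvd_prime_iff_eq Nat.prime_two hp.out).1 (hs ▸ orderOf_dvd_of_pow_eq_one e)).symm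
    have hinv : ∀ t : G, t * t = 1 → t ^ p ≠ 1 → ∀ d ∈ D, t * d * t⁻¹ = d⁻¹ := by
      intro t htt htp d hd
      let φ : D →* D := (MulAut.conjNormal t : MulAut D).toMonoidHom
      have hf : MonoidHom.FixedPointFree φ := fun d hd => by
        by_contra hd1
        have h1 : t * d * t⁻¹ = d := congrArg Subtype.val hd
        exact htp (h.pow_eq_one_of_commute (h.pow_eq_one hDp d.2)
          (fun e => hd1 (Subtype.ext e)) (mul_inv_eq_iff_eq_mul.1 h1))
      have hi : Function.Involutive φ := fun d => Subtype.ext (by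
        change t * (t * d * t⁻¹) * t⁻¹ = d
        calc t * (t * d * t⁻¹) * t⁻¹ = (t * t) * d * (t * t)⁻¹ := by group
          _ = d := by rw [htt]; simp)
      exact congrArg Subtype.val (congrFun (hf.coe_eq_inv_of_involutive hi) ⟨d, hd⟩)
    have hcard : Nat.card ↥(D ⊔ zpowers s) = Nat.card D * 2 := by
      rw [card_sup_of_inf_eq_bot (Or.inr (by rw [normalizer_eq_top]; exact le_top)), Nat.card_zpowers,
        hs]
      refine eq_bot_iff.2 fun x hx => ?_
      obtain ⟨i, rfl⟩ := mem_zpowers_iff.1 hx.2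
      rcases Int.even_or_odd' i with ⟨j, rfl | rfl⟩
      · rw [zpow_mul, zpow_two, hss, one_zpow]; exact one_mem _
      · refine absurd (h.pow_eq_one hDp ?_) hsp
        have := hx.1
        rwa [zpow_add, zpow_mul, zpow_two, hss, one_zpow, one_mul, zpow_one] at this
    refine ⟨D ⊔ zpowers s, ?_, le_sup_left, fun hh => hsp (h.pow_eq_one hh
      (mem_sup_right (mem_zpowers s))), ?_⟩
    · refine normalizer_eq_top_iff.1 (eq_top_iff.2 fun g _ => mem_normalizer_of_cj_le ?_)
      rw [cj_sup, cj_eq_self (by rw [normalizer_eq_top]; exact mem_top g), cj_zpowers]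
      refine sup_le le_sup_left (zpowers_le.2 ?_)
      have : g * s * g⁻¹ * s ∈ D := hC fun d hd => by
        have h1 := hinv s hss hsp d hd
        have h3 := hinv (g * s * g⁻¹) (by
          calc g * s * g⁻¹ * (g * s * g⁻¹) = g * (s * s) * g⁻¹ := by group
            _ = 1 := by rw [hss]; simp) (by rwa [conj_pow, Ne, conj_eq_one_iff]) _ (inv_mem hd)
        rw [inv_inv] at h3
        nth_rw 1 [← h1] at h3
        nth_rw 1 [← h3]
        group
      have h3 := mul_mem (mem_sup_left this : _ ∈ D ⊔ zpowers s) (mem_sup_right (mem_zpowers s))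
      rwa [mul_assoc, hss, mul_one] at h3
    · have h1 := H67.card_mul_relIndex (le_sup_left : D ≤ D ⊔ zpowers s)
      rw [hcard] at h1
      rw [Nat.eq_of_mul_eq_mul_left Nat.card_pos h1]
      exact fun e => h2 ((Nat.prime_dvd_prime_iff_eq hp.out Nat.prime_two).1 e)
  · haveI := S0205.result ho
    have hlt : D < ⊤ := lt_top_iff_ne_top.2 fun e => hP (e ▸ le_top)
    obtain ⟨U, -, hU⟩ := exists_chiefFactor_bot (normalIn_refl (⊤ : Subgroup G)) hlt
      (by rw [normalizer_eq_top])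
    obtain ⟨r, hr, hel⟩ := sol_chief_abelem inferInstance hU
    haveI := Fact.mk hr
    obtain ⟨k, hk⟩ := IsPGroup.iff_card.1 (elemAb_isPGroup hel)
    rw [card_quo hU.normal_sub.norm] at hk
    have hUn : U.Normal := normalIn_top_iff.1 hU.normal
    have hU' : ¬ IsPGroup p U := fun hh => hU.lt.not_ge (le_pCore hh)
    refine ⟨U, hUn, hU.le, hU', fun hd => hU' ?_⟩
    rw [hk] at hd
    obtain rfl := (Nat.prime_dvd_prime_iff_eq hp.out hr).1 (hp.out.dvd_of_dvd_pow hd)
    obtain ⟨j, hj⟩ := IsPGroup.iff_card.1 hDp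
    exact IsPGroup.of_card (n := j + k) (by rw [← H67.card_mul_relIndex hU.le, hj, hk, pow_add])

/-- A nontrivial `p`-subgroup lies in a unique Sylow `p`-subgroup. -/
theorem PureP.syl_unique (h : PureP p G) (h2 : p ≠ 2) {D P Q : Subgroup G} (hne : D ≠ ⊥)
    (hP : IsSyl p P ⊤) (hQ : IsSyl p Q ⊤) (hDP : D ≤ P) (hDQ : D ≤ Q) : P = Q := by
  induction D using WellFoundedGT.induction generalizing P Q with
  | ind D ih =>
    have hDp : IsPGroup p D := (syl_isPGroup hP).to_le hDP
    by_cases hs : IsSyl p D ⊤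
    · rw [syl_eq_of_le hs (syl_isPGroup hP) hDP le_top, syl_eq_of_le hs (syl_isPGroup hQ) hDQ le_top]
    set E := O[{p}](N[D]) with hE
    have hEp : IsPGroup p E := isPGroup_of_isPi hp.out (isPi_piCoreOf _ _)
    have hDE : D ≤ E := le_piCoreOf (normalIn_normalizer D) (isPi_of_isPGroup hp.out hDp)
    have hle : ∀ R : Subgroup G, IsPGroup p R → R ≤ N[D] → R ≤ E := by
      intro R hR hRN
      obtain ⟨S, hS⟩ := (hR.comap_subtype (K := N[D])).exists_le_sylow
      have h1 := (h.subgroup N[D]).sylow_le_pCore h2 (fun e => hne (eq_bot_iff.2 (hDE.trans (by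
        rw [hE, ← map_pCore_subtype hp.out, e, Subgroup.map_bot])))) S
      rw [hE, ← map_pCore_subtype hp.out, ← map_subgroupOf_eq_of_le hRN]
      exact map_mono (hS.trans h1)
    obtain ⟨S, hS, hES⟩ := exists_syl_ge (le_top : E ≤ ⊤) hEp
    have key : ∀ P, IsSyl p P ⊤ → D ≤ P → P = S := fun P hP hDP => by
      have hlt : D < P ⊓ N[D] := H67.lt_inf_normalizer_of_isNilpotent (syl_isPGroup hP).isNilpotent
        (lt_of_le_of_ne hDP fun e => hs (e ▸ hP))
      exact ih _ hlt (ne_bot_of_gt hlt) hP hS inf_le_left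
        ((hle _ ((syl_isPGroup hP).to_le inf_le_left) inf_le_right).trans hES)
    rw [key P hP hDP, key Q hQ hDQ]

end Cfsg.Agent.H3
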