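import Cfsg.Agent.H3.Char2

/-! 3-elements acting on 2-groups of rank 2; small lemmas on class two groups. -/

namespace Cfsg.Agent.H3
open Subgroup Cfsg Cfsg.Agent.H63 Cfsg.Agent.H67
open scoped commutatorElement

variable {G : Type*} [Group G] [Finite G] {A B D E K N P Q W : Subgroup G}

omit [Finite G] in
theorem le_cent_of_card_two (hK : Nat.card K = 2) (h : A ≤ N[K]) : A ≤ C[K] := by
  intro a ha k hk
  by_cases h1 : k = 1
  · rw [h1]; group
  have hm := conj_mem_of_mem_normalizer (h ha) hk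
  have hne : a * k * a⁻¹ ≠ 1 := fun e => h1 (by
    calc k = a⁻¹ * (a * k * a⁻¹) * a := by group
      _ = 1 := by rw [e]; group)
  obtain ⟨y, -, hy⟩ := (Nat.card_eq_two_iff' (1 : K)).1 hK
  have e1 := hy ⟨k, hk⟩ (fun e => h1 (congrArg Subtype.val e))
  have e2 := hy ⟨_, hm⟩ (fun e => hne (congrArg Subtype.val e))
  have : a * k * a⁻¹ = k := congrArg Subtype.val (e2.trans e1.symm)
  rw [mul_inv_eq_iff_eq_mul] at this
  exact this.symm

/-- An odd order group acting on a group of order 4 and centralizing an involution acts trivially. -/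
theorem le_cent_of_card_four (hW : Nat.card W = 4) (hN : N ≤ W) (hN2 : Nat.card N = 2)
    (hA : A ≤ N[W]) (hAN : A ≤ N[N]) (hWN : W ≤ N[N]) (hodd : Odd (Nat.card A)) : A ≤ C[W] := by
  refine stable_factor_cent (N := N) (by rw [hN2]; exact Nat.coprime_two_right.2 hodd)
    (le_cent_of_card_two hN2 hAN) ?_
  rw [commutator_comm, ← quo_cents_iff hAN hWN]
  refine le_cent_of_card_two ?_ (quo_norms _ hA)
  rw [card_quo hWN]
  have := H67.card_mul_relIndex hN
  rw [hN2, hW] at this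
  omega

omit [Finite G] in
theorem commutator_mul_right_of_comm {x a b : G} (h : a * ⁅x, b⁆ = ⁅x, b⁆ * a) :
    ⁅x, a * b⁆ = ⁅x, a⁆ * ⁅x, b⁆ := by
  calc ⁅x, a * b⁆ = ⁅x, a⁆ * (a * ⁅x, b⁆ * a⁻¹) := by simp only [commutatorElement_def]; group
    _ = _ := by rw [h]; group

/-- Counting with the homomorphism `y ↦ ⁅x, y⁆`. -/
theorem card_le_of_commutator_hom {x : G} (hW : ∀ y ∈ B, ⁅x, y⁆ ∈ W) (hc : W ≤ C[B])
    (h : ∀ y ∈ B, ⁅x, y⁆ ∈ N → y ∈ K) : Nat.card B ≤ Nat.card K * N.relIndex W := by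
  let f : B →* G := MonoidHom.mk' (fun y => ⁅x, (y : G)⁆) fun a b =>
    commutator_mul_right_of_comm (hc (hW b b.2) a a.2)
  have h1 := (N.comap f).card_mul_index
  rw [index_comap] at h1
  rw [← h1]
  refine Nat.mul_le_mul ?_ (relIndex_le_of_le_right ?_ (relIndex_ne_zero' _ _))
  · rw [← H67.card_map_subtype]
    refine card_le_of_le ?_
    rintro _ ⟨y, hy, rfl⟩
    exact h y y.2 hy
  · rintro _ ⟨y, rfl⟩
    exact hW y y.2

theorem semiregular_of_cyclic {p : ℕ} (hp : p.Prime) (hD : IsCyclic D) (hDp : IsPGroup p D)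
    (hA : A ≤ D) (hAc : Nat.card A = p) (h : K ⊓ C[A] = ⊥) : Semiregular K D := by
  refine semiregular_of_prime_subgroups fun R hR hRp => ?_
  haveI := Fact.mk hp
  have hc : IsMulCommutative D := by haveI := hD; infer_instance
  have hO := card_le_of_isCyclic_of_pow hp (isCyclic_of_le' hD (omegaOne_le p D))
    (fun x hx => elemAb_pow (elemAb_omegaOne hc) hx)
  have e1 : A = omegaOne p D :=
    eq_of_le_of_card_le (elemAb_le_omegaOne (elemAb_of_card_prime hp hAc) hA) (by omega)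
  have hRc : Nat.card R = p := ((Nat.prime_dvd_prime_iff_eq hp hRp).1
    (dvd_card_of_isPGroup hp (hDp.to_le hR) (ne_bot_of_card_prime hRp))).symm
  have e2 : R = omegaOne p D :=
    eq_of_le_of_card_le (elemAb_le_omegaOne (elemAb_of_card_prime hp hRc) hR) (by omega)
  rwa [e2, ← e1]

/-- A special 2-group with centre of order at most 4 containing all involutions has order at most 128. -/
theorem card_le_of_special (hZ : W ≤ C[Q]) (hWQ : W ≤ Q) (hW : Nat.card W ≤ 4)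
    (hWe : ∀ w ∈ W, w ^ 2 = 1)
    (hd : ⁅Q, Q⁆ ≤ W) (hsq : ∀ x ∈ Q, x ^ 2 ∈ W) (hinv : ∀ x ∈ Q, x ^ 2 = 1 → x ∈ W) :
    Nat.card Q ≤ 128 := by
  by_cases hQ : Q ≤ W
  · exact (card_le_of_le hQ).trans (by omega)
  obtain ⟨x, hx, hxW⟩ := SetLike.not_le_iff_exists.1 hQ
  have cm : ∀ a ∈ Q, ∀ b ∈ Q, ⁅a, b⁆ ∈ W := fun a ha b hb => hd (commutator_mem_commutator ha hb)
  set C := Q ⊓ C1[x] with hC
  have h1 : Nat.card Q ≤ Nat.card C * 4 := by
    refine (card_le_of_commutator_hom (N := ⊥) (K := C) (cm x hx) hZ fun y hy h => ⟨hy, ?_⟩).trans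
      (Nat.mul_le_mul_left _ (by rwa [relIndex_bot_left]))
    exact mem_centralizer_singleton_iff.2 (commutatorElement_eq_one_iff_mul_comm.1 h).symm
  have hs1 : x ^ 2 ≠ 1 := fun e => hxW (hinv x hx e)
  have hsc : Nat.card (zpowers (x ^ 2)) = 2 := by
    rw [Nat.card_zpowers]; exact orderOf_eq_prime (hWe _ (hsq x hx)) hs1
  have hsW : zpowers (x ^ 2) ≤ W := zpowers_le.2 (hsq x hx)
  have hi : (zpowers (x ^ 2)).relIndex W ≤ 2 := by
    have := H67.card_mul_relIndex hsW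
    rw [hsc] at this; omega
  -- `A = ⟨x⟩ W`
  have hsup : ∀ {X : Subgroup G} {y : G}, y ^ 2 ∈ X → y ∈ N[X] →
      Nat.card ↥(X ⊔ zpowers y) ≤ Nat.card X * 2 := by
    intro X y hy hn
    rw [← H67.card_mul_relIndex (le_sup_left : X ≤ X ⊔ zpowers y), sup_comm,
      relIndex_sup_of_le_normalizer (zpowers_le.2 hn), ← card_quo (zpowers_le.2 hn),
      quo_zpowers hn, Nat.card_zpowers]
    refine Nat.mul_le_mul_left _ (Nat.le_of_dvd two_pos (orderOf_dvd_of_pow_eq_one ?_))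
    rw [← coset_pow hn]; exact coset_eq_one hy
  have nrm : ∀ X : Subgroup G, W ≤ X → X ≤ Q → Q ≤ N[X] := fun X h1 h2 =>
    le_normalizer_of_commutator_le (hd.trans h1) h2
  set A := W ⊔ zpowers x with hA
  have hAQ : A ≤ Q := sup_le hWQ (zpowers_le.2 hx)
  have hA8 : Nat.card A ≤ 8 :=
    (hsup (hsq x hx) (nrm W le_rfl hWQ hx)).trans (by omega)
  have hout : ∀ y ∈ C, y ^ 2 ∈ zpowers (x ^ 2) → y ∈ A := by
    intro y hy h
    have hxy : Commute x y := (mem_centralizer_singleton_iff.1 hy.2).symm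
    have hss : x ^ 2 * x ^ 2 = 1 := by rw [← pow_two]; exact hWe _ (hsq x hx)
    obtain ⟨n, hn⟩ := h
    simp only at hn
    have h2 : (x ^ 2) ^ (2 : ℤ) = 1 := by rw [zpow_two, hss]
    rcases Int.even_or_odd' n with ⟨k, rfl | rfl⟩
    · rw [zpow_mul, h2, one_zpow] at hn
      exact mem_sup_left (hinv y hy.1 hn.symm)
    · rw [zpow_add, zpow_mul, h2, one_zpow, one_mul, zpow_one] at hn
      have := hinv (x * y) (mul_mem hx hy.1) (by rw [hxy.mul_pow, ← hn, hss])
      exact (mul_mem_cancel_left (mem_sup_right (mem_zpowers x) : x ∈ A)).1 (mem_sup_left this)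
  by_cases hCA : C ≤ A
  · have := card_le_of_le hCA
    omega
  obtain ⟨u, hu, huA⟩ := SetLike.not_le_iff_exists.1 hCA
  have hi2 : (zpowers (x ^ 2)).relIndex W = 2 := by
    have h0 := relIndex_ne_zero' (zpowers (x ^ 2)) W
    have h1 : (zpowers (x ^ 2)).relIndex W ≠ 1 := fun e =>
      huA (hout u hu (relIndex_eq_one.1 e (hsq u hu.1)))
    omega
  have h2 : Nat.card C ≤ Nat.card ↥(A ⊔ zpowers u) * 2 := by
    refine (card_le_of_commutator_hom (N := zpowers (x ^ 2)) (B := C) (K := A ⊔ zpowers u) (fun y hy => cm u hu.1 y hy.1)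
      (hZ.trans (H67.centralizer_anti inf_le_left)) fun y hy h => ?_).trans
      (Nat.mul_le_mul_left _ hi)
    by_contra hy'
    have hyA : y ∉ A := fun e => hy' (mem_sup_left e)
    have huy : u * y ∉ A := fun e => hy'
      ((mul_mem_cancel_left (mem_sup_right (mem_zpowers u))).1 (mem_sup_left e))
    apply huy
    refine hout _ (mul_mem hu hy) ?_
    have e1 : (u * y) ^ 2 = u ^ 2 * (⁅u⁻¹, y⁆ * y ^ 2) := by
      simp only [commutatorElement_def, pow_two]; group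
    have e2 : ⁅u⁻¹, y⁆ = ⁅u, y⁆⁻¹ := by
      have := hZ (cm u hu.1 y hy.1) u hu.1
      calc ⁅u⁻¹, y⁆ = u⁻¹ * ⁅u, y⁆⁻¹ * u := by simp only [commutatorElement_def]; group
        _ = (u⁻¹ * (⁅u, y⁆ * u))⁻¹ := by group
        _ = ⁅u, y⁆⁻¹ := by rw [← this]; group
    have e3 : u ^ 2 * y ^ 2 ∈ zpowers (x ^ 2) :=
      (mul_mem_iff_of_index_two (H := (zpowers (x ^ 2)).subgroupOf W) hi2
        (a := ⟨_, hsq u hu.1⟩) (b := ⟨_, hsq y hy.1⟩)).2
        ⟨fun h => absurd (hout u hu h) huA, fun h => absurd (hout y hy h) hyA⟩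
    rw [e1, e2, ← hZ (inv_mem (cm u hu.1 y hy.1)) _ (pow_mem hy.1 2), ← mul_assoc]
    exact mul_mem e3 (inv_mem h)
  have h3 := hsup (X := A) (mem_sup_left (hsq u hu.1)) (nrm A le_sup_left hAQ hu.1)
  omega

/-- A cyclic 3-group acting faithfully and fixed-point-freely on a 2-group of rank 2 has order 3. -/
theorem card_le_three_of_rank_two (hD : IsCyclic D) (hD3 : IsPGroup 3 D) (hP : IsPGroup 2 P)
    (hn : D ≤ N[P]) (hf : D ⊓ C[P] = ⊥) (hfpf : P ⊓ C[D] = ⊥)
    (hr : ∀ E ≤ P, IsElementaryAbelian 2 E → Nat.card E ≤ 4) : Nat.card D ≤ 3 := by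
  by_contra hlt
  haveI : Fact (Nat.Prime 3) := ⟨Nat.prime_three⟩
  obtain ⟨n, hn3⟩ := exists_card_eq_pow hD3
  have h9 : 9 ∣ Nat.card D := by
    rw [hn3] at hlt ⊢
    have : 2 ≤ n := by
      by_contra h
      have : n = 0 ∨ n = 1 := by omega
      rcases this with rfl | rfl <;> simp at hlt
    exact pow_dvd_pow 3 this
  obtain ⟨A, hA, hA3⟩ := exists_le_card_pow (p := 3) (m := 1) (X := D) (Dvd.dvd.trans (by norm_num) h9)
  rw [pow_one] at hA3
  have hDc : IsMulCommutative D := by haveI := hD; infer_instance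
  have hDA : D ≤ N[A] := (normalIn_of_isMulCommutative hDc hA).norm
  have cop : ∀ K ≤ P, (Nat.card A).Coprime (Nat.card K) := fun K hK => by
    obtain ⟨k, hk⟩ := exists_card_eq_pow (hP.to_le hK)
    rw [hA3, hk]; exact Nat.Coprime.pow_right _ (by norm_num)
  have habel : ∀ V ≤ P, IsMulCommutative V → D ≤ N[V] → A ≤ C[V] := by
    intro V hV hVc hDV
    refine coprime_abelian_faithful_omegaOne Nat.prime_two (hA.trans hDV) (cop V hV) hVc
      (hP.to_le hV) ?_
    have hE := elemAb_omegaOne (p := 2) hVc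
    have hEP := (omegaOne_le 2 V).trans hV
    have hDE : D ≤ N[omegaOne 2 V] := le_normalizer_omegaOne hDV
    have hle : ⁅omegaOne 2 V, A⁆ ≤ omegaOne 2 V := commutator_le_of_norm_left (hA.trans hDE)
    have := (semiregular_of_cyclic Nat.prime_three hD hD3 hA hA3
      (coprime_abel_cent_TI (hA.trans hDE) (cop _ hEP) (elemAb_comm hE))).card_dvd_pred
      (le_normalizer_commutator hDE hDA)
    have h4 := (card_le_of_le hle).trans (hr _ hEP hE)
    have h5 := h9.trans this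
    have h6 : Nat.card ↥⁅omegaOne 2 V, A⁆ = 1 := by
      have : 0 < Nat.card ↥⁅omegaOne 2 V, A⁆ := Nat.card_pos
      omega
    rw [card_eq_one, commutator_comm, commutator_eq_bot_iff_le_centralizer] at h6
    exact h6
  obtain ⟨Q, hQP, ⟨hDQ, hAQ⟩, hmin⟩ := exists_minimal_le
    (fun Q => D ≤ N[Q] ∧ ¬ A ≤ C[Q]) (H := P) ⟨hn, fun h => by
      have : A = ⊥ := eq_bot_iff.2 (hf ▸ le_inf hA h)
      rw [this, card_bot] at hA3; omega⟩
  have hQp := hP.to_le hQP
  have prop : ∀ L < Q, D ≤ N[L] → A ≤ C[L] := fun L hL hDL => by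
    by_contra h
    exact hL.ne (hmin L ⟨hDL, h⟩ hL.le)
  have hcomm : ⁅Q, A⁆ = Q := by
    by_contra h
    have hlt := lt_of_le_of_ne (commutator_le_of_norm_left (hA.trans hDQ)) h
    exact hAQ (coprime_cent_of_commutator_cent (hA.trans hDQ) (cop Q hQP)
      (le_centralizer_iff.1 (prop _ hlt (le_normalizer_commutator hDQ hDA))))
  have hQ0 : Q ≠ ⊥ := fun e => hAQ (by rw [e, H67.centralizer_bot]; exact le_top)
  have cen : ∀ L < Q, D ≤ N[L] → Q ≤ N[L] → L ≤ C[Q] := fun L hL hDL hQL => by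
    have h1 := prop L hL hDL
    rw [le_centralizer_iff, ← commutator_eq_bot_iff_le_centralizer, ← hcomm]
    refine three_subgroup (X := A) (Y := L) (Z := Q) ?_ ?_
    · rw [commutator_eq_bot_iff_le_centralizer.2 h1, commutator_bot_left]
    · rw [commutator_eq_bot_iff_le_centralizer]
      exact (commutator_le_of_norm_left hQL).trans (le_centralizer_iff.1 h1)
  have hF : frattiniOf Q ≤ C[Q] := cen _ (frattiniOf_lt hQ0) ((charIn_frattiniOf Q).le_norm hDQ)
    (frattiniOf_normalIn Q).norm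
  have hnd : Q ≤ N[⁅Q, Q⁆] := le_normalizer_derived Q
  have hDd : D ≤ N[⁅Q, Q⁆] := (charIn_derived Q).le_norm hDQ
  have hdQ : ⁅Q, Q⁆ ≤ Q := (derived_normalIn Q).le
  have hTI : Q /ᵍ ⁅Q, Q⁆ ⊓ C[A /ᵍ ⁅Q, Q⁆] = ⊥ := by
    have := coprime_abel_cent_TI (quo_norms ⁅Q, Q⁆ (hA.trans hDQ))
      (((cop Q hQP).coprime_dvd_left (card_quo_dvd _ _)).coprime_dvd_right (card_quo_dvd _ _))
      (quo_isMulCommutative_of_der_le le_rfl)
    rwa [← quo_commutator hnd (hA.trans hDd), hcomm] at this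
  have hCd : Q ⊓ C[A] ≤ ⁅Q, Q⁆ := by
    rw [← quo_eq_bot_iff (inf_le_left.trans hnd), eq_bot_iff, ← hTI]
    exact quo_subcent _ _ _
  have hFd : frattiniOf Q ≤ ⁅Q, Q⁆ := (le_inf (frattiniOf_le Q) (le_centralizer_iff.1
    (prop _ (frattiniOf_lt hQ0) ((charIn_frattiniOf Q).le_norm hDQ)))).trans hCd
  have hdC : ⁅Q, Q⁆ ≤ C[Q] := (derived_le_frattiniOf hQp).trans hF
  have hdc : IsMulCommutative ↥⁅Q, Q⁆ :=
    le_centralizer_iff_isMulCommutative.1 (hdC.trans (H67.centralizer_anti hdQ))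
  have hde : IsElementaryAbelian 2 ⁅Q, Q⁆ := by
    refine elemAb_of_le (elemAb_omegaOne hdc) (commutator_le.2 fun a ha b hb => ?_)
    refine mem_omegaOne (commutator_mem_commutator ha hb) ?_
    rw [← commutator_sq_left' (hdC (commutator_mem_commutator ha hb) a ha),
      commutatorElement_eq_one_iff_mul_comm]
    exact (hF (pow_mem_frattiniOf hQp ha) b hb).symm
  have hd0 : ⁅Q, Q⁆ ≠ ⊥ := fun e => hAQ (habel Q hQP
    (le_centralizer_iff_isMulCommutative.1 (commutator_eq_bot_iff_le_centralizer.1 e)) hDQ)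
  have hd4 := hr _ (hdQ.trans hQP) hde
  have hd4' : Nat.card ↥⁅Q, Q⁆ = 4 := by
    obtain ⟨k, hk⟩ := elemAb_card hde
    have h1 : Nat.card ↥⁅Q, Q⁆ ≠ 1 := fun e => hd0 (card_eq_one.1 e)
    have h2 : Nat.card ↥⁅Q, Q⁆ ≠ 2 := fun e => hd0 (eq_bot_iff.2 (hfpf ▸ le_inf (hdQ.trans hQP)
      (le_centralizer_iff.1 (le_cent_of_card_two e hDd))))
    rw [hk] at hd4 h1 h2 ⊢
    have : k < 3 := by
      by_contra h
      have := Nat.pow_le_pow_right two_pos (not_lt.1 h)
      omega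
    interval_cases k <;> omega
  have h128 := card_le_of_special hdC hdQ hd4 (fun w hw => elemAb_pow hde hw) le_rfl
    (fun x hx => hFd (pow_mem_frattiniOf hQp hx)) (fun x hx h2 => by
      have he := elemAb_sup hde (elemAb_zpowers h2)
        (hdC.trans (H67.centralizer_anti (zpowers_le.2 hx)))
      have := eq_of_le_of_card_le (le_sup_left : ⁅Q, Q⁆ ≤ ⁅Q, Q⁆ ⊔ zpowers x)
        (by rw [hd4']; exact hr _ (sup_le (hdQ.trans hQP) (zpowers_le.2 (hQP hx))) he)
      rw [this]; exact mem_sup_right (mem_zpowers x))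
  have hdis : ⁅Q, Q⁆ ⊓ D = ⊥ := isPi_inf_eq_bot (isPi_of_isPGroup Nat.prime_two (elemAb_isPGroup hde))
    (isPi_compl_of_isPGroup Nat.prime_three hD3 (by norm_num))
  have hdiv := (semiregular_of_cyclic Nat.prime_three (pim_isCyclic _ hD) (pim_isPGroup _ hD3)
    (quo_mono ⁅Q, Q⁆ hA) (by
      rw [← hA3]
      exact card_quo_of_disjoint (hA.trans hDd) (eq_bot_iff.2 (hdis ▸ inf_le_inf_left _ hA)))
      hTI).card_dvd_pred (quo_norms _ hDQ)
  have hcD := card_quo_of_disjoint hDd hdis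
  change Nat.card (D /ᵍ ⁅Q, Q⁆) ∣ _ at hdiv
  rw [hcD] at hdiv
  have h5 := h9.trans hdiv
  have hm := card_quo_mul (derived_normalIn Q)
  obtain ⟨m, hm2⟩ := exists_card_eq_pow (pim_isPGroup (cosetHom ⁅Q, Q⁆) hQp)
  change Nat.card (Q /ᵍ ⁅Q, Q⁆) = _ at hm2
  have hne : Nat.card (Q /ᵍ ⁅Q, Q⁆) ≠ 1 := fun e =>
    quo_ne_bot (commutator_lt_of_isSolvable (by haveI := hQp.isNilpotent; infer_instance) hQ0) hnd
      (card_eq_one.1 e)
  rw [hm2] at h5 hm hne
  rw [hd4'] at hm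
  have : m < 6 := by
    by_contra h
    have := Nat.pow_le_pow_right two_pos (not_lt.1 h)
    omega
  interval_cases m <;> omega
where
  commutator_sq_left' {a b : G} (h : a * ⁅a, b⁆ = ⁅a, b⁆ * a) : ⁅a ^ 2, b⁆ = ⁅a, b⁆ ^ 2 := by
    calc ⁅a ^ 2, b⁆ = a * ⁅a, b⁆ * a⁻¹ * ⁅a, b⁆ := by
          simp only [commutatorElement_def, pow_two]; group
      _ = ⁅a, b⁆ ^ 2 := by rw [h, pow_two]; group

end Cfsg.Agent.H3
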