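import Cfsg.Agent.H46.J1Defs
import Cfsg.Agent.H3.S94QC

/-! A Sylow `2`-subgroup `(Q₈ ∘ Q₈).2`. -/

set_option autoImplicit false

namespace Cfsg.Agent.H3.S94Q

open Subgroup Cfsg.Agent.H8 Cfsg.Agent.H46.S94
open scoped Pointwise

universe u

local notation "C[" A "]" => Subgroup.centralizer (SetLike.coe A)
local notation "N[" A "]" => Subgroup.normalizer (SetLike.coe A)

variable {Γ : Type} [Group Γ] {G : Type u} [Group G] [Finite G] {φ : Γ →* G} {F : Subgroup G} {t : G}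
  {O : Subgroup G} {z σ ρ : Γ} {V L : Subgroup Γ}

omit [Finite G] in
theorem split (h : CG φ F t O z σ ρ V L) {c : G} (hc : c * t = t * c) : ∃ a,
    (∀ x, c * φ x * c⁻¹ = φ (a * x * a⁻¹)) ∧ ∃ o ∈ O, c = φ a * o ∨ c = φ a * t * o := by
  obtain ⟨α, hα⟩ := h.cx.aut hc
  obtain ⟨a, ha⟩ := h.jf.inn α
  exact ⟨a, fun x => by rw [← hα, ha]; rfl, h.cx.split' hc hα ha⟩

omit [Finite G] in
theorem memV (h : CG φ F t O z σ ρ V L) {c : G} {a : Γ} (e : ∀ x, c * φ x * c⁻¹ = φ (a * x * a⁻¹))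
    (hc : c ∈ C[V.map φ]) : a ∈ V := h.jf.CV fun v hv => by
  have := e v
  rw [← hc _ (mem_map_of_mem φ hv), mul_inv_cancel_right] at this
  exact (mul_inv_eq_iff_eq_mul.1 (h.cx.inj this).symm).symm

theorem memN {W : Subgroup G} {c : G} (h1 : c ∈ N[W]) (h2 : c * t = t * c) : c ∈ N[St1 W t] :=
  mem_normalizer_of_conj_smul_le fun x hx => by
    rw [smul_sup, mem_normalizer_iff_conj_smul_eq.1 h1, conj_smul_eq_of_mem_centralizer] at hx
    · exact hx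
    · rintro _ ⟨n, rfl⟩
      exact (Commute.zpow_left h2.symm n).eq

omit [Finite G] in
theorem OC (h : CG φ F t O z σ ρ V L) : O ≤ C[V.map φ] :=
  h.cx.OC.trans (centralizer_le (map_le_range φ V))

theorem normO (h : CG φ F t O z σ ρ V L) {n o : G} (hn : n ∈ N[St1 (V.map φ) t]) (ho : o ∈ O) :
    n * o * n⁻¹ ∈ O := by
  have h1 : n * o * n⁻¹ ∈ C[V.map φ] := fun w hw => by
    have := OC h ho _ ((mem_normalizer_iff''.1 (h.gl.1 hn) w).1 hw)
    calc _ = n * (n⁻¹ * w * n * o) * n⁻¹ := by group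
      _ = _ := by rw [this]; group
  have h2 := h.hG _ (mul_mem (mul_mem hn (memN (centralizer_le_normalizer _ (OC h ho))
    (h.cx.Ot o ho))) (inv_mem hn)) h1
  obtain ⟨a, ha, o', ho', e⟩ := split h h2
  have h3 : φ a * φ a = 1 := by rw [← map_mul, h.jf.el a (memV h ha h1), map_one]
  obtain ⟨y, y2, yo, e⟩ : ∃ y, y * y = 1 ∧ Commute y o' ∧ n * o * n⁻¹ = y * o' := by
    rcases e with e | e
    · exact ⟨_, h3, h.cx.oA ho' a, e⟩
    · exact ⟨_, by rw [mul_assoc, ← mul_assoc t, ← h.cx.AC, mul_assoc, h.cx.tt, mul_one, h3],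
        Commute.mul_left (h.cx.oA ho' a) (h.cx.Ot _ ho').symm, e⟩
  obtain ⟨k, hk⟩ := h.cx.odd
  have p : ∀ x ∈ O, x ^ (2 * k + 1) = 1 := fun x hx =>
    congrArg Subtype.val (hk ▸ pow_card_eq_one' (x := (⟨x, hx⟩ : O)))
  have h4 : (y * o') ^ (2 * k + 1) = 1 := by rw [← e, conj_pow, p o ho, mul_one, mul_inv_cancel]
  rw [yo.mul_pow, p o' ho', mul_one, pow_succ, pow_mul, pow_two, y2, one_pow, one_mul] at h4
  rwa [e, h4, one_mul]

omit [Finite G] in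
theorem dec (h : CG φ F t O z σ ρ V L) (g : GA N[St1 (V.map φ) t] F O (V.map φ) t) {x : G}
    (h1 : x ∈ N[St1 (V.map φ) t] ⊓ F) (h2 : x ∈ C[V.map φ]) : ∃ a ∈ V, ∃ o ∈ O, x = φ a * o := by
  obtain ⟨a, o, ho, rfl⟩ := h.cx.mem_sup.1 (sup_le_sup_right (map_le_range φ V) O (g.ker ⟨h1, h2⟩))
  refine ⟨a, memV h (fun x => ?_) h2, o, ho, rfl⟩
  rw [mul_assoc (φ a), ← h.cx.oA ho, map_mul, map_mul, map_inv]
  group

omit [Finite G] in
theorem elW (h : CG φ F t O z σ ρ V L) : ∀ v ∈ V.map φ, v * v = 1 := by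
  rintro _ ⟨v, hv, rfl⟩
  rw [← map_mul, h.jf.el v hv, map_one]

omit [Finite G] in
theorem cardW (h : CG φ F t O z σ ρ V L) : Nat.card (V.map φ) = 8 := by
  rw [card_map_of_injective h.cx.inj, h.jf.cV]

theorem memK (h : CG φ F t O z σ ρ V L) {a : Γ} (ha : a ∈ N[V]) :
    φ a ∈ N[St1 (V.map φ) t] ⊓ F ⊓ C[O] :=
  ⟨⟨memN (le_normalizer_map φ (mem_map_of_mem φ ha)) (h.cx.AC a), h.AF ⟨a, rfl⟩⟩,
    fun _ ho => (h.cx.oA ho a).symm⟩

theorem glK (gl : GLStmt.{u}) (h : CG φ F t O z σ ρ V L)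
    (g : GA N[St1 (V.map φ) t] F O (V.map φ) t) :
    GLV (N[St1 (V.map φ) t] ⊓ F ⊓ C[O]) (V.map φ) := by
  refine ((gl G _ _ (elW h) (cardW h) g.gl.1).2 g.gl).2.1 _ inf_le_left
    (fun n hn => mem_normalizer_fintype fun k hk => ⟨Subgroup.mul_mem _ (Subgroup.mul_mem _ hn hk.1)
      (Subgroup.inv_mem _ hn), fun o ho => ?_⟩) fun c => ?_
  · have := hk.2 _ (normO h (inv_mem hn.1) ho)
    calc _ = n * (n⁻¹ * o * n⁻¹⁻¹ * k) * n⁻¹ := by group
      _ = _ := by rw [this]; group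
  · have h1 := h.jf.el _ (memV h (a := σ) (fun x => by simp) (c (memK h h.jf.sN)))
    have := orderOf_dvd_of_pow_eq_one ((pow_two σ).trans h1)
    rw [h.jf.so] at this
    omega

theorem invK (gl : GLStmt.{u}) (h : CG φ F t O z σ ρ V L)
    (g : GA N[St1 (V.map φ) t] F O (V.map φ) t) {j : G} (hj : j ∈ N[St1 (V.map φ) t] ⊓ F)
    (jj : j * j = 1) : j ∈ C[O] := by
  obtain ⟨k, hk, e⟩ := (glK gl h g).2 ((V.map φ).normalizerMonoidHom ⟨j, g.gl.1 hj⟩)
  obtain ⟨a, ha, o, ho, e1⟩ := dec h g (mul_mem (inv_mem hk.1) hj) fun w hw => by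
    have : k * w * k⁻¹ = j * w * j⁻¹ := e ⟨w, hw⟩
    calc _ = k⁻¹ * (k * w * k⁻¹) * j := by group
      _ = _ := by rw [this]; group
  have h1 : k * φ a ∈ C[O] := mul_mem hk.2 (memK h (le_normalizer ha)).2
  have h2 : j = k * φ a * o := by rw [mul_assoc, ← e1, mul_inv_cancel_left]
  generalize k * φ a = y at h1 h2
  have h3 : o * o ∈ C[O] := by
    rw [h2, mul_assoc, ← mul_assoc o, h1 o ho, mul_assoc, ← mul_assoc] at jj
    rw [← inv_eq_of_mul_eq_one_right jj]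
    exact inv_mem (mul_mem h1 h1)
  obtain ⟨m, hm⟩ := h.cx.odd_ord ho
  have h4 : o = (o * o) ^ (m + 1) := by
    rw [← pow_two, ← pow_mul, show 2 * (m + 1) = 2 * m + 1 + 1 by ring, pow_succ, ← hm,
      pow_orderOf_eq_one, one_mul]
  exact h2 ▸ mul_mem h1 (h4 ▸ pow_mem h3 _)

theorem hy (gl : GLStmt.{u}) (h : CG φ F t O z σ ρ V L)
    (g : GA N[St1 (V.map φ) t] F O (V.map φ) t) {e : B →* G} (hi : Function.Injective e)
    (he : e.range = V.map φ) : Hy (N[St1 (V.map φ) t] ⊓ F ⊓ C[O]) t e where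
  inj := hi
  ex τ h1 h2 := by
    let ε := (MonoidHom.ofInjective hi).trans (MulEquiv.subgroupCongr he)
    obtain ⟨y, hy, e1⟩ := g.gl.2 (MulAut.congr ε τ)
    have iy : Ind e y τ := fun b => (e1 (ε b)).trans (by simp; rfl)
    obtain ⟨j, hj, jj, j1⟩ := g.ex
    have hj' : j ∈ N[St1 (V.map φ) t] ⊓ F := ⟨hj, g.inv j hj jj j1⟩
    obtain ⟨m, hm, e2⟩ := ((gl G _ _ (elW h) (cardW h) g.gl.1).2 g.gl).2.2 j hj' y hy
      (jj ▸ one_mem _) (fun c => j1 (by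
        obtain ⟨a, ha, o, ho, rfl⟩ := dec h g hj' c
        obtain ⟨b, hb⟩ := h.cx.inv_mem h.jf.base (h.cx.mem_sup.2 ⟨a, o, ho, rfl⟩) jj
        have := (h.cx.o_of_mul h.jf.base (a := b⁻¹ * a) ho
          (by rw [map_mul, map_inv, hb, mul_assoc, inv_mul_cancel])).2
        rw [this, mul_one]
        exact mem_sup_left (mem_map_of_mem φ ha)))
      (he ▸ (iy.mul iy).cent fun b => DFunLike.congr_fun h1 b)
      fun c => h2 (MulEquiv.ext (Ind.eq hi iy (ind_of_cent (he ▸ c))))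
    have h3 := mul_mem (mul_mem hm hj') (inv_mem hm)
    refine ⟨_, ⟨h3, invK gl h g h3 (conj_sq jj m)⟩, conj_sq jj m, ?_⟩
    have := (ind_of_cent (he ▸ e2)).mul iy
    rwa [inv_mul_cancel_right] at this
  VK b := by
    obtain ⟨a, ha, e⟩ := he.le ⟨b, rfl⟩
    exact e ▸ memK h (le_normalizer ha)
  inv a ha b hb aa bb c := by
    rw [he] at c ⊢
    obtain ⟨v, hv, o, ho, e⟩ := dec h g (mul_mem ha.1 hb.1) c
    obtain ⟨w, -, e'⟩ := (mem_normalizer_iff.1 (h.gl.1 ha.1.1) _).1 (mem_map_of_mem φ hv)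
    have h1 : φ (w * v) * (o * o) = 1 := by
      have ai := inv_eq_of_mul_eq_one_right aa
      have h0 : φ w * o = b * a := by
        rw [e', mul_assoc, ai, ← ha.2 o ho, ← mul_assoc, mul_assoc a, ← e, ← mul_assoc, aa, one_mul]
      calc _ = φ w * (φ v * o) * o := by rw [map_mul]; group
        _ = φ w * o * (φ v * o) := by rw [h.cx.oA ho v]; simp only [mul_assoc]; rw [← h.cx.oA ho v]
        _ = 1 := by rw [h0, ← e, mul_assoc, ← mul_assoc a, aa, one_mul, bb]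
    rw [e, h.cx.o_sq ho (h.cx.o_of_mul h.jf.base (mul_mem ho ho) h1).2, mul_one]
    exact mem_map_of_mem φ hv
  tK k hk := by
    have h1 : t ∈ N[St1 (V.map φ) t] := le_normalizer (mem_sup_right (mem_zpowers t))
    have h2 : t ∈ C[O] := h.cx.Ot
    exact ⟨⟨Subgroup.mul_mem _ (Subgroup.mul_mem _ h1 hk.1.1) (Subgroup.inv_mem _ h1),
      h.as.normal.conj_mem _ hk.1.2 t⟩,
      Subgroup.mul_mem _ (Subgroup.mul_mem _ h2 hk.2) (Subgroup.inv_mem _ h2)⟩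
  tV := he ▸ centralizer_le (map_le_range φ V) h.cx.tC
  ct x hx h1 h2 := by
    rw [he] at h2 ⊢
    have := h.jf.base.fin
    obtain ⟨a, ha, -⟩ := split h h1
    have h3 : a ∈ N[V] := mem_normalizer_fintype fun v hv => (mem_map_iff_mem h.cx.inj).1 (by
      rw [← ha]
      exact (mem_normalizer_iff.1 (h.gl.1 hx.1.1) _).1 (mem_map_of_mem φ hv))
    have h4 : a * a ∈ V := memV h (fun y => by
      rw [show a * a * y * (a * a)⁻¹ = a * (a * y * a⁻¹) * a⁻¹ by group, ← ha, ← ha]; group) h2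
    have h5 : V.relIndex N[V] = 21 := by
      have := card_eq_card_mul_relIndex (le_normalizer (H := V))
      rw [h.jf.cN, h.jf.cV] at this
      omega
    have h6 : a ^ 21 ∈ V := h5 ▸ pow_index_mem (H := V.subgroupOf N[V]) ⟨a, h3⟩
    have h7 : a ∈ V := by
      rw [show 21 = 2 * 10 + 1 by norm_num, pow_succ, pow_mul, pow_two] at h6
      exact (mul_mem_cancel_left (pow_mem h4 10)).1 h6
    rintro _ ⟨v, hv, rfl⟩
    refine (mul_inv_eq_iff_eq_mul.1 ((ha v).trans (congrArg φ ?_))).symm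
    have := h.jf.el _ (mul_mem h7 hv)
    rw [inv_eq_of_mul_eq_one_right (h.jf.el a h7), ← mul_left_inj v, h.jf.el v hv, ← this, mul_assoc]

theorem card_le (gl : GLStmt.{u}) (h : CG φ F t O z σ ρ V L)
    (g : GA N[St1 (V.map φ) t] F O (V.map φ) t) {R : Subgroup G} (hR : IsPGroup 2 R)
    (le : R ≤ N[St1 (V.map φ) t] ⊓ F) : Nat.card R ≤ 64 := by
  have : Fact (Nat.Prime 2) := ⟨Nat.prime_two⟩
  have h1 := ((gl G _ _ (elW h) (cardW h) g.gl.1).2 g.gl).1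
  rw [inf_relIndex_left] at h1
  have : (C[V.map φ].subgroupOf (N[St1 (V.map φ) t] ⊓ F)).Normal :=
    normal_subgroupOf_of_le_normalizer (g.gl.1.trans (normalizer_le_normalizer_centralizer _))
  have h2 : C[V.map φ].relIndex R ∣ 168 := by
    rw [← h1, ← relIndex_subgroupOf le]
    exact relIndex_dvd_index_of_normal _ _
  obtain ⟨n, hn⟩ := hR.index (C[V.map φ].subgroupOf R)
  have h3 : C[V.map φ].relIndex R ≤ 8 := Nat.le_of_dvd (by norm_num)
    (Nat.Coprime.dvd_of_dvd_mul_right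
      (show (C[V.map φ].subgroupOf R).index.Coprime 21 from hn ▸ Nat.Coprime.pow_left _ (by norm_num))
      (show _ ∣ 8 * 21 from h2))
  have h4 : R ⊓ C[V.map φ] ≤ V.map φ := fun x hx => by
    obtain ⟨a, ha, o, ho, rfl⟩ := dec h g (le hx.1) hx.2
    obtain ⟨k, hk⟩ := hR ⟨_, hx.1⟩
    rw [h.cx.o_one_of h.jf.base ho (h.cx.oA ho a) (m := 0) ⟨a, by simp⟩ (congrArg Subtype.val hk),
      mul_one]
    exact mem_map_of_mem φ ha
  have h5 := card_le_of_le h4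
  rw [card_eq_card_mul_relIndex (inf_le_left : R ⊓ C[V.map φ] ≤ R), inf_relIndex_left]
  rw [cardW h] at h5
  exact Nat.mul_le_mul h5 h3

theorem jg3d (gl : GLStmt.{u}) : JG3dStmt.{u} := fun Γ _ G _ _ φ F t O z σ ρ V L h g => by
  have : Fact (Nat.Prime 2) := ⟨Nat.prime_two⟩
  have z1 : φ z ≠ 1 := fun c => h.jf.z1 (h.cx.inj (c.trans φ.map_one.symm))
  obtain ⟨e, hi, he, ez⟩ := exists_e (elW h) (cardW h) (mem_map_of_mem φ h.jf.zV) z1
  obtain ⟨s, Q1, Q2, q1, q2, h1, h2, ss, h3, h4, h5, h6, h7, h8⟩ := (hy gl h g hi he).core h.cx.tt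
  rw [ez] at h2 h8
  refine ⟨s, Q1, Q2, ⟨q1, q2, h1, h2, z1, ss, h3, h4, ?_⟩, h7, h8⟩
  obtain ⟨P, hP⟩ := exists_isSylowIn 2 N[St1 (V.map φ) t]
  have h9 := (hP.trans_of_not_dvd le_top (by
    rw [relIndex_top_right]; exact g.odd.not_two_dvd_nat)).inf_of_le_normalizer (N := F)
    (by have := h.as.normal; rw [normalizer_eq_top])
  rw [top_inf_eq] at h9
  have p2 : IsPGroup 2 (Q1 ⊔ Q2 ⊔ zpowers s : Subgroup G) :=
    (IsPGroup.of_card (n := 5) h6).to_sup_of_normal_left'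
      (IsPGroup.of_card_dvd_pow (n := 1) (by
        rw [Nat.card_zpowers]; exact orderOf_dvd_of_pow_eq_one ((pow_two s).trans ss)))
      (zpowers_le.2 h4)
  refine h9.of_card_ge p2 (h5.trans (inf_le_left.trans inf_le_right))
    ((card_le gl h g h9.isPGroup (inf_le_inf_right F hP.le)).trans ?_)
  rw [card_eq_card_mul_relIndex (le_sup_left : Q1 ⊔ Q2 ≤ Q1 ⊔ Q2 ⊔ zpowers s), h6]
  have a1 : (Q1 ⊔ Q2).relIndex (Q1 ⊔ Q2 ⊔ zpowers s) ≠ 1 := fun c =>
    h3 (relIndex_eq_one.1 c (mem_sup_right (mem_zpowers s)))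
  have a2 : (Q1 ⊔ Q2).relIndex (Q1 ⊔ Q2 ⊔ zpowers s) ≠ 0 := index_ne_zero_of_finite
  omega

end Cfsg.Agent.H3.S94Q
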