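import Cfsg.Agent.H3.Sm2

/-! An involution whose centralizer has cyclic Sylow subgroups of order four. -/

set_option autoImplicit false

namespace Cfsg.Agent.H3.Sm

open Subgroup Cfsg.Agent.H8
open scoped Pointwise commutatorElement

variable {G : Type*} [Group G]

/-- The hypothesis. -/
structure Hy (A S : Subgroup G) (t r z : G) : Prop where
  hA : ⁅A, A⁆ = A
  hS : IsSylowIn 2 S A
  tt : t * t = 1
  tA : t ∉ A
  nA : t ∈ normalizer (A : Set G)
  nS : t ∈ normalizer (S : Set G)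
  hr : r ∈ S
  tr : t * r * t⁻¹ = r
  rr : r * r = z
  z1 : z ≠ 1
  zz : z * z = 1
  cen : ∀ s ∈ S, t * s * t⁻¹ = s → s ∈ zpowers r
  zc : ∀ s ∈ S, s * z = z * s
  uniq : ∀ y ∈ A, ∀ y' ∈ A, t * y * t⁻¹ = y → t * y' * t⁻¹ = y' → y * y = 1 → y' * y' = 1 →
    y * y' = y' * y → y ≠ 1 → y' ≠ 1 → y = y'

namespace Hy

variable {A S : Subgroup G} {t r z : G} (h : Hy A S t r z)
include h

theorem hz : z ∈ S := h.rr ▸ mul_mem h.hr h.hr

theorem tz : t * z * t⁻¹ = z := by rw [← h.rr, ← conj_mul, h.tr]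

theorem cen' {s : G} (hs : s ∈ S) (e : t * s * t⁻¹ = s) : s = 1 ∨ s = z ∨ s = r ∨ s = z * r := by
  obtain ⟨_, ⟨k, rfl⟩, e⟩ := par (h.cen s hs e)
  rw [← (Commute.refl r).mul_zpow, h.rr] at e
  rcases zpow_two h.zz k with k | k <;> rw [k] at e <;> rcases e with e | e <;> simp [e]

theorem fix {s : G} (hs : s ∈ S) (ss : s * s = 1) (e : t * s * t⁻¹ = s) : s = 1 ∨ s = z := by
  rcases h.cen' hs e with e | e | e | e
  · exact Or.inl e
  · exact Or.inr e
  · exact absurd (by rw [← h.rr, ← e, ss]) h.z1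
  · refine absurd ?_ h.z1
    rwa [e, mul_assoc, ← mul_assoc r, h.zc r h.hr, mul_assoc, h.rr, h.zz, mul_one] at ss

theorem mT {x : G} : x ∈ S ⊔ zpowers t ↔ x ∈ S ∨ t * x ∈ S := msz h.nS (h.tt ▸ one_mem _)

theorem mX {x : G} : x ∈ A ⊔ zpowers t ↔ x ∈ A ∨ t * x ∈ A := msz h.nA (h.tt ▸ one_mem _)

theorem tm (x : G) : t * (t * x) = x := by rw [← mul_assoc, h.tt, one_mul]

theorem zT {x : G} (hx : x ∈ S ⊔ zpowers t) : x * z = z * x := by
  rcases h.mT.1 hx with e | e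
  · exact h.zc x e
  · rw [← h.tm x, mul_assoc, h.zc _ e, ← mul_assoc, mul_inv_eq_iff_eq_mul.1 h.tz, mul_assoc]

theorem nT : S ⊔ zpowers t ≤ normalizer (S : Set G) := sup_le le_normalizer (zpowers_le.2 h.nS)

theorem nX : A ⊔ zpowers t ≤ normalizer (A : Set G) := sup_le le_normalizer (zpowers_le.2 h.nA)

theorem sylT [Finite G] : IsSylowIn 2 (S ⊔ zpowers t) (A ⊔ zpowers t) :=
  syl_sup h.hS h.nA h.nS (h.tt ▸ one_mem _)

theorem nconj {s y : G} (hy : y ∈ S) (yy : y * y = 1) (y1 : y ≠ 1) (yz : y ≠ z)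
    (sy : s * y * s⁻¹ = y) (sz : s * z = z * s) {g : G} (hg : g ∈ A ⊔ zpowers t) :
    g * t * g⁻¹ ≠ s := by
  rintro rfl
  have k : ∀ x, g * t * g⁻¹ * x * (g * t * g⁻¹)⁻¹ = x → t * (g⁻¹ * x * g) * t⁻¹ = g⁻¹ * x * g :=
    fun x e => by nth_rw 2 [← e]; group
  have k2 : ∀ x : G, x * x = 1 → g⁻¹ * x * g * (g⁻¹ * x * g) = 1 := fun x e => by
    rw [show g⁻¹ * x * g * (g⁻¹ * x * g) = g⁻¹ * (x * x) * g by group, e]; simp
  have := h.uniq _ (cj' (h.nX hg) (h.hS.le hy)) _ (cj' (h.nX hg) (h.hS.le h.hz)) (k y sy)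
    (k z (mul_inv_eq_iff_eq_mul.2 sz)) (k2 y yy) (k2 z h.zz) (by
      rw [show g⁻¹ * y * g * (g⁻¹ * z * g) = g⁻¹ * (y * z) * g by group, h.zc y hy]; group)
    (fun e => y1 (by simpa [mul_assoc] using congrArg (fun x => g * x * g⁻¹) e))
    (fun e => h.z1 (by simpa [mul_assoc] using congrArg (fun x => g * x * g⁻¹) e))
  exact yz (by simpa using this)

section Max

variable [Finite G] {a v i : G} (m : Mx S a v z i)
include m

theorem sdt (rB : r ∉ zpowers a) (va : v * a * v⁻¹ = a⁻¹ * z) (ta : t * a * t⁻¹ = a⁻¹) :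
    False := by
  have ha := mem_zpowers a
  have tb := fun e (he : e ∈ zpowers a) => act_inv ta he
  have rv : ∀ e ∈ zpowers a, r * e * r⁻¹ = v * e * v⁻¹ := fun e he => by
    obtain ⟨b, hb, e1⟩ := (m.cases h.hr).resolve_left rB
    rw [e1, show v * b * e * (v * b)⁻¹ = v * (b * e * b⁻¹) * v⁻¹ by group, cB hb he,
      mul_inv_cancel_right]
  have ra : r * a * r⁻¹ = a⁻¹ * z := (rv a ha).trans va
  have ri : r * i * r⁻¹ = i⁻¹ := (rv i m.hi).trans m.vi
  have rz : r * z * r⁻¹ = z := by rw [h.zc r h.hr, mul_inv_cancel_right]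
  have rN := fun e (he : e ∈ zpowers a) => actN m.hz m.zz (Or.inr ra) he
  have cs : ∀ s ∈ S, s ∈ zpowers a ∨ ∃ b ∈ zpowers a, s = r * b := fun s hs => by
    obtain ⟨b, hb, e1⟩ := (m.cases h.hr).resolve_left rB
    refine (m.cases hs).imp_right fun ⟨c, hc, e⟩ => ⟨b⁻¹ * c, mul_mem (inv_mem hb) hc, ?_⟩
    rw [e, e1]; group
  have cr : ∀ b ∈ zpowers a, b * r = r * (r * b * r⁻¹) := fun b hb => by
    rw [← mul_assoc, ← mul_assoc, h.rr, cB m.hz hb, ← h.rr]; group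
  have iz : z * i⁻¹ = i := by rw [← m.ii]; group
  have tr' : t * r = r * t := mul_inv_eq_iff_eq_mul.1 h.tr
  have rout : ∀ b ∈ zpowers a, r * b ≠ 1 ∧ r * b ≠ z := fun b hb =>
    ⟨fun e => rB ((mul_mem_cancel_right hb).1 (e ▸ one_mem _)),
      fun e => rB ((mul_mem_cancel_right hb).1 (e ▸ m.hz))⟩
  have tT : t ∈ S ⊔ zpowers t := mem_sup_right (mem_zpowers t)
  have odd : ∀ e ∈ zpowers a, r * (e * e * a) * r⁻¹ = (e * e * a)⁻¹ * z := fun e he => by
    rw [← conj_mul, ← conj_mul, ra, cB (mul_mem he he) ha, mul_inv_rev a]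
    rcases rN e he with k | k <;> rw [k]
    · group
    · rw [mul_assoc e⁻¹ z, ← mul_assoc z, cB m.hz (inv_mem he), mul_assoc e⁻¹ z, m.zz]; group
  have nb : ∀ b ∈ zpowers a, r * b * r⁻¹ = b⁻¹ * z → ∀ g ∈ A ⊔ zpowers t,
      g * t * g⁻¹ ≠ t * b := fun b hb e g hg => by
    have hbi := mul_mem hb m.hi
    refine h.nconj (y := r * (b * i)) (mul_mem h.hr (m.le hbi)) ?_ (rout _ hbi).1 (rout _ hbi).2
      ?_ (h.zT (mul_mem tT (mem_sup_left (m.le hb)))) hg
    · calc r * (b * i) * (r * (b * i)) = r * b * r⁻¹ * (r * i * r⁻¹) * (r * r) * (b * i) := by group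
        _ = b⁻¹ * (z * i⁻¹ * z * b) * i := by rw [e, ri, h.rr]; group
        _ = 1 := by
          rw [iz, cB (mul_mem m.hi m.hz) hb, inv_mul_cancel_left, cB m.hi m.hz, mul_assoc, m.ii,
            m.zz]
    · calc t * b * (r * (b * i)) * (t * b)⁻¹ = t * (b * r * (b * i * b⁻¹)) * t⁻¹ := by group
        _ = t * r * t⁻¹ * (t * (b⁻¹ * z * i) * t⁻¹) := by
          rw [cB hb m.hi, mul_inv_cancel_right, cr b hb, e]; group
        _ = _ := by
          rw [h.tr, tb _ (mul_mem (mul_mem (inv_mem hb) m.hz) m.hi), mul_inv_rev, mul_inv_rev,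
            inv_inv, inv_self m.zz, ← mul_assoc i⁻¹, cB (inv_mem m.hi) m.hz, iz, cB m.hi hb]
  set s₀ := t * r * i with hs₀
  have s0 : ∀ e ∈ zpowers a, s₀ * e * s₀⁻¹ = t * (r * e * r⁻¹) * t⁻¹ := fun e he => by
    rw [show s₀ * e * s₀⁻¹ = t * (r * (i * e * i⁻¹) * r⁻¹) * t⁻¹ by rw [hs₀]; group, cB m.hi he,
      mul_inv_cancel_right]
  have sa : s₀ * a * s₀⁻¹ = a * z := by rw [s0 a ha, ra, ← conj_mul, h.tz, ← conj_inv, ta, inv_inv]
  have si : s₀ * i * s₀⁻¹ = i := by rw [s0 i m.hi, ri, ← conj_inv, tb i m.hi, inv_inv]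
  have sz : s₀ * z * s₀⁻¹ = z := by rw [s0 z m.hz, rz, h.tz]
  have sr : s₀ * r * s₀⁻¹ = r * z := by
    rw [show s₀ * r * s₀⁻¹ = t * (r * (i * r * i⁻¹) * r⁻¹) * t⁻¹ by rw [hs₀]; group, cr i m.hi, ri,
      mul_assoc r i⁻¹, ← mul_inv_rev, m.ii, inv_self m.zz, ← conj_mul (a := r), rz,
      mul_inv_cancel_right, ← conj_mul, h.tr, h.tz]
  let M := S ⊓ centralizer {s₀}
  have mM : ∀ x ∈ S, s₀ * x * s₀⁻¹ = x → x ∈ M := fun x hx e =>
    ⟨hx, mem_centralizer_singleton_iff.2 (mul_inv_eq_iff_eq_mul.1 e).symm⟩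
  have zM : z ∈ M := mM z h.hz sz
  have sqM : ∀ s ∈ S, s * s ∈ M := fun s hs => zpowers_le.2 (mM _ (mul_mem m.ha m.ha) (by
    rw [← conj_mul, sa, mul_assoc, ← mul_assoc z, cB m.hz ha, mul_assoc, m.zz, mul_one])) (m.sq hs)
  have tsq : ∀ b ∈ zpowers a, t * (r * b) * (t * (r * b)) = r * b⁻¹ * r⁻¹ * z * b :=
    fun b hb => by
      rw [← tb b hb, ← h.rr]
      nth_rw 3 [← h.tr]
      rw [inv_self h.tt]
      simp only [mul_assoc, h.tm, inv_mul_cancel_left]
  have outer : ∀ s ∈ S, t * s * (t * s) = 1 → s ∈ zpowers a ∨ s = r * i ∨ s = r * i * z := by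
    intro s hs e
    refine (cs s hs).imp_right ?_
    rintro ⟨b, hb, rfl⟩
    rw [tsq b hb] at e
    rcases rN _ (inv_mem hb) with k | k <;> rw [k, inv_inv] at e
    · rw [cB hb m.hz, mul_assoc, ← inv_self m.zz, inv_mul_eq_one] at e
      rcases m.four hb e.symm with e | e
      · exact Or.inl (by rw [e])
      · exact Or.inr (by
          rw [e, mul_assoc, cB m.hi m.hz]
          nth_rw 2 [← iz]
          rw [← mul_assoc z, m.zz, one_mul])
    · exfalso
      rw [mul_assoc b, m.zz, mul_one] at e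
      rcases m.uq b hb e with rfl | rfl
      · exact m.z1 (by simpa using k.symm)
      · rw [inv_self m.zz, rz, inv_self m.zz, m.zz] at k
        exact m.z1 k
  have cut : ∀ x ∈ A ⊔ zpowers t, x ∉ A → x * x = 1 → ∀ g ∈ A ⊔ zpowers t,
      g * x * g⁻¹ ∈ S ⊔ zpowers t → ∃ s ∈ S, g * x * g⁻¹ = t * s ∧
        (s ∈ zpowers a ∨ s = r * i ∨ s = r * i * z) := fun x _ xA xx g hg e => by
    have k := (h.mT.1 e).resolve_left fun k => xA (by
      simpa [mul_assoc] using cj' (h.nX hg) (h.hS.le k))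
    exact ⟨_, k, (h.tm _).symm, outer _ k (by rw [h.tm, conj_mul, xx]; simp)⟩
  have tX : t ∈ A ⊔ zpowers t := mem_sup_right (mem_zpowers t)
  have aA := h.hS.le m.ha
  have taa : t * a * (t * a) = 1 := by
    nth_rw 2 [← inv_self h.tt]
    rw [← mul_assoc, ta, inv_mul_cancel]
  have raa : r * a * (r * a) = 1 := by
    rw [show r * a * (r * a) = r * a * r⁻¹ * (r * r) * a by group, ra, h.rr, mul_assoc a⁻¹, m.zz]
    simp
  have sra : s₀ * (r * a) * s₀⁻¹ = r * a := by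
    rw [← conj_mul, sr, sa, cB ha m.hz, mul_assoc, ← mul_assoc z, m.zz, one_mul]
  have s0T : s₀ ∈ S ⊔ zpowers t :=
    mul_mem (mul_mem tT (mem_sup_left h.hr)) (mem_sup_left (m.le m.hi))
  have fin := tv (M := M) (x := t) (y := t * a) (c := t) (d := t * a) h.hA le_sup_left h.sylT
    (fun x hx y hy => comm_of_sq (fun p hp => ?_) hx hy) tX h.tt taa (by simpa using aA) tT
    (mul_mem tT (mem_sup_left m.ha)) (h.tt ▸ one_mem _) (taa ▸ one_mem _) (fun g hg e => ?_)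
    fun g hg e => ?_
  · rw [inv_mul_cancel_left] at fin
    rw [← mem_centralizer_singleton_iff.1 fin.2, mul_inv_cancel_right] at sa
    exact m.z1 (by simpa using sa)
  · rcases h.mT.1 hp with k | k
    · exact sqM p k
    · rw [← h.tm p]
      rcases cs _ k with k | ⟨b, hb, k⟩
      · nth_rw 3 [← inv_self h.tt]
        rw [← mul_assoc, tb _ k, inv_mul_cancel]
        exact one_mem _
      · rw [k, tsq b hb]
        rcases rN _ (inv_mem hb) with k | k <;> rw [k, inv_inv]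
        · rw [cB hb m.hz, mul_assoc]
          exact mul_mem zM (sqM b (m.le hb))
        · rw [mul_assoc b, m.zz, mul_one]
          exact sqM b (m.le hb)
  · obtain ⟨s, hs, e1, k | rfl | rfl⟩ := cut t tX h.tA h.tt g hg e
    · rw [e1, inv_mul_cancel_left]
      obtain ⟨e, he, rfl | rfl⟩ := par k
      · exact sqM e (m.le he)
      · exact absurd e1 (nb _ k (odd e he) g hg)
    · exact absurd (e1.trans (mul_assoc _ _ _).symm) (h.nconj (mul_mem h.hr m.ha) raa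
        (rout a ha).1 (rout a ha).2 sra (h.zT s0T) hg)
    · refine absurd (e1.trans (by rw [hs₀]; group : _ = s₀ * z)) (h.nconj (mul_mem h.hr m.ha) raa
        (rout a ha).1 (rout a ha).2 ?_ (h.zT (mul_mem s0T (mem_sup_left h.hz))) hg)
      rw [show s₀ * z * (r * a) * (s₀ * z)⁻¹ = s₀ * (z * (r * a) * z⁻¹) * s₀⁻¹ by group,
        ← h.zc _ (mul_mem h.hr m.ha), mul_inv_cancel_right, sra]
  · have key : s₀ * (a⁻¹ * (r * i)) * s₀⁻¹ = a⁻¹ * (r * i) := by
      rw [← conj_mul, ← conj_mul, ← conj_inv, sa, sr, si, mul_inv_rev, inv_self m.zz,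
        cB m.hz (inv_mem ha), h.zc r h.hr, mul_assoc, ← mul_assoc z, ← mul_assoc z, m.zz, one_mul]
    have kM := mM _ (mul_mem (inv_mem m.ha) (mul_mem h.hr (m.le m.hi))) key
    obtain ⟨s, hs, e1, k⟩ := cut (t * a) (mul_mem tX (mem_sup_left aA))
      (fun k => h.tA ((mul_mem_cancel_right aA).1 k)) taa g hg e
    rw [e1, show (t * a)⁻¹ * (t * s) = a⁻¹ * s by group]
    rcases k with k | rfl | rfl
    · obtain ⟨e, he, rfl | rfl⟩ := par k
      · exfalso
        refine nb a ha ra (g⁻¹ * e⁻¹) (mul_mem (inv_mem hg)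
          (mem_sup_left (h.hS.le (m.le (inv_mem he))))) ?_
        calc g⁻¹ * e⁻¹ * t * (g⁻¹ * e⁻¹)⁻¹ = g⁻¹ * (t * ((t * e⁻¹ * t⁻¹) * e)) * g := by
              rw [inv_self h.tt]; simp only [mul_assoc, h.tm]; group
          _ = _ := by rw [tb _ (inv_mem he), inv_inv, ← e1]; group
      · rw [cB (mul_mem he he) ha, inv_mul_cancel_left]
        exact sqM e (m.le he)
    · exact kM
    · rw [← mul_assoc]
      exact mul_mem kM zM

theorem maxc (ta : t * a * t⁻¹ ∈ zpowers a) : False := by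
  have hI : Inv A S a z t := ⟨h.tt, h.nA, h.nS, ta, fun s hs e1 e2 => h.fix hs e1 e2⟩
  rcases m.act h.hS hI with ⟨k, -⟩ | ⟨k, k1⟩
  · have k1 := h.cen _ (mul_mem m.hv m.ha) (m.fixi h.hA h.hS hI k).2
    refine m.out (mem_zpowers a) (zpowers_le.2 ?_ k1)
    rcases h.cen' (m.le m.hi) k with e | e | e | e
    · exact absurd (by rw [← m.ii, e, mul_one]) m.z1
    · exact absurd (by rw [← m.ii, e, m.zz]) m.z1
    · exact e ▸ m.hi
    · exact (mul_mem_cancel_left m.hz).1 (e ▸ m.hi)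
  have rB : r ∉ zpowers a := fun e => by
    have := h.tr
    rcases m.four e h.rr with e | e <;> rw [e] at this
    · exact m.i_ne (this.symm.trans k)
    · rw [← conj_inv, inv_inj] at this
      exact m.i_ne (this.symm.trans k)
  have va : v * a * v⁻¹ = a⁻¹ * z := m.va.resolve_left fun e => by
    obtain ⟨b, hb, e1⟩ := (m.cases h.hr).resolve_left rB
    have := h.rr
    rw [e1, m.out_sq, act_inv e hb, inv_mul_cancel] at this
    exact m.z1 this.symm
  rcases k1 with k1 | k1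
  · exact h.sdt m rB va k1
  · exact m.sdc h.hA h.hS hI va k1

end Max

end Hy

end Cfsg.Agent.H3.Sm
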