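import Cfsg.Agent.H3.Sm3

/-! An involution whose centralizer has cyclic Sylow subgroups of order four, II. -/

set_option autoImplicit false

namespace Cfsg.Agent.H3.Sm

open Subgroup Cfsg.Agent.H8
open scoped Pointwise commutatorElement

variable {G : Type*} [Group G]

/-- `t * t ^ n` -/
def dl (t n : G) : G := t * (n⁻¹ * t * n)

theorem gen_odd [Finite G] {b e : G} (hB : IsPGroup 2 (zpowers b)) (he : e ∈ zpowers b) :
    b ∈ zpowers (e * e * b) := by
  obtain ⟨l, rfl⟩ := (mem_powers_iff_mem_zpowers).2 he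
  obtain ⟨n, hn⟩ := hB ⟨b, mem_zpowers b⟩
  have h1 : orderOf b ∣ 2 ^ n := orderOf_dvd_of_pow_eq_one (congrArg Subtype.val hn)
  obtain ⟨k, hk⟩ := exists_pow_eq_self_of_coprime (x := b) (n := l + l + 1)
    (Nat.Coprime.coprime_dvd_right h1 (Nat.Coprime.pow_right _ (Nat.coprime_two_right.2 ⟨l, by ring⟩)))
  refine ⟨k, ?_⟩
  simpa only [zpow_natCast, pow_succ, pow_add, pow_zero, one_mul] using hk

theorem zin {B : Subgroup G} (hB : IsPGroup 2 B) {z x : G}
    (hu : ∀ b ∈ B, b * b = 1 → b = 1 ∨ b = z) (hx : x ∈ B) (x1 : x ≠ 1) : ∃ k : ℕ, x ^ k = z := by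
  obtain ⟨n, hn⟩ := hB ⟨x, hx⟩
  replace hn : x ^ 2 ^ n = 1 := congrArg Subtype.val hn
  induction n generalizing x with
  | zero => exact absurd (by simpa using hn) x1
  | succ n ih =>
    by_cases e : x * x = 1
    · exact ⟨1, by rw [pow_one]; exact (hu x hx e).resolve_left x1⟩
    · obtain ⟨k, hk⟩ := ih (mul_mem hx hx) e (by rwa [← sq, ← pow_mul, ← pow_succ'])
      exact ⟨2 * k, by rwa [pow_mul, sq]⟩

/-- The case of an invariant four-group. -/
structure Hb (A S B : Subgroup G) (t r z w : G) : Prop extends Hy A S t r z where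
  hw : w ∈ B
  zB : z ∈ B
  ww : w * w = 1
  w1 : w ≠ 1
  wz : w ≠ z
  wT : ∀ x ∈ S ⊔ zpowers t, x * w * x⁻¹ = w ∨ x * w * x⁻¹ = w * z
  le : B ≤ S
  cm : ∀ a ∈ B, ∀ b ∈ B, a * b = b * a
  nB : S ⊔ zpowers t ≤ normalizer (B : Set G)
  sc : ∀ s ∈ S, (∀ b ∈ B, s * b = b * s) → s ∈ B

namespace Hb

variable {A S B : Subgroup G} {t r z w : G} (h : Hb A S B t r z w)
include h

theorem tB : t ∈ normalizer (B : Set G) := h.nB (mem_sup_right (mem_zpowers t))

theorem sB {s : G} (hs : s ∈ S) : s ∈ normalizer (B : Set G) := h.nB (mem_sup_left hs)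

theorem tw : t * w * t⁻¹ = w * z := (h.wT t (mem_sup_right (mem_zpowers t))).resolve_left fun e =>
  (h.fix (h.le h.hw) h.ww e).elim h.w1 h.wz

theorem wzz : w * z * z = w := by rw [mul_assoc, h.zz, mul_one]

theorem twz : t * (w * z) * t⁻¹ = w := by rw [← conj_mul, h.tw, h.tz, h.wzz]

theorem wne : w ≠ w * z := fun e => h.z1 (by simpa using e)

theorem tt' (x : G) : t * (t * x * t⁻¹) * t⁻¹ = x := by
  rw [show t * (t * x * t⁻¹) * t⁻¹ = t * t * x * (t * t)⁻¹ by group, h.tt]; simp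

theorem inv {e : G} (he : e ∈ B) (ee : e * e = 1) : e = 1 ∨ e = z ∨ e = w ∨ e = w * z := by
  have he' := cj h.tB he
  have k := h.fix (h.le (mul_mem he he')) (by
    rw [mul_assoc, ← mul_assoc _ e, h.cm _ he' _ he, mul_assoc, ← mul_assoc, ee, one_mul, conj_mul,
      ee]; simp) (by rw [← conj_mul, h.tt', h.cm _ he' _ he])
  rcases k with k | k
  · rw [← inv_eq_iff_mul_eq_one, inv_self ee] at k
    exact (h.fix (h.le he) ee k.symm).imp_right Or.inl
  · rw [← eq_inv_mul_iff_mul_eq, inv_self ee] at k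
    have := h.fix (h.le (mul_mem he h.hw)) (by
      rw [mul_assoc, ← mul_assoc w, h.cm _ h.hw _ he, mul_assoc, h.ww, mul_one, ee]) (by
      rw [← conj_mul, k, h.tw, mul_assoc, ← mul_assoc z, h.cm _ h.zB _ h.hw, h.wzz])
    rcases this with e1 | e1
    · exact Or.inr (Or.inr (Or.inl (by rw [eq_inv_of_mul_eq_one_left e1, inv_self h.ww])))
    · exact Or.inr (Or.inr (Or.inr (by
        rw [eq_mul_inv_of_mul_eq e1, inv_self h.ww, h.cm _ h.zB _ h.hw])))

theorem dl_mul (n m : G) : dl t (n * m) = dl t m * (m⁻¹ * dl t n * m) := by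
  unfold dl
  rw [show t * (m⁻¹ * t * m) * (m⁻¹ * (t * (n⁻¹ * t * n)) * m) =
    t * (m⁻¹ * (t * t) * (n⁻¹ * t * n) * m) by group, h.tt]
  group

theorem dl_inv (n : G) : t * dl t n * t⁻¹ = (dl t n)⁻¹ := by
  unfold dl
  rw [h.tm]
  nth_rw 1 [← inv_self h.tt]
  group

omit h in
theorem dl_eq {n m : G} (e : dl t n = dl t m) : t * (n * m⁻¹) * t⁻¹ = n * m⁻¹ := by
  have : n⁻¹ * t * n = m⁻¹ * t * m := mul_left_cancel e
  calc t * (n * m⁻¹) * t⁻¹ = n * (n⁻¹ * t * n) * m⁻¹ * t⁻¹ := by group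
    _ = _ := by rw [this]; group

theorem dl_of_inv {e : G} (he : t * e * t⁻¹ = e⁻¹) : dl t e = e * e := by
  have : t * e⁻¹ * t⁻¹ = e := by rw [← conj_inv, he, inv_inv]
  unfold dl
  nth_rw 2 [← inv_self h.tt]
  nth_rw 3 [← this]
  group

variable [Finite G]

theorem small (hW : ∀ b ∈ B, b = 1 ∨ b = z ∨ b = w ∨ b = w * z) : False := by
  have zr : z ∈ zpowers r := h.rr ▸ mul_mem (mem_zpowers r) (mem_zpowers r)
  have fr : ∀ b ∈ zpowers r, t * b * t⁻¹ = b := fun b hb => act_fix h.tr hb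
  have cw : ∀ s ∈ S, s * w * s⁻¹ = w → s ∈ B := fun s hs e => h.sc s hs fun b hb => by
    have e' := mul_inv_eq_iff_eq_mul.1 e
    rcases hW b hb with k | k | k | k <;> rw [k]
    · simp
    · exact h.zc s hs
    · exact e'
    · rw [← mul_assoc, e', mul_assoc, h.zc s hs, mul_assoc]
  have rw' : r * w * r⁻¹ = w * z := (h.wT r (mem_sup_left h.hr)).resolve_left fun e => by
    have := h.rr
    refine h.z1 ?_
    rcases hW r (cw r h.hr e) with k | k | k | k <;> rw [k] at this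
    · simpa using this.symm
    · rw [← this, h.zz]
    · rw [← this, h.ww]
    · rw [← this, mul_assoc, ← mul_assoc z, h.cm _ h.zB _ h.hw, h.wzz, h.ww]
  have wr : w * r * w⁻¹ = r⁻¹ := by
    rw [inv_self h.ww, eq_inv_iff_mul_eq_one,
      show w * r * w * r = w * (r * w * r⁻¹) * (r * r) by group, rw', h.rr, mul_assoc, h.wzz, h.ww]
  have cb : ∀ b ∈ B, b ∈ zpowers r ∨ w * b ∈ zpowers r := fun b hb => by
    rcases hW b hb with k | k | k | k <;> rw [k]
    · exact Or.inl (one_mem _)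
    · exact Or.inl zr
    · exact Or.inr (h.ww ▸ one_mem _)
    · exact Or.inr (by rwa [← mul_assoc, h.ww, one_mul])
  have m : Mx S r w z r := ⟨h.hr, h.le h.hw, h.ww, fun e => h.wne ((fr w e).symm.trans h.tw),
    fun s hs => ?_, mem_zpowers r, h.rr, h.z1, h.zz,
    fun b hb e => h.fix (zpowers_le.2 h.hr hb) e (fr b hb), wr, Or.inl wr⟩
  · refine m.kill h.hA h.hS (c := t * r) (mul_mem h.nA (le_normalizer (h.hS.le h.hr))) ?_ ?_ ?_
    · rw [← h.rr]
      nth_rw 3 [← h.tr]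
      rw [inv_self h.tt]; group
    · rw [show t * r * r * (t * r)⁻¹ = t * r * t⁻¹ by group, h.tr]
    · rw [show t * r * w * (t * r)⁻¹ = t * (r * w * r⁻¹) * t⁻¹ by group, rw', h.twz]
  · rcases h.wT s (mem_sup_left hs) with e | e
    · exact cb s (cw s hs e)
    · refine (cb _ (cw (r * s) (mul_mem h.hr hs) ?_)).imp
        (mul_mem_cancel_left (mem_zpowers r)).1 fun k => ?_
      · rw [show r * s * w * (r * s)⁻¹ = r * (s * w * s⁻¹) * r⁻¹ by group, e, ← conj_mul, rw',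
          h.zc r h.hr, mul_inv_cancel_right, h.wzz]
      · have := mul_mem (mem_zpowers r) k
        rwa [show r * (w * (r * s)) = r * (w * r * w⁻¹) * (w * s) by group, wr, mul_inv_cancel,
          one_mul] at this

theorem rB : r ∈ B := by
  have nz : w ∈ normalizer (zpowers z : Set G) := nrm_of (T := zpowers w) (fun x hx b hb => by
    rwa [act_fix (mul_inv_eq_iff_eq_mul.2 (h.cm _ (zpowers_le.2 h.hw hx) _ h.zB)) hb])
    (mem_zpowers w)
  have mz : ∀ x ∈ zpowers z, x = 1 ∨ x = z := by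
    rintro _ ⟨k, rfl⟩; exact zpow_two h.zz k
  have mW : ∀ x ∈ zpowers z ⊔ zpowers w, x = 1 ∨ x = z ∨ x = w ∨ x = w * z := fun x hx => by
    rcases (msz nz (h.ww ▸ one_mem _)).1 hx with k | k
    · exact (mz x k).imp_right Or.inl
    · rcases mz _ k with k | k
      · exact Or.inr (Or.inr (Or.inl (by rw [eq_inv_of_mul_eq_one_right k, inv_self h.ww])))
      · exact Or.inr (Or.inr (Or.inr (by rw [← k, ← mul_assoc, h.ww, one_mul])))
  have zW : z ∈ zpowers z ⊔ zpowers w := mem_sup_left (mem_zpowers z)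
  have wW : w ∈ zpowers z ⊔ zpowers w := mem_sup_right (mem_zpowers w)
  obtain ⟨y, hy, yW, k⟩ := gr (K := zpowers z ⊔ zpowers w) (L := B) (h.hS.isPGroup.to_le h.le)
    (sup_le (zpowers_le.2 h.zB) (zpowers_le.2 h.hw)) h.tt (fun e => h.tA (h.hS.le (h.le e)))
    (nrm_of (T := zpowers t) (fun x hx b hb => by
      obtain ⟨k, rfl⟩ := mem_zpowers_iff.1 hx
      rcases zpow_two h.tt k with e | e <;> rw [e]
      · simpa using hb
      · rcases mW b hb with k | k | k | k <;> rw [k]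
        · simp
        · rwa [h.tz]
        · rw [h.tw]; exact mul_mem wW zW
        · rwa [h.twz]) (mem_zpowers t)) h.tB fun e => h.small fun b hb => mW b (e hb)
  have fin : ∀ y ∈ B, y ∉ zpowers z ⊔ zpowers w → t * y * t⁻¹ = y → r ∈ B := fun y hy yW e => by
    rcases h.cen' (h.le hy) e with k | k | k | k
    · exact absurd (k ▸ one_mem _) yW
    · exact absurd (k ▸ zW) yW
    · exact k ▸ hy
    · exact (mul_mem_cancel_left h.zB).1 (k ▸ hy)
  have k1 := h.dl_inv y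
  have dw : dl t w = z := by
    unfold dl
    nth_rw 2 [← inv_self h.tt]
    rw [inv_self h.ww, ← mul_assoc, ← mul_assoc, h.tw, h.cm _ h.hw _ h.zB, mul_assoc, h.ww, mul_one]
  rcases mW _ k with e | e | e | e <;> change dl t y = _ at e
  · exact fin y hy yW (by
      simpa using dl_eq (t := t) (n := y) (m := 1) (by rw [e]; simp [dl, h.tt]))
  · exact fin _ (mul_mem hy (inv_mem h.hw)) (fun k => yW ((mul_mem_cancel_right (inv_mem wW)).1 k))
      (dl_eq (e.trans dw.symm))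
  · rw [e, h.tw, inv_self h.ww] at k1
    exact absurd k1.symm h.wne
  · rw [e, h.twz, mul_inv_rev, inv_self h.ww, inv_self h.zz, h.cm _ h.zB _ h.hw] at k1
    exact absurd k1 h.wne

theorem cenB {s : G} (hs : s ∈ S) (e : t * s * t⁻¹ = s) : s ∈ B := zpowers_le.2 h.rB (h.cen s hs e)

theorem abel (hB : S ≤ B) : False := by
  classical
  obtain ⟨k, hk⟩ := h.hS.isPGroup.exists_card_eq
  have ex : ∃ k, ∀ s ∈ S, s ^ 2 ^ k = 1 := ⟨k, fun s hs => by
    rw [← hk]; exact congrArg Subtype.val (pow_card_eq_one' (x := (⟨s, hs⟩ : S)))⟩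
  have h1 := Nat.find_spec ex
  have h2 : 2 ≤ Nat.find ex := by
    by_contra e
    have := h1 r h.hr
    refine h.z1 ?_
    rw [← h.rr]
    rcases (show Nat.find ex = 0 ∨ Nat.find ex = 1 by omega) with e | e <;> rw [e] at this
    · rw [show r = 1 by simpa using this, mul_one]
    · simpa [sq] using this
  obtain ⟨n, hn⟩ : ∃ n, Nat.find ex = n + 1 := ⟨Nat.find ex - 1, by omega⟩
  have h3 := Nat.find_min ex (m := n) (by omega)
  push Not at h3
  obtain ⟨c, hc, c1⟩ := h3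
  rw [hn] at h1 h2
  have sq : ∀ s ∈ S, s ^ 2 ^ n * s ^ 2 ^ n = 1 := fun s hs => by
    rw [← pow_add, ← two_mul, ← pow_succ', h1 s hs]
  by_cases H : ∀ p ∈ S, p ^ 2 ^ n ≠ 1 → p ^ 2 ^ n = z
  · have := tk (M := zpowers z) h.hA h.hS (fun a ha b hb => by
      rw [h.cm a (hB ha) b (hB hb)]; simp) (h.le h.hw) h.ww fun g hg e => by
        rcases h.inv (hB e) (by rw [conj_mul, h.ww]; simp) with k | k | k | k
        · exact absurd (by simpa using k) h.w1
        · exact absurd k (nc h.hS h.zc h.z1 h.zz (fun p hp _ => H p hp) hc (H c hc c1)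
            (h.cm _ (hB hc) _ h.hw) h.wz hg)
        · rw [k]; simp
        · rw [k]; simp
    obtain ⟨k, hk⟩ := mem_zpowers_iff.1 this
    rcases zpow_two h.zz k with e | e
    · exact h.w1 (hk.symm.trans e)
    · exact h.wz (hk.symm.trans e)
  push Not at H
  obtain ⟨p, hp, p1, pz⟩ := H
  obtain ⟨p, hp, e⟩ : ∃ p ∈ S, p ^ 2 ^ n = w := by
    rcases h.inv (pow_mem (hB hp) _) (sq p hp) with k | k | k | k
    · exact absurd k p1
    · exact absurd k pz
    · exact ⟨p, hp, k⟩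
    · exact ⟨_, cj h.nS hp, by rw [conj_pow, k, h.twz]⟩
  have hq := cj h.nS hp
  have e' : (t * p * t⁻¹) ^ 2 ^ n = w * z := by rw [conj_pow, e, h.tw]
  refine hom (z := ⟨z, h.hz⟩) (u := ⟨w, h.le h.hw⟩) (n := n) h.hA h.hS
    ⟨fun e => h.z1 (congrArg Subtype.val e), fun e => h.w1 (congrArg Subtype.val e),
      fun e => h.wz (congrArg Subtype.val e).symm, Subtype.ext h.zz, Subtype.ext h.ww,
      Subtype.ext (h.cm _ h.zB _ h.hw), fun x hx => ?_⟩ (by omega)
    ⟨fun x y => Subtype.ext (h.cm _ (hB x.2) _ (hB y.2)), fun x => Subtype.ext (h1 x x.2),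
      fun x hx => ?_⟩
  · have := h.inv (hB x.2) (congrArg Subtype.val hx)
    rw [h.cm _ h.hw _ h.zB] at this
    simpa only [Subtype.ext_iff, Subgroup.coe_mul, OneMemClass.coe_one] using this
  · rcases h.inv (hB x.2) (congrArg Subtype.val hx) with k | k | k | k
    · exact ⟨1, Subtype.ext (by simp [k])⟩
    · refine ⟨⟨p * (t * p * t⁻¹), mul_mem hp hq⟩, Subtype.ext ?_⟩
      change (p * (t * p * t⁻¹)) ^ 2 ^ n = x
      rw [(show Commute p (t * p * t⁻¹) from h.cm _ (hB hp) _ (hB hq)).mul_pow, e, e', k,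
        ← mul_assoc, h.ww, one_mul]
    · exact ⟨⟨p, hp⟩, Subtype.ext (e.trans k.symm)⟩
    · exact ⟨⟨_, hq⟩, Subtype.ext (e'.trans k.symm)⟩

theorem exists_b : ∃ b, ∀ e, e ∈ zpowers b ↔ e ∈ B ∧ t * e * t⁻¹ = e⁻¹ := by
  let I : Subgroup G :=
    { carrier := {e | e ∈ B ∧ t * e * t⁻¹ = e⁻¹}
      one_mem' := ⟨B.one_mem, by simp⟩
      mul_mem' := fun {a b} ha hb => ⟨B.mul_mem ha.1 hb.1, by
        rw [← conj_mul, ha.2, hb.2, h.cm a ha.1 b hb.1, mul_inv_rev]⟩
      inv_mem' := fun {a} ha => ⟨B.inv_mem ha.1, by rw [← conj_inv, ha.2]⟩ }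
  obtain ⟨b, hb⟩ := cyc (B := I) (h.hS.isPGroup.to_le fun e he => h.le he.1)
    (fun a ha b hb => h.cm a ha.1 b hb.1) h.zz fun e he ee =>
      h.fix (h.le he.1) ee (he.2.trans (inv_self ee))
  exact ⟨b, fun e => by rw [← hb]; rfl⟩

end Hb

end Cfsg.Agent.H3.Sm
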