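import Cfsg.Agent.H3.Sm4

/-! An involution whose centralizer has cyclic Sylow subgroups of order four, III. -/

set_option autoImplicit false

namespace Cfsg.Agent.H3.Sm

open Subgroup Cfsg.Agent.H8
open scoped Pointwise commutatorElement

variable {G : Type*} [Group G]

/-- The non-abelian case. -/
structure Hc (A S B : Subgroup G) (t r z w b : G) : Prop extends Hb A S B t r z w where
  hb : ∀ e, e ∈ zpowers b ↔ e ∈ B ∧ t * e * t⁻¹ = e⁻¹
  nle : ¬ S ≤ B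

namespace Hc

variable {A S B : Subgroup G} {t r z w b : G} (h : Hc A S B t r z w b)
include h

theorem IB {e : G} (he : e ∈ zpowers b) : e ∈ B := ((h.hb e).1 he).1

theorem tI {e : G} (he : e ∈ zpowers b) : t * e * t⁻¹ = e⁻¹ := ((h.hb e).1 he).2

theorem zI : z ∈ zpowers b := (h.hb z).2 ⟨h.zB, h.tz.trans (inv_self h.zz).symm⟩

theorem wI : w ∉ zpowers b := fun e => h.wne ((inv_self h.ww).symm.trans
  ((h.tI e).symm.trans h.tw))

theorem dI {n : G} (hn : dl t n ∈ B) : dl t n ∈ zpowers b := (h.hb _).2 ⟨hn, h.dl_inv n⟩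

theorem I2 : IsPGroup 2 (zpowers b) := h.hS.isPGroup.to_le fun _ e => h.le (h.IB e)

theorem uI (e : G) (he : e ∈ zpowers b) (ee : e * e = 1) : e = 1 ∨ e = z :=
  h.fix (h.le (h.IB he)) ee ((h.tI he).trans (inv_self ee))

theorem nsq {e f : G} (he : e ∈ zpowers b) (hf : f ∈ zpowers b) : e * e ≠ f * f * b := fun k => by
  obtain ⟨l, hl⟩ := mem_zpowers_iff.1 (mul_mem hf (inv_mem he))
  have : b = 1 := odd_pow h.I2 (mem_zpowers b) (k := l) (by
    rw [show 2 * l + 1 = l + l + 1 by ring, zpow_add_one, zpow_add, hl,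
      show f * e⁻¹ * (f * e⁻¹) * b = f * (e⁻¹ * f) * (e⁻¹ * b) by group, cB (inv_mem he) hf,
      show f * (f * e⁻¹) * (e⁻¹ * b) = f * f * ((e * e)⁻¹ * b) by group,
      cB (inv_mem (mul_mem he he)) (mem_zpowers b), ← mul_assoc, ← k, mul_inv_cancel])
  have hz := h.zI
  rw [this, zpowers_one_eq_bot, mem_bot] at hz
  exact h.z1 hz

theorem tn (n : G) : t * n * t⁻¹ = n * (dl t n)⁻¹ := by
  unfold dl
  nth_rw 1 [← inv_self h.tt]
  group

theorem dB {β : G} (hβ : β ∈ B) : dl t β ∈ B := by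
  have := mul_mem (inv_mem (cj h.tB hβ)) hβ
  rwa [h.tn, mul_inv_rev, inv_inv, inv_mul_cancel_right] at this

variable [Finite G]

theorem odd {n : G} (hn : n ∈ S) (nB : n ∉ B) (hd : dl t n ∈ B) :
    ∃ e ∈ zpowers b, dl t n = e * e * b := by
  obtain ⟨e, he, k | k⟩ := par (h.dI hd)
  · rw [← h.dl_of_inv (h.tI he)] at k
    exact absurd ((mul_mem_cancel_right (inv_mem (h.IB he))).1
      (h.cenB (mul_mem hn (inv_mem (h.le (h.IB he)))) (Hb.dl_eq k))) nB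
  · exact ⟨e, he, k⟩

theorem even {β : G} (hβ : β ∈ B) : ∃ e ∈ zpowers b, dl t β = e * e := by
  obtain ⟨y, hy, yB, k⟩ := gr h.hS.isPGroup h.le h.tt (fun e => h.tA (h.hS.le e)) h.tB h.nS h.nle
  change dl t y ∈ B at k
  obtain ⟨f, hf, k1⟩ := h.odd hy yB k
  obtain ⟨e, he, k2 | k2⟩ := par (h.dI (h.dB hβ))
  · exact ⟨e, he, k2⟩
  have k3 : dl t (y * β) = dl t β * dl t y := by
    rw [h.dl_mul, mul_assoc β⁻¹, h.cm _ k _ hβ, inv_mul_cancel_left]
  obtain ⟨g, hg, k4⟩ := h.odd (mul_mem hy (h.le hβ)) (fun e => yB ((mul_mem_cancel_right hβ).1 e))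
    (k3 ▸ mul_mem (h.dB hβ) k)
  refine absurd ?_ (h.nsq (mul_mem (mul_mem he hf) (mem_zpowers b)) hg)
  rw [← k4, k3, k1, k2]
  obtain ⟨l, rfl⟩ := he
  obtain ⟨m, rfl⟩ := hf
  group

theorem exi : ∃ i ∈ zpowers b, i * i = z := by
  obtain ⟨e, he, k⟩ := h.even h.hw
  refine ⟨e, he, k.symm.trans ?_⟩
  unfold dl
  nth_rw 2 [← inv_self h.tt]
  rw [inv_self h.ww, ← mul_assoc, ← mul_assoc, h.tw, h.cm _ h.hw _ h.zB, mul_assoc, h.ww, mul_one]

theorem dec {β : G} (hβ : β ∈ B) : β ∈ zpowers b ∨ w * β ∈ zpowers b := by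
  have wr : w * r ∈ zpowers b := (h.hb _).2 ⟨mul_mem h.hw h.rB, by
    rw [← conj_mul, h.tw, h.tr, eq_inv_iff_mul_eq_one, mul_assoc w, h.cm _ h.hw _
      (mul_mem h.zB h.rB), mul_assoc, ← mul_assoc w, h.ww, one_mul, mul_assoc, h.rr, h.zz]⟩
  obtain ⟨e, he, k⟩ := h.even hβ
  rw [← h.dl_of_inv (h.tI he)] at k
  rw [← mul_mem_cancel_right (inv_mem he), ← mul_mem_cancel_right (inv_mem he) (y := w * β),
    mul_assoc w]
  rcases h.cen' (h.le (mul_mem hβ (inv_mem (h.IB he)))) (Hb.dl_eq k) with k | k | k | k <;> rw [k]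
  · exact Or.inl (one_mem _)
  · exact Or.inl h.zI
  · exact Or.inr wr
  · exact Or.inr (by rw [← h.cm _ h.rB _ h.zB, ← mul_assoc]; exact mul_mem wr h.zI)

theorem dec' {β : G} (hβ : β ∈ B) : β ∈ zpowers b ∨ ∃ e ∈ zpowers b, β = w * e :=
  (h.dec hβ).imp_right fun k => ⟨_, k, by rw [← mul_assoc, h.ww, one_mul]⟩

theorem dS {s : G} (hs : s ∈ S) : dl t s ∈ B := by
  let N : Subgroup G :=
    { carrier := {n | n ∈ S ∧ dl t n ∈ B}
      one_mem' := ⟨S.one_mem, h.dB B.one_mem⟩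
      mul_mem' := fun {n m} hn hm => ⟨S.mul_mem hn.1 hm.1, by
        rw [h.dl_mul]; exact mul_mem hm.2 (cj' (h.sB hm.1) hn.2)⟩
      inv_mem' := fun {n} hn => ⟨S.inv_mem hn.1, by
        have := h.dB B.one_mem
        rw [← mul_inv_cancel n, h.dl_mul] at this
        exact (mul_mem_cancel_right (cj' (h.sB (inv_mem hn.1)) hn.2)).1 this⟩ }
  by_contra hh
  obtain ⟨x, hx, xN, hn, k⟩ := gr (K := N) h.hS.isPGroup (fun n hn => hn.1) h.tt
    (fun e => h.tA (h.hS.le e)) (nrm_of (T := zpowers t) (fun x hx n hn => by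
      obtain ⟨k, rfl⟩ := mem_zpowers_iff.1 hx
      rcases zpow_two h.tt k with e | e <;> rw [e]
      · simpa using hn
      · exact ⟨cj h.nS hn.1, by
          rw [show dl t (t * n * t⁻¹) = t * dl t n * t⁻¹ by unfold dl; group]
          exact cj h.tB hn.2⟩) (mem_zpowers t)) h.nS fun e => hh (e hs).2
  change dl t x ∈ S at hn
  change dl t (dl t x) ∈ B at k
  have nB : dl t x ∉ B := fun e => xN ⟨hx, e⟩
  obtain ⟨e, he, k1⟩ := h.odd hn nB k
  rw [h.dl_of_inv (h.dl_inv x)] at k1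
  have k2 : dl t x * b * (dl t x)⁻¹ = b := act_fix (by rw [← k1]; group) (gen_odd h.I2 he)
  have k3 : dl t x * w * (dl t x)⁻¹ = w * z := (h.wT _ (mem_sup_left hn)).resolve_left fun e =>
    nB (h.sc _ hn fun β hβ => mul_inv_eq_iff_eq_mul.1 (by
      rcases h.dec' hβ with k | ⟨f, hf, rfl⟩
      · exact act_fix k2 k
      · rw [← conj_mul, e, act_fix k2 hf]))
  have k4 : t * (x * w * x⁻¹) * t⁻¹ = x * w * x⁻¹ := by
    have := h.twz
    rw [← k3] at this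
    nth_rw 2 [← this]
    unfold dl
    simp only [← mul_assoc, h.tt, one_mul, mul_inv_rev, inv_inv, inv_self h.tt]
    simp only [mul_assoc, h.tt, mul_one, mul_inv_cancel, one_mul]
  rcases h.wT x (mem_sup_left hx) with e | e <;> rw [e] at k4
  · exact h.wne (k4.symm.trans h.tw)
  · exact h.wne (h.twz.symm.trans k4)

theorem cov {s u : G} (hs : s ∈ S) (hu : u ∈ S) (sB : s ∉ B) (uB : u ∉ B) : s⁻¹ * u ∈ B := by
  obtain ⟨e, he, k1⟩ := h.odd hs sB (h.dS hs)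
  obtain ⟨f, hf, k2⟩ := h.odd hu uB (h.dS hu)
  have hβ := mul_mem (inv_mem hf) he
  have k3 : dl t (u * (f⁻¹ * e)) = dl t s := by
    rw [h.dl_mul, h.dl_of_inv (h.tI hβ), k1, k2]
    obtain ⟨l, rfl⟩ := he
    obtain ⟨m, rfl⟩ := hf
    group
  have := cj' (h.sB hs) (h.cenB (mul_mem (mul_mem hu (h.le (h.IB hβ))) (inv_mem hs)) (Hb.dl_eq k3))
  rw [mul_assoc, inv_mul_cancel_right, ← mul_assoc] at this
  exact (mul_mem_cancel_right (h.IB hβ)).1 this

theorem nI {s e : G} (hs : s ∈ S) (he : e ∈ zpowers b) : s * e * s⁻¹ ∈ zpowers b :=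
  (h.hb _).2 ⟨cj (h.sB hs) (h.IB he), by
    rw [show t * (s * e * s⁻¹) * t⁻¹ = t * s * t⁻¹ * (t * e * t⁻¹) * (t * s * t⁻¹)⁻¹ by group,
      h.tn, h.tI he, mul_assoc s, cB (inv_mem (h.dI (h.dS hs))) (inv_mem he)]
    group⟩

theorem cB' {s β : G} (hs : s ∈ S) (hβ : β ∈ B) : s * β * s⁻¹ * β⁻¹ ∈ zpowers b := by
  rcases h.dec' hβ with k | ⟨f, hf, rfl⟩
  · exact mul_mem (h.nI hs k) (inv_mem k)
  · have k := mul_mem (h.nI hs hf) (inv_mem hf)
    rw [show s * (w * f) * s⁻¹ * (w * f)⁻¹ = s * w * s⁻¹ * ((s * f * s⁻¹ * f⁻¹) * w⁻¹) by group,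
      h.cm _ (h.IB k) _ (inv_mem h.hw), ← mul_assoc]
    refine mul_mem ?_ k
    rcases h.wT s (mem_sup_left hs) with e | e <;> rw [e]
    · simp
    · rw [h.cm _ h.hw _ h.zB, mul_inv_cancel_right]; exact h.zI

theorem cS (s : G) (hs : s ∈ S) (u : G) (hu : u ∈ S) : s * u * s⁻¹ * u⁻¹ ∈ zpowers b := by
  by_cases uB : u ∈ B
  · exact h.cB' hs uB
  by_cases sB : s ∈ B
  · simpa [mul_assoc] using inv_mem (h.cB' hu sB)
  · simpa [mul_assoc] using h.nI hs (h.cB' hs (h.cov hs hu sB uB))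

theorem wc {p : G} (hp : p ∈ S) (pB : p ∉ B) (e : p * w = w * p) (s : G) (hs : s ∈ S) :
    s * w = w * s := by
  by_cases sB : s ∈ B
  · exact h.cm _ sB _ h.hw
  · rw [← mul_inv_cancel_left p s, mul_assoc, h.cm _ (h.cov hp hs pB sB) _ h.hw, ← mul_assoc, e,
      mul_assoc]

theorem ncw {g : G} (hg : g ∈ A) : g * w * g⁻¹ ≠ z := by
  by_cases H : ∀ p ∈ S, p ^ 2 * p ^ 2 = 1 → p ^ 2 ≠ 1 → p ^ 2 = z
  · exact nc h.hS h.zc h.z1 h.zz H h.hr (by rw [sq, h.rr]) (h.cm _ h.rB _ h.hw) h.wz hg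
  push Not at H
  obtain ⟨p, hp, e1, e2, e3⟩ := H
  rw [sq] at e1 e2 e3
  have k : p * p = w ∨ p * p = w * z := by
    refine ((h.inv ?_ e1).resolve_left e2).resolve_left e3
    by_cases pB : p ∈ B
    · exact mul_mem pB pB
    · simpa using h.cov (inv_mem hp) hp (by simpa using pB) pB
  have pB : p ∉ B := fun pB => h.wI (by
    have : p * p ∈ zpowers b := by
      rcases h.dec' pB with k | ⟨f, hf, rfl⟩
      · exact mul_mem k k
      · rw [mul_assoc, ← mul_assoc f, h.cm _ (h.IB hf) _ h.hw, mul_assoc, ← mul_assoc, h.ww,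
          one_mul]
        exact mul_mem hf hf
    rcases k with k | k <;> rw [k] at this
    · exact this
    · exact (mul_mem_cancel_right h.zI).1 this)
  have wc := h.wc hp pB (by
    rcases k with k | k
    · rw [← k, mul_assoc]
    · rw [← h.wzz, ← k, ← mul_assoc, mul_assoc (p * p), ← h.zc p hp, mul_assoc, mul_assoc,
        mul_assoc])
  intro e
  obtain ⟨g, -, e4, e5⟩ := ext (v := z) (g := g⁻¹) h.hS wc (inv_mem hg) (by rw [← e]; group)
    h.hS.isPGroup h.hS.le h.zc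
  obtain ⟨β, hβ, e6⟩ : ∃ β ∈ B, p * β ≠ β * p := by
    by_contra hh
    push Not at hh
    exact pB (h.sc p hp hh)
  obtain ⟨k, hk⟩ := zin h.I2 h.uI (h.cB' hp hβ) fun e => e6
    (mul_inv_eq_iff_eq_mul.1 (mul_inv_eq_one.1 e))
  rw [(show Commute (p * β * p⁻¹) β⁻¹ from h.cm _ (cj (h.sB hp) hβ) _ (inv_mem hβ)).mul_pow,
    conj_pow, inv_pow] at hk
  refine h.wI ?_
  rw [← e4, ← hk]
  simpa [mul_assoc] using h.cS _ (e5 p hp) _ (e5 _ (pow_mem (h.le hβ) k))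

theorem ncX {g : G} (hg : g ∈ A ⊔ zpowers t) : g * w * g⁻¹ ≠ z := fun e => by
  rcases h.mX.1 hg with k | k
  · exact h.ncw k e
  · exact h.ncw k (by rw [show t * g * w * (t * g)⁻¹ = t * (g * w * g⁻¹) * t⁻¹ by group, e, h.tz])

theorem inB {g : G} (hg : g ∈ A) (e : g * w * g⁻¹ ∈ B) : w⁻¹ * (g * w * g⁻¹) ∈ zpowers b := by
  rcases h.inv e (by rw [conj_mul, h.ww]; simp) with k | k | k | k
  · exact absurd (by simpa using k) h.w1
  · exact absurd k (h.ncw hg)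
  · rw [k]; simp
  · rw [k]; simpa using h.zI

theorem getp {y : G} (hy : y ∈ S) (yB : y ∉ B) (yy : y * y ∈ zpowers b) :
    ∃ e ∈ zpowers b, ∃ g ∈ A, g * w * g⁻¹ = y * e := by
  have ny : y ∈ normalizer (zpowers b : Set G) := nrm_of (fun s hs e he => h.nI hs he) hy
  by_contra hh
  push Not at hh
  have := tk (M := zpowers b ⊔ zpowers y) h.hA h.hS (fun s hs u hu => mem_sup_left (h.cS s hs u hu))
    (h.le h.hw) h.ww fun g hg e => by
      by_cases k : g * w * g⁻¹ ∈ B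
      · exact mem_sup_left (h.inB hg k)
      rcases h.dec' (h.cov hy e yB k) with k1 | ⟨f, hf, k1⟩
      · exact absurd (mul_inv_cancel_left _ _).symm (hh _ k1 g hg)
      · rw [show g * w * g⁻¹ = y * (w * f) by rw [← k1]; group, show w⁻¹ * (y * (w * f)) = (y * w⁻¹ * y⁻¹ * w⁻¹⁻¹)⁻¹ * y * f by group]
        exact mul_mem (mul_mem (mem_sup_left (inv_mem (h.cB' hy (inv_mem h.hw))))
          (mem_sup_right (mem_zpowers y))) (mem_sup_left hf)
  rcases (msz ny yy).1 this with k | k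
  · exact h.wI k
  · exact yB ((mul_mem_cancel_right h.hw).1 (h.IB k))

theorem oinv {y e : G} (hy : y ∈ S) (yB : y ∉ B) (yy : y * y = 1) (he : e ∈ zpowers b) :
    y * e * y⁻¹ = e⁻¹ := by
  obtain ⟨f, hf, k⟩ := h.odd hy yB (h.dS hy)
  refine act_inv (act_inv ?_ (gen_odd h.I2 hf)) he
  rw [← k]
  unfold dl
  simp only [mul_inv_rev, inv_self yy, inv_self h.tt, mul_assoc, yy, mul_one]

theorem cw {y e : G} (hy : y ∈ S) (yB : y ∉ B) (yy : y * y = 1) (he : e ∈ zpowers b) :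
    ∃ g ∈ A ⊔ zpowers t, g * y * g⁻¹ = y * e := by
  have m : ∀ f ∈ zpowers b, f ∈ A ⊔ zpowers t := fun f hf => mem_sup_left (h.hS.le (h.le (h.IB hf)))
  have c : ∀ f ∈ zpowers b, f⁻¹ * y = y * f := fun f hf => by
    rw [← h.oinv hy yB yy hf, inv_mul_cancel_right]
  obtain ⟨f, hf, rfl | rfl⟩ := par he
  · exact ⟨f⁻¹, m _ (inv_mem hf), by rw [c f hf, inv_inv, mul_assoc]⟩
  · obtain ⟨d, hd, k⟩ := h.odd hy yB (h.dS hy)
    have hk := mul_mem (mul_mem hd hf) (mem_zpowers b)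
    refine ⟨(d * f * b)⁻¹ * t, mul_mem (m _ (inv_mem hk)) (mem_sup_right (mem_zpowers t)), ?_⟩
    rw [show (d * f * b)⁻¹ * t * y * ((d * f * b)⁻¹ * t)⁻¹ =
      (d * f * b)⁻¹ * (t * y * t⁻¹) * (d * f * b) by group, h.tn, ← mul_assoc _ y, c _ hk, k]
    obtain ⟨l, rfl⟩ := hd
    obtain ⟨m, rfl⟩ := hf
    group

theorem weak {g : G} (hg : g ∈ A) (e : g * z * g⁻¹ ∈ S) : g * z * g⁻¹ = z := by
  have ss : g * z * g⁻¹ * (g * z * g⁻¹) = 1 := by rw [conj_mul, h.zz]; simp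
  have key : ∀ x ∈ A ⊔ zpowers t, x * w * x⁻¹ ≠ g * z * g⁻¹ := fun x hx k =>
    h.ncX (mul_mem (inv_mem (mem_sup_left hg)) hx) (by
      rw [show g⁻¹ * x * w * (g⁻¹ * x)⁻¹ = g⁻¹ * (x * w * x⁻¹) * g by group, k]; group)
  by_cases sB : g * z * g⁻¹ ∈ B
  · rcases h.inv sB ss with k | k | k | k
    · exact absurd (by simpa using k) h.z1
    · exact k
    · exact absurd (by simp [k]) (key 1 (one_mem _))
    · exact absurd (h.tw.trans k.symm) (key t (mem_sup_right (mem_zpowers t)))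
  obtain ⟨f, hf, x, hx, k⟩ := h.getp e sB (ss ▸ one_mem _)
  obtain ⟨u, hu, k1⟩ := h.cw e sB ss hf
  exact absurd (by
    rw [show u⁻¹ * x * w * (u⁻¹ * x)⁻¹ = u⁻¹ * (x * w * x⁻¹) * u by group, k, ← k1]; group)
    (key _ (mul_mem (inv_mem hu) (mem_sup_left hx)))

theorem fin : False := by
  obtain ⟨g, hg, hy, yB⟩ : ∃ g ∈ A, g * w * g⁻¹ ∈ S ∧ g * w * g⁻¹ ∉ B := by
    by_contra hh
    push Not at hh
    exact h.wI (tk h.hA h.hS h.cS (h.le h.hw) h.ww fun g hg e => h.inB hg (hh g hg e))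
  have yy : g * w * g⁻¹ * (g * w * g⁻¹) = 1 := by rw [conj_mul, h.ww]; simp
  have ey : g⁻¹ * (g * w * g⁻¹) * g⁻¹⁻¹ = w := by group
  generalize g * w * g⁻¹ = y at hy yB yy ey
  have hyw := mul_mem hy (h.le h.hw)
  have ywB : y * w ∉ B := fun e => yB ((mul_mem_cancel_right h.hw).1 e)
  obtain ⟨f, hf, x, -, k⟩ := h.getp hyw ywB (by
    simpa only [inv_self yy, inv_self h.ww, mul_assoc] using h.cB' hy h.hw)
  have k1 : y * w * f * (y * w * f) = 1 := by rw [← k, conj_mul, h.ww]; simp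
  have k2 := h.oinv (mul_mem hyw (h.le (h.IB hf)))
    (fun e => ywB ((mul_mem_cancel_right (h.IB hf)).1 e)) k1 hf
  have wc := h.wc hy yB (by
    rw [show y * w * f * f * (y * w * f)⁻¹ = y * w * f * (y * w)⁻¹ by group,
      mul_inv_eq_iff_eq_mul] at k2
    nth_rw 1 [k2] at k1
    rw [show f⁻¹ * (y * w) * (y * w * f) = f⁻¹ * (y * w * (y * w)) * f by group,
      mul_assoc, inv_mul_eq_one, eq_comm, mul_eq_right, ← eq_inv_iff_mul_eq_one, mul_inv_rev,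
      inv_self yy, inv_self h.ww] at k1
    exact k1)
  obtain ⟨i, hi, ii⟩ := h.exi
  obtain ⟨u, hu, e1, e2⟩ := ext (D := zpowers z) h.hS wc (inv_mem hg) ey
    (h.hS.isPGroup.to_le (zpowers_le.2 h.hz)) (zpowers_le.2 (h.hS.le h.hz)) fun d hd =>
      (mul_inv_eq_iff_eq_mul.1 (act_fix (mul_inv_eq_iff_eq_mul.2 (h.zc y hy)) hd)).symm
  have e3 := h.weak hu (e2 z (mem_zpowers z))
  have iA := h.hS.le (h.le (h.IB hi))
  obtain ⟨p, hp, e4, e5⟩ := ext (v := w * z) (g := u * i * u⁻¹) h.hS wc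
    (mul_mem (mul_mem hu iA) (inv_mem hu)) (by
      nth_rw 1 [← e1, ← e3]
      rw [conj_mul, show u * i * u⁻¹ * (u * (y * z) * u⁻¹) * (u * i * u⁻¹)⁻¹ =
        u * (i * y * (z * i⁻¹)) * u⁻¹ by group, ← ii, mul_inv_cancel_right,
        show i * y * i = i * (y * i * y⁻¹) * y by group, h.oinv hy yB yy hi, mul_inv_cancel,
        one_mul, e1]) h.hS.isPGroup h.hS.le
    fun d hd => by rw [← mul_assoc, wc d hd, mul_assoc, h.zc d hd, mul_assoc]
  have e6 := h.weak hp (e5 z h.hz)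
  have e7 : p * w * p⁻¹ = w * z := by
    nth_rw 1 [← h.wzz]
    rw [← conj_mul, e4, e6]
  have nS : p ∈ normalizer (S : Set G) := mem_normalizer_of_conj_smul_le fun s hs => by
    simpa [mul_assoc] using e5 _ (mem_conj_smul.1 hs)
  obtain ⟨k, m, ⟨j, rfl⟩, hm⟩ := Nat.exists_eq_two_pow_mul_odd (orderOf_pos p).ne'
  have e8 := wc _ (h.hS.le_of_le_normalizer' (two_zp (c := p ^ (2 * j + 1)) (n := k) (by
    rw [← pow_mul, mul_comm, ← hm, pow_orderOf_eq_one])) (zpowers_le.2 (pow_mem hp _))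
    (zpowers_le.2 (pow_mem nS _)) (mem_zpowers _))
  have e9 : Commute (p ^ 2) w := by
    rw [← e7] at e4
    rw [Commute, SemiconjBy, sq]
    nth_rw 2 [← e4]
    group
  rw [pow_succ', pow_mul, mul_assoc, (e9.pow_left j).eq, ← mul_assoc, ← mul_assoc, mul_left_inj,
    ← mul_inv_eq_iff_eq_mul, e7] at e8
  exact h.wne e8.symm

end Hc

end Cfsg.Agent.H3.Sm
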