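import Cfsg.Agent.H54.VKit0

/-!
# Standard subgroups of unitary type: the transvection groups of the doubled group (piece ROW)
-/

set_option autoImplicit false
set_option linter.unusedSectionVars false

namespace Cfsg.Agent.H54V.H3.URw

open Cfsg Cfsg.Agent.H63 Cfsg.Agent.H63.SL Cfsg.Agent.H34 Cfsg.Agent.H34.TW Cfsg.Agent.H34.UM
  Cfsg.Agent.H31 Subgroup Module
open scoped commutatorElement

universe u v

section Grp

variable {G : Type u} [Group G]

theorem cm_left {g g' h z z' : G} (h1 : ⁅g, h⁆ = z) (h2 : ⁅g', h⁆ = z') (c : Commute g z') :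
    ⁅g * g', h⁆ = z' * z := by
  rw [show ⁅g * g', h⁆ = g * ⁅g', h⁆ * g⁻¹ * ⁅g, h⁆ by group, h1, h2, c.eq, mul_inv_cancel_right]

theorem cm_right {g h h' z z' : G} (h1 : ⁅g, h⁆ = z) (h2 : ⁅g, h'⁆ = z') (c : Commute h z') :
    ⁅g, h * h'⁆ = z * z' := by
  rw [show ⁅g, h * h'⁆ = ⁅g, h⁆ * (h * ⁅g, h'⁆ * h⁻¹) by group, h1, h2, c.eq, mul_inv_cancel_right]

theorem mul4 {a b c d : G} (h : Commute b c) : a * b * (c * d) = a * c * (b * d) := by
  rw [mul_assoc, ← mul_assoc b, h.eq]; simp only [mul_assoc]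

end Grp

variable {F E V : Type v} [Field F] [Field E] [AddCommGroup V] [Module E V] {i : F →+* E}
  {σ : E ≃+* E} {B : V →ₛₗ[(σ : E →+* E)] V →ₗ[E] E} {G : Type u} [Group G] {φ : sisom B →* G}
  {L : Subgroup G} {t : G} {y : V → E → G} {ω : E}

variable (i φ) in
/-- The hypotheses. -/
structure Hy (L : Subgroup G) (t : G) (y : V → E → G) (ω : E) : Prop where
  c : UCtx i φ L
  par : UPar i φ L t i σ y
  ln : ULine i B i y
  q : UQ i B i y
  kl : UKL i B i y
  hω : σ ω = ω + 1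

variable (B) in
/-- Isotropic vectors orthogonal to `v`. -/
def Io (v w : V) : Prop := B w w = 0 ∧ B v w = 0

variable (σ) in
/-- The element attached to an isotropic vector. -/
def X (y : V → E → G) (ω : E) (v w : V) : G := BB y w v (σ ω) * BB y (ω • w) v 1

theorem Io.smul {v w : V} (h : Io B v w) (c : E) : Io B v (c • w) :=
  ⟨by rw [sm_left, sm_right, h.1]; simp, by rw [sm_right, h.2, mul_zero]⟩

theorem io_zero (v : V) : Io B v 0 := ⟨by simp, by simp⟩

namespace Hy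

variable (h : Hy i φ L t y ω)
include h

theorem two : (2 : E) = 0 := h.c.qf.two

theorem ex_tr (c : E) : ∃ n, i n = c + σ c :=
  ((h.c.qf.fix _).1 (by rw [map_add, h.c.qf.sq, add_comm])).imp fun _ => Eq.symm

theorem ex_nm (c : E) : ∃ n, i n = c * σ c :=
  ((h.c.qf.fix _).1 (by rw [map_mul, h.c.qf.sq, mul_comm])).imp fun _ => Eq.symm

theorem σi (n : F) : σ (i n) = i n := (h.c.qf.fix _).2 ⟨n, rfl⟩

theorem ex_co (a : E) : ∃ a0 a1, a = i a0 + i a1 * ω := by
  obtain ⟨a1, h1⟩ := h.ex_tr a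
  obtain ⟨a0, h0⟩ := (h.c.qf.fix (a + i a1 * ω)).1 (by
    rw [map_add, map_mul, h.σi, h.hω]
    linear_combination h1 + σ a * h.two)
  exact ⟨a0, a1, by linear_combination h0 - i a1 * ω * h.two⟩

theorem Io.add {v w w' : V} (a : Io B v w) (b : Io B v w') (e : B w w' = 0) : Io B v (w + w') :=
  ⟨h.c.iso_add a.1 b.1 e, by rw [map_add, a.2, b.2, add_zero]⟩

variable {v : V} (hv : B v v = 0)
include hv

theorem y0 : y v 0 = 1 := by
  have := h.par.add v hv 0 0
  rwa [add_zero, left_eq_mul] at this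

theorem BB_comm {w : V} (a : Io B v w) (c : E) : BB y v w c = BB y w v c := by
  rw [BB, BB, add_comm, mul_assoc, mul_assoc, (h.par.com v w hv a.1 a.2 c c).eq]

theorem yB {w : V} (a : Io B v w) (c d : E) : Commute (BB y w v c) (y v d) := by
  have e := h.c.flip a.2
  exact ((h.par.com _ _ (h.c.iso_add a.1 hv e) hv (by rw [add_left, e, hv, add_zero]) _ _).mul_left
    (h.par.com _ _ a.1 hv e _ _)).mul_left (h.par.com _ _ hv hv hv _ _)

theorem qc {u w : V} (a : Io B v u) (b : Io B v w) (c d : E) :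
    ⁅BB y u v c, BB y w v d⁆ = y v ((B u w + σ (B u w)) * c * d) := by
  obtain ⟨n, hn⟩ := h.ex_tr (B u w)
  rw [h.q.qcom v u w hv a.1 b.1 a.2 b.2 n hn, hn]

theorem BB_com {u w : V} (a : Io B v u) (b : Io B v w) (e : B u w = 0) (c d : E) :
    Commute (BB y u v c) (BB y w v d) := by
  rw [← commutatorElement_eq_one_iff_commute, h.qc hv a b, e]; simpa using h.y0 hv

theorem BB_add {w : V} (a : Io B v w) (c d : E) : BB y w v (c + d) = BB y w v c * BB y w v d := by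
  have e := h.c.flip a.2
  have s := h.c.iso_add a.1 hv e
  have e1 : B w (w + v) = 0 := by rw [map_add, a.1, e, add_zero]
  have e2 : B v (w + v) = 0 := by rw [map_add, a.2, hv, add_zero]
  rw [BB, BB, BB, h.par.add _ s, h.par.add _ a.1, h.par.add _ hv,
    mul4 (h.par.com _ _ s a.1 (h.c.flip e1) d c), mul4 (a := y (w + v) c * y w c)]
  exact (h.par.com _ _ s hv (h.c.flip e2) d c).mul_left (h.par.com _ _ a.1 hv e d c)

theorem BB_zero {w : V} (a : Io B v w) : BB y w v 0 = 1 := by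
  have := h.BB_add hv a 0 0
  rwa [add_zero, left_eq_mul] at this

theorem BB_sq {w : V} (a : Io B v w) (c : E) : BB y w v c * BB y w v c = 1 := by
  rw [← h.BB_add hv a, h.c.qf.add_self, h.BB_zero hv a]

theorem BB_addv {w w' : V} (a : Io B v w) (b : Io B v w') (e : B w w' = 0) (c : E) :
    BB y (w + w') v c = BB y w v c * BB y w' v c := by
  rw [← h.BB_comm hv a, ← h.BB_comm hv b, ← h.BB_comm hv (Io.add h a b e),
    h.ln.badd v w w' hv a.1 b.1 a.2 b.2 e]

theorem BB_sc {w : V} (a : Io B v w) (n : F) (c : E) : BB y (i n • w) v c = BB y w v (i n * c) := by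
  rw [← h.BB_comm hv a, ← h.BB_comm hv (a.smul _), h.ln.bsc v w hv a.1 a.2]

theorem BB_sh (c d : E) : BB y (c • v) v d = y v ((c + σ c) * d) := by
  obtain ⟨n, hn⟩ := h.ex_tr c
  rw [← h.BB_comm hv (Io.smul ⟨hv, hv⟩ c), h.ln.bsh v hv c n hn, hn]

theorem sm0 {w : V} (a : Io B v w) (c d : E) : B (c • w) (d • w) = 0 := by
  rw [sm_left, sm_right, a.1]; simp

theorem BB_adds {w : V} (a : Io B v w) (c d e : E) :
    BB y ((c + d) • w) v e = BB y (c • w) v e * BB y (d • w) v e := by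
  rw [add_smul, h.BB_addv hv (a.smul c) (a.smul d) (h.sm0 hv a c d)]

/-- normal form of a product of two elements on one line -/
theorem BB_nf {w : V} (a : Io B v w) (c c' : E) (a0 a1 b0 b1 : F) :
    BB y (c • w) v (i a0 + i a1 * ω) * BB y (c' • w) v (i b0 + i b1 * ω) =
      BB y ((i a0 * c + i b0 * c') • w) v 1 * BB y ((i a1 * c + i b1 * c') • w) v ω := by
  have k : ∀ (c : E) (n : F) e, BB y (c • w) v (i n * e) = BB y ((i n * c) • w) v e := fun c n e => by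
    rw [← h.BB_sc hv (a.smul c), mul_smul]
  rw [h.BB_add hv (a.smul _), h.BB_add hv (a.smul _), h.BB_adds hv a, h.BB_adds hv a,
    ← mul_one (i a0), ← mul_one (i b0), k, k, k, k, mul_one, mul_one]
  exact mul4 (h.BB_com hv (a.smul _) (a.smul _) (h.sm0 hv a _ _) _ _)

theorem Xy {w : V} (a : Io B v w) (d : E) : Commute (X σ y ω v w) (y v d) :=
  (h.yB hv a _ _).mul_left (h.yB hv (a.smul _) _ _)

theorem X_zero : X σ y ω v 0 = 1 := by
  have : ∀ c, BB y 0 v c = 1 := fun c => by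
    rw [BB, zero_add, h.par.zero, mul_one, ← h.par.add v hv, h.c.qf.add_self, h.y0 hv]
  rw [X, smul_zero, this, this, one_mul]

theorem X_B {w z : V} (a : Io B v w) (b : Io B v z) (c : E) :
    ⁅X σ y ω v w, BB y z v c⁆ = y v ((B z w * (σ ω + ω) + σ (B z w) * (σ ω + σ ω)) * c) := by
  rw [X, cm_left (h.qc hv a b _ _) (h.qc hv (a.smul _) b _ _) (h.yB hv a _ _), ← h.par.add v hv,
    sm_left, map_mul, h.c.qf.sq, h.c.symm w z, h.c.symm z w]
  congr 1; ring

theorem X_B1 {w z : V} (a : Io B v w) (b : Io B v z) (c : E) :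
    ⁅X σ y ω v w, BB y z v c⁆ = y v (B z w * c) := by
  rw [h.X_B hv a b, h.c.qf.add_self, h.hω]
  congr 1; linear_combination (B z w * c * ω) * h.two

theorem X_com {w w' : V} (a : Io B v w) (b : Io B v w') : Commute (X σ y ω v w) (X σ y ω v w') := by
  rw [← commutatorElement_eq_one_iff_commute, X.eq_1 σ y ω v w',
    cm_right (h.X_B1 hv a b _) (h.X_B1 hv a (b.smul _) _) (h.yB hv b _ _), ← h.par.add v hv,
    sm_left, mul_one, mul_comm, h.c.qf.add_self, h.y0 hv]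

theorem X_sq {w : V} (a : Io B v w) : X σ y ω v w * X σ y ω v w = 1 := by
  have : B (ω • w) w = 0 := by rw [sm_left, a.1, mul_zero]
  rw [X, mul4 (h.BB_com hv (a.smul _) a this _ _), h.BB_sq hv a, h.BB_sq hv (a.smul _), one_mul]

theorem X_sh (c : E) : X σ y ω v (c • v) = y v c := by
  rw [X, smul_smul, h.BB_sh hv, h.BB_sh hv, ← h.par.add v hv, map_mul, h.hω]
  congr 1; linear_combination (c * ω + σ c * ω + σ c) * h.two

theorem X_add {w w' : V} (a : Io B v w) (b : Io B v w') (e : B w w' = 0) :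
    X σ y ω v (w + w') = X σ y ω v w * X σ y ω v w' := by
  have e1 : B (ω • w) w' = 0 := by rw [sm_left, e, mul_zero]
  rw [X, X, X, smul_add, h.BB_addv hv a b e, h.BB_addv hv (a.smul _) (b.smul _)
    (by rw [sm_right, e1, mul_zero])]
  exact mul4 (h.BB_com hv (a.smul _) b e1 _ _).symm

theorem X_adds {w : V} (a : Io B v w) (c d : E) :
    X σ y ω v ((c + d) • w) = X σ y ω v (c • w) * X σ y ω v (d • w) := by
  rw [add_smul, h.X_add hv (a.smul c) (a.smul d) (h.sm0 hv a c d)]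

theorem X_indep {w : V} (a : Io B v w) {ω' : E} (e : σ ω' = ω' + 1) :
    X σ y ω' v w = X σ y ω v w := by
  obtain ⟨m, hm⟩ := (h.c.qf.fix (ω' + ω)).1 (by
    rw [map_add, e, h.hω]; linear_combination h.two)
  have : ω' = ω + i m := by linear_combination hm - ω * h.two
  have k := h.BB_sc hv a m 1
  rw [mul_one] at k
  rw [X, X, this, map_add, h.σi, h.BB_add hv a, h.BB_adds hv a, k, mul_assoc,
    ← mul_assoc (BB y w v (i m)), (h.BB_com hv a (a.smul ω) (by rw [sm_right, a.1, mul_zero]) _ _).eq,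
    mul_assoc, h.BB_sq hv a, mul_one]

theorem T_eq {x : V} (b : Io B v x) (β a : E) :
    BB y (β • x) v (a * σ ω) * BB y ((ω * β) • x) v a = X σ y ω v ((a * β) • x) := by
  obtain ⟨a0, a1, rfl⟩ := h.ex_co a
  obtain ⟨n, hn⟩ := h.ex_nm ω
  rw [h.hω] at hn
  have e1 : (i a0 + i a1 * ω) * σ ω = i (a0 + a1 * n) + i a0 * ω := by
    rw [h.hω, map_add, map_mul, hn]; ring
  have e2 : σ ω = i 1 + i 1 * ω := by rw [h.hω, map_one]; ring
  have e3 : (1 : E) = i 1 + i 0 * ω := by simp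
  rw [e1, h.BB_nf hv b, X, smul_smul, e2, e3, h.BB_nf hv b, ← e3]
  congr 3
  · simp only [map_add, map_mul, map_one, hn]; ring
  · simp only [map_one, map_zero]; ring

theorem X_kl {w x : V} (a : Io B v w) (b : Io B v x) (c : E) :
    y x c * X σ y ω v w * (y x c)⁻¹ = X σ y ω v w * X σ y ω v ((c * B x w) • x) := by
  obtain ⟨n, hn⟩ := h.ex_nm (B x w)
  obtain ⟨n', hn'⟩ := h.ex_nm (B x (ω • w))
  have k1 := h.kl v w x hv a.1 b.1 a.2 b.2 n hn c (σ ω)
  have k2 := h.kl v _ x hv (a.smul ω).1 b.1 (a.smul ω).2 b.2 n' hn' c 1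
  have k3 := h.qc hv (b.smul (B x w)) (a.smul ω) (c * σ ω) 1
  rw [hn] at k1
  rw [hn', sm_right, mul_one] at k2
  rw [commutatorElement_def, mul_inv_eq_iff_eq_mul, mul_inv_eq_iff_eq_mul] at k3
  have c1 := fun d => (h.yB hv (a.smul ω) 1 d).symm.eq
  have c2 := fun β e d => (h.yB hv (b.smul β) e d).symm.eq
  have c1' : ∀ d g, y v d * (BB y (ω • w) v 1 * g) = BB y (ω • w) v 1 * (y v d * g) := fun d g => by
    rw [← mul_assoc, c1, mul_assoc]
  have c2' : ∀ β e d g, y v d * (BB y (β • x) v e * g) = BB y (β • x) v e * (y v d * g) :=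
    fun β e d g => by rw [← mul_assoc, c2, mul_assoc]
  rw [← h.T_eq hv b, X, ← conj_mul, k1, k2]
  simp only [mul_assoc, c1', c2']
  rw [← mul_assoc (BB y (B x w • x) v _), k3]
  simp only [mul_assoc, c1', c2']
  rw [← h.par.add v hv, ← h.par.add v hv, sm_left, sm_right, map_mul, map_mul, h.c.qf.sq, h.hω]
  congr 3
  refine mul_eq_left.2 ?_
  convert h.y0 hv using 2
  linear_combination (B x w * σ (B x w) * c * (ω + 1) * (2 * ω + 1)) * h.two

omit hv in
theorem X_eqv (g : sisom B) {v w : V} (hv : B v v = 0) (a : Io B v w) :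
    φ g * X σ y ω v w * (φ g)⁻¹ = X σ y ω (g.1 v) (g.1 w) := by
  have k : ∀ {w}, Io B v w → ∀ c, φ g * BB y w v c * (φ g)⁻¹ = BB y (g.1 w) (g.1 v) c :=
    fun {w} a c => by
      rw [BB, BB, ← conj_mul, ← conj_mul, h.par.eqv g _ a.1, h.par.eqv g _ hv,
        h.par.eqv g _ (h.c.iso_add a.1 hv (h.c.flip a.2)), map_add]
  rw [X, X, ← conj_mul, k a, k (a.smul ω), map_smul]

variable [FiniteDimensional E V]

theorem X_add' {w x : V} (a : Io B v w) (b : Io B v x) (e : B (w + x) (w + x) = 0) :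
    X σ y ω v (w + x) = X σ y ω v w * X σ y ω v x := by
  by_cases h0 : B x w = 0
  · exact h.X_add hv a b (h.c.flip h0)
  have e1 : σ (B x w) = B x w := by
    rw [add_left, map_add, map_add, a.1, b.1, ← h.c.symm x w] at e
    linear_combination e - B x w * h.two
  obtain ⟨n, hn⟩ := (h.c.qf.fix (B x w)⁻¹).1 (by rw [map_inv₀, e1])
  obtain ⟨s, hs, e2⟩ := h.c.tt b.1 n
  have k := h.X_kl hv a b (i n)
  rw [h.par.res x b.1, ← e2, h.X_eqv s hv a, hs, hs, h.c.flip b.2, ← hn, inv_mul_cancel₀ h0,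
    one_smul, mul_zero, zero_smul, add_zero] at k
  exact k

theorem plane {w1 w2 : V} (a : Io B v w1) (b : Io B v w2) (α β : E)
    (e1 : B (α • w1 + β • w2) (α • w1 + β • w2) = 0)
    (e2 : B ((1 + α) • w1 + (1 + β) • w2) ((1 + α) • w1 + (1 + β) • w2) = 0) :
    X σ y ω v (α • w1 + β • w2) * X σ y ω v ((1 + α) • w1 + (1 + β) • w2) =
      X σ y ω v w1 * X σ y ω v w2 := by
  rw [h.X_add' hv (a.smul _) (b.smul _) e1, h.X_add' hv (a.smul _) (b.smul _) e2,
    mul4 (h.X_com hv (b.smul _) (a.smul _)), ← h.X_adds hv a, ← h.X_adds hv b,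
    add_left_comm, add_left_comm β, h.c.qf.add_self, h.c.qf.add_self, add_zero, one_smul, one_smul]

theorem X_pr {w : V} (a : Io B v w) (c : E) : X σ y ω v (w + c • v) = X σ y ω v w * y v c := by
  rw [h.X_add hv a (Io.smul ⟨hv, hv⟩ c) (by rw [sm_right, h.c.flip a.2, mul_zero]), h.X_sh hv]

variable [Finite F] [Finite E]

omit hv in
theorem fix1 {a : E} (e : σ a = a) (a0 : a ≠ 0) : a = 1 := by
  obtain ⟨n, rfl⟩ := (h.c.qf.fix a).1 e
  rcases h.c.h01 n with rfl | rfl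
  · exact absurd (map_zero i) a0
  · exact map_one i

/-- well definedness inside the complement of a hyperbolic pair -/
theorem wd0 {v' : V} (e0 : B v v' = 1) {w1 w2 w3 w4 : V} (a1 : Io B v w1) (a2 : Io B v w2)
    (a3 : Io B v w3) (a4 : Io B v w4) (b1 : B v' w1 = 0) (b2 : B v' w2 = 0) (b3 : B v' w3 = 0)
    (e : w1 + w2 = w3 + w4) (hd : B (w1 + w2) (w1 + w2) ≠ 0) :
    X σ y ω v w1 * X σ y ω v w2 = X σ y ω v w3 * X σ y ω v w4 := by
  obtain ⟨n1, f1⟩ := h.c.perp_pair hv e0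
  set W0 := perp B (Submodule.span E {v, v'})
  have mem : ∀ {x}, x ∈ W0 ↔ B v x = 0 ∧ B v' x = 0 := UCtx.mem_perp_pair
  generalize hdd : w1 + w2 = d at hd e
  have dv : B v d = 0 := by rw [← hdd, map_add, a1.2, a2.2, add_zero]
  have dv' : B v' d = 0 := by rw [← hdd, map_add, b1, b2, add_zero]
  have le : (E ∙ d) ≤ W0 := (Submodule.span_singleton_le_iff_mem _ _).2 (mem.2 ⟨dv, dv'⟩)
  have n2 := h.c.herm.nondegOn_inf_perp (nondegOn_span_singleton hd) n1 le
  have f2 := h.c.herm.finrank_inf_perp (nondegOn_span_singleton hd) le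
  rw [finrank_span_singleton (by rintro rfl; simp at hd)] at f2
  set U := W0 ⊓ perp B (E ∙ d)
  have memU : ∀ {x}, x ∈ U ↔ (B v x = 0 ∧ B v' x = 0) ∧ B d x = 0 := fun {x} => by
    rw [Submodule.mem_inf, mem, mem_perp_span_singleton]
  have dec : ∀ w, Io B v w → B v' w = 0 → B (d + w) (d + w) = 0 → ∃ l : E, ∃ e ∈ U, w = l • d + e ∧
      B e e = l * σ l * B d d ∧ l + σ l = 1 := fun w a b c => by
    have s := h.c.symm d d
    refine ⟨B d w / B d d, w + (B d w / B d d) • d, memU.2 ⟨⟨?_, ?_⟩, ?_⟩, ?_, ?_, ?_⟩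
    · rw [map_add, sm_right, a.2, dv]; simp
    · rw [map_add, sm_right, b, dv']; simp
    · rw [map_add, sm_right, div_mul_cancel₀ _ hd, h.c.qf.add_self]
    · rw [add_left_comm, h.c.add_self, add_zero]
    · simp only [map_add, LinearMap.add_apply, sm_left, sm_right, a.1, map_div₀, s, ← h.c.symm d w]
      field_simp
      linear_combination (B d w * σ (B d w)) * h.two
    · simp only [map_add, LinearMap.add_apply, a.1, ← h.c.symm d w] at c
      rw [map_div₀, s]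
      field_simp
      linear_combination c - B d d * h.two
  have e2 : w2 = d + w1 := by rw [← hdd, add_right_comm, h.c.add_self, zero_add]
  have e4 : w4 = d + w3 := by rw [e, add_right_comm, h.c.add_self, zero_add]
  obtain ⟨l, p, hp, e1, p2, l1⟩ := dec w1 a1 b1 (e2 ▸ a2.1)
  obtain ⟨l', p', hp', e3, p2', l1'⟩ := dec w3 a3 b3 (e4 ▸ a4.1)
  have nz : ∀ {l : E}, l + σ l = 1 → l * σ l * B d d ≠ 0 := fun {l} e => by
    have : l ≠ 0 := by rintro rfl; simp at e
    exact mul_ne_zero (mul_ne_zero this ((map_ne_zero σ).2 this)) hd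
  let D := X σ y ω v w1 * X σ y ω v w2
  obtain ⟨κ, s, s1, s2, s3, s4⟩ : ∃ (κ : E) (s : sisom B), Commute (φ s) D ∧ s.1 v = v ∧ s.1 d = d ∧
      s.1 (κ • p) = p' := by
    have q1 : B p p = 1 := h.fix1 (h.c.symm p p) (p2 ▸ nz l1)
    have q1' : B p' p' = 1 := h.fix1 (h.c.symm p' p') (p2' ▸ nz l1')
    by_cases h2 : B p p' = 0
    · have hu : p + p' ∈ U := U.add_mem hp hp'
      have iu : B (p + p') (p + p') = 0 := by
        rw [add_left, map_add, map_add, q1, q1', h2, h.c.flip h2, add_zero, zero_add,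
          h.c.qf.add_self]
      obtain ⟨s, hs, e2'⟩ := h.c.tt iu 1
      have bu : Io B v (p + p') := ⟨iu, (memU.1 hu).1.1⟩
      refine ⟨1, s, ?_, ?_, ?_, ?_⟩
      · generalize p + p' = u at hu iu e2' bu
        have k : B u w2 = B u w1 := by rw [e2, map_add, h.c.flip (memU.1 hu).2, zero_add]
        rw [Commute, SemiconjBy, e2', ← h.par.res u iu, ← mul_inv_eq_iff_eq_mul, ← conj_mul,
          h.X_kl hv a1 bu, h.X_kl hv a2 bu, k, mul4 (h.X_com hv (bu.smul _) a2),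
          h.X_sq hv (bu.smul _), mul_one]
      · rw [hs, h.c.flip bu.2]; simp
      · rw [hs, h.c.flip (memU.1 hu).2]; simp
      · rw [one_smul, hs, add_left, q1, h.c.flip h2, map_one, add_zero, mul_one, one_smul,
          ← add_assoc, h.c.add_self, zero_add]
    · refine ⟨B p p', 1, by simp, rfl, rfl, ?_⟩
      have pp : B p p ≠ 0 := q1 ▸ one_ne_zero
      have le' : (E ∙ p) ≤ U := (Submodule.span_singleton_le_iff_mem _ _).2 hp
      have n3 := h.c.herm.nondegOn_inf_perp (nondegOn_span_singleton pp) n2 le'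
      have f3 := h.c.herm.finrank_inf_perp (nondegOn_span_singleton pp) le'
      rw [finrank_span_singleton (by rintro rfl; simp at pp)] at f3
      have f5 := h.c.five
      have g1 : B p (p' + B p p' • p) = 0 := by
        rw [map_add, sm_right, q1, mul_one, h.c.qf.add_self]
      have g2 : B (p' + B p p' • p) (p' + B p p' • p) = 0 := by
        rw [add_left, sm_left, g1, mul_zero, add_zero, map_add, sm_right, q1', ← h.c.symm p p',
          h.fix1 (a := B p p' * σ (B p p')) (by rw [map_mul, h.c.qf.sq, mul_comm])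
            (mul_ne_zero h2 ((map_ne_zero σ).2 h2)), h.c.qf.add_self]
      have m : p' + B p p' • p ∈ U ⊓ perp B (E ∙ p) :=
        ⟨U.add_mem hp' (U.smul_mem _ hp), mem_perp_span_singleton.2 g1⟩
      have z : p' + B p p' • p = 0 := by
        by_contra q0
        have : (E ∙ (p' + B p p' • p)) = U ⊓ perp B (E ∙ p) := Submodule.eq_of_le_of_finrank_le
          ((Submodule.span_singleton_le_iff_mem _ _).2 m)
          (by rw [finrank_span_singleton q0]; omega)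
        refine q0 (n3 _ m fun z hz => ?_)
        obtain ⟨c, rfl⟩ := Submodule.mem_span_singleton.1 (this ▸ hz)
        rw [sm_right, g2, mul_zero]
      show B p p' • p = p'
      rw [← zero_add (B p p' • p), ← h.c.add_self p', add_assoc, z, add_zero]
  have t1 : s.1 (l' • d + κ • p) = w3 := by rw [map_add, map_smul, s3, s4, e3]
  have t2 : s.1 (d + (l' • d + κ • p)) = w4 := by rw [map_add, s3, t1, e4]
  have u1 : l' • d + κ • p = (l' + κ + κ * l) • w1 + (l' + κ * l) • w2 := by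
    rw [e2, e1]
    match_scalars
    · linear_combination (-(l' * l + κ * l + κ * l ^ 2)) * h.two
    · linear_combination (-(l' + κ * l)) * h.two
  have u2 : d + (l' • d + κ • p) = (1 + (l' + κ + κ * l)) • w1 + (1 + (l' + κ * l)) • w2 := by
    rw [u1, ← hdd]; module
  have i1 : B (l' • d + κ • p) (l' • d + κ • p) = 0 := by rw [← iso_map s, t1, a3.1]
  have i2 : B (d + (l' • d + κ • p)) (d + (l' • d + κ • p)) = 0 := by rw [← iso_map s, t2, a4.1]
  have j1 : B v (l' • d + κ • p) = 0 := by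
    rw [map_add, sm_right, sm_right, dv, (memU.1 hp).1.1]; simp
  have := h.plane hv a1 a2 _ _ (u1 ▸ i1) (u2 ▸ i2)
  rw [← u1, ← u2] at this
  rw [← t1, ← t2, ← s2, ← h.X_eqv s hv ⟨i1, j1⟩,
    ← h.X_eqv s hv ⟨i2, by rw [map_add, dv, j1, add_zero]⟩, conj_mul, this, s2]
  exact eq_mul_inv_of_mul_eq s1.eq.symm

omit hv in
theorem wd (hv : Pt B v) {w1 w2 w3 w4 : V} (a1 : Io B v w1) (a2 : Io B v w2) (a3 : Io B v w3)
    (a4 : Io B v w4) (e : w1 + w2 = w3 + w4) :
    X σ y ω v w1 * X σ y ω v w2 = X σ y ω v w3 * X σ y ω v w4 := by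
  by_cases hd : B (w1 + w2) (w1 + w2) = 0
  · rw [← h.X_add' hv.1 a1 a2 hd, e, h.X_add' hv.1 a3 a4 (e ▸ hd)]
  obtain ⟨v', -, e0⟩ := h.c.hyp hv
  have pr : ∀ w, Io B v w → Io B v (w + B v' w • v) ∧ B v' (w + B v' w • v) = 0 ∧
      X σ y ω v w = X σ y ω v (w + B v' w • v) * y v (B v' w) := fun w a => by
    refine ⟨Io.add h a (Io.smul ⟨hv.1, hv.1⟩ _) (by rw [sm_right, h.c.flip a.2, mul_zero]), ?_, ?_⟩
    · rw [map_add, sm_right, h.c.flip1 e0, mul_one, h.c.qf.add_self]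
    · rw [h.X_pr hv.1 a, mul_assoc, ← h.par.add v hv.1, h.c.qf.add_self, h.y0 hv.1, mul_one]
  obtain ⟨b1, c1, d1⟩ := pr w1 a1
  obtain ⟨b2, c2, d2⟩ := pr w2 a2
  obtain ⟨b3, c3, d3⟩ := pr w3 a3
  obtain ⟨b4, -, d4⟩ := pr w4 a4
  have e1 : B v' w1 + B v' w2 = B v' w3 + B v' w4 := by rw [← map_add, e, map_add]
  rw [d1, d2, d3, d4, mul4 (h.Xy hv.1 b2 _).symm, mul4 (h.Xy hv.1 b4 _).symm, ← h.par.add v hv.1,
    ← h.par.add v hv.1, e1, h.wd0 hv.1 e0 b1 b2 b3 b4 c1 c2 c3]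
  · rw [add_add_add_comm, e, ← add_smul, e1, add_smul, add_add_add_comm]
  · have e2 : B v (w1 + w2) = 0 := by rw [map_add, a1.2, a2.2, add_zero]
    rw [add_add_add_comm, ← add_smul]
    generalize w1 + w2 = d at hd e2
    simpa only [map_add, LinearMap.add_apply, sm_left, sm_right, e2, h.c.flip e2, hv.1, mul_zero,
      add_zero] using hd

omit hv in
theorem ex_dec (hv : Pt B v) {w : V} (a : B v w = 0) :
    ∃ p : V × V, Io B v p.1 ∧ Io B v p.2 ∧ w = p.1 + p.2 := by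
  obtain ⟨v', -, e0⟩ := h.c.hyp hv
  obtain ⟨n1, f1⟩ := h.c.perp_pair hv.1 e0
  have := h.c.four
  obtain ⟨y1, m1, y2, m2, i1, i2, e⟩ := h.c.herm.exists_add_isotropic n1 (by omega)
    (v := w + B v' w • v) (UCtx.mem_perp_pair.2 ⟨by rw [map_add, sm_right, a, hv.1]; simp,
      by rw [map_add, sm_right, h.c.flip1 e0, mul_one, h.c.qf.add_self]⟩)
  have b1 : Io B v y1 := ⟨i1, (UCtx.mem_perp_pair.1 m1).1⟩
  refine ⟨(y1 + B v' w • v, y2), Io.add h b1 (Io.smul ⟨hv.1, hv.1⟩ _)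
    (by rw [sm_right, h.c.flip b1.2, mul_zero]), ⟨i2, (UCtx.mem_perp_pair.1 m2).1⟩, ?_⟩
  rw [add_right_comm, ← e, add_assoc, h.c.add_self, add_zero]

end Hy

open Classical in
variable (B) in
/-- The transvection groups of the doubled group. -/
noncomputable def ρ (y : V → E → G) (ω : E) (v w : V) : G :=
  if h : ∃ p : V × V, Io B v p.1 ∧ Io B v p.2 ∧ w = p.1 + p.2 then
    X σ y ω v h.choose.1 * X σ y ω v h.choose.2 else 1

namespace Hy

variable [FiniteDimensional E V] [Finite F] [Finite E] (h : Hy i φ L t y ω) {v : V} (hv : Pt B v)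
include h hv

theorem ρ_eq {w1 w2 : V} (a1 : Io B v w1) (a2 : Io B v w2) :
    ρ B y ω v (w1 + w2) = X σ y ω v w1 * X σ y ω v w2 := by
  have : ∃ p : V × V, Io B v p.1 ∧ Io B v p.2 ∧ w1 + w2 = p.1 + p.2 := ⟨(w1, w2), a1, a2, rfl⟩
  rw [ρ, dif_pos this]
  exact h.wd hv this.choose_spec.1 this.choose_spec.2.1 a1 a2 this.choose_spec.2.2.symm

theorem ρ_iso {w : V} (a : Io B v w) : ρ B y ω v w = X σ y ω v w := by
  have := h.ρ_eq hv a (io_zero v)
  rwa [add_zero, h.X_zero hv.1, mul_one] at this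

theorem ρ_X1 {w z : V} (a : B v w = 0) (b : Io B v z) (e : B w z ≠ 0) :
    ρ B y ω v (w + z) = ρ B y ω v w * X σ y ω v z := by
  obtain ⟨c, hc⟩ : ∃ c, c * B w z = B w w * ω := ⟨_, div_mul_cancel₀ _ e⟩
  have a' : Io B v (w + c • z) := by
    refine ⟨?_, by rw [map_add, sm_right, a, b.2]; simp⟩
    have := congrArg σ hc
    rw [map_mul, map_mul, h.c.symm, h.c.symm, h.hω] at this
    rw [add_left, map_add, map_add, sm_left, sm_left, sm_right, sm_right, b.1, hc, this]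
    linear_combination (B w w + B w w * ω) * h.two
  have e1 : w = w + c • z + c • z := by rw [add_assoc, h.c.add_self, add_zero]
  have e2 : w + z = w + c • z + (c + 1) • z := by rw [add_smul, one_smul, ← add_assoc, ← e1]
  rw [e2, h.ρ_eq hv a' (b.smul _), h.X_adds hv.1 b, one_smul, ← mul_assoc, ← h.ρ_eq hv a' (b.smul _),
    ← e1]

theorem ρ_X {w z : V} (a : B v w = 0) (b : Io B v z) :
    ρ B y ω v (w + z) = ρ B y ω v w * X σ y ω v z := by
  by_cases e : B w z = 0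
  swap
  · exact h.ρ_X1 hv a b e
  by_cases h0 : B w w = 0
  · rw [h.ρ_eq hv ⟨h0, a⟩ b, h.ρ_iso hv ⟨h0, a⟩]
  by_cases h1 : z ∈ Submodule.span E {v, w}
  · obtain ⟨α, β, rfl⟩ := Submodule.mem_span_pair.1 h1
    rw [map_add, sm_right, sm_right, h.c.flip a, mul_zero, zero_add, mul_eq_zero] at e
    obtain ⟨⟨w1, w2⟩, a1, a2, rfl⟩ := h.ex_dec hv a
    have c2 : B w2 (α • v) = 0 := by rw [sm_right, h.c.flip a2.2, mul_zero]
    rw [e.resolve_right h0, zero_smul, add_zero, add_assoc, h.ρ_eq hv a1 a2,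
      h.ρ_eq hv a1 (Io.add h a2 (Io.smul ⟨hv.1, hv.1⟩ _) c2),
      h.X_add hv.1 a2 (Io.smul ⟨hv.1, hv.1⟩ _) c2, mul_assoc]
  obtain ⟨g, hg, g0⟩ := h.c.herm.exists_perp_of_notMem h1
  obtain ⟨f, hf, f0, f1⟩ := h.c.herm.toIsHermSymm.exists_hyperbolic b.1
    (UCtx.mem_perp_pair.2 ⟨b.2, e⟩) hg (h.c.herm.toIsHermSymm.flip_ne_zero g0)
  obtain ⟨f2, f3⟩ := UCtx.mem_perp_pair.1 hf
  obtain ⟨c, hc⟩ : ∃ c, c * B w w = ω := ⟨_, div_mul_cancel₀ _ h0⟩
  obtain ⟨u, hu⟩ : ∃ u, u = f + c • w + (ω * (c * σ c * B w w)) • z := ⟨_, rfl⟩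
  have u1 : B w u = ω := by
    rw [hu, map_add, map_add, sm_right, sm_right, f3, e, hc]; simp
  have u2 : B z u = 1 := by
    rw [hu, map_add, map_add, sm_right, sm_right, f1, h.c.flip e, b.1]; simp
  have u3 : B f u = ω * (c * σ c * B w w) := by
    rw [hu, map_add, map_add, sm_right, sm_right, f0, h.c.flip f3, h.c.flip1 f1]; simp
  have iu : Io B v u := by
    refine ⟨?_, by rw [hu, map_add, map_add, sm_right, sm_right, f2, a, b.2]; simp⟩
    nth_rewrite 1 [hu]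
    rw [add_left, add_left, sm_left, sm_left, u1, u2, u3, map_mul, map_mul, map_mul, h.c.qf.sq,
      h.c.symm, h.hω]
    linear_combination (-σ c) * hc + ((ω + 1) * (c * σ c * B w w)) * h.two
  have ω0 : ω ≠ 0 := fun e => by simpa [e] using h.hω
  have ω1 : ω + 1 ≠ 0 := h.hω ▸ (map_ne_zero σ).2 ω0
  have k1 := h.ρ_X1 hv (w := w + z) (by rw [map_add, a, b.2, add_zero]) iu
    (by rw [add_left, u1, u2]; exact ω1)
  have k2 := h.ρ_X1 hv (w := w + u) (by rw [map_add, a, iu.2, add_zero]) b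
    (by rw [add_left, e, h.c.flip1 u2, zero_add]; exact one_ne_zero)
  rw [add_right_comm, k2, h.ρ_X1 hv a iu (u1 ▸ ω0), mul_assoc, (h.X_com hv.1 iu b).eq,
    ← mul_assoc] at k1
  exact (mul_right_cancel k1).symm

theorem ρ_add {w w' : V} (a : B v w = 0) (b : B v w' = 0) :
    ρ B y ω v (w + w') = ρ B y ω v w * ρ B y ω v w' := by
  obtain ⟨⟨w1, w2⟩, a1, a2, rfl⟩ := h.ex_dec hv b
  rw [← add_assoc, h.ρ_X hv (by rw [map_add, a, a1.2, add_zero]) a2, h.ρ_X hv a a1, h.ρ_eq hv a1 a2,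
    mul_assoc]

theorem ρ_inj {w : V} (a : B v w = 0) (e : ρ B y ω v w = 1) : w = 0 := by
  have k : ∀ z, Io B v z → B z w = 0 := fun z b => by
    obtain ⟨⟨w1, w2⟩, a1, a2, rfl⟩ := h.ex_dec hv a
    have := cm_left (h.X_B1 hv.1 a1 b 1) (h.X_B1 hv.1 a2 b 1) (h.Xy hv.1 a1 _)
    rw [← h.ρ_eq hv a1 a2, e, commutatorElement_one_left, ← h.par.add v hv.1] at this
    rw [map_add, add_comm]
    simpa using h.par.inj v hv _ this.symm
  have : w ∈ perp B (perp B (E ∙ v)) := fun z hz => by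
    obtain ⟨⟨z1, z2⟩, b1, b2, rfl⟩ := h.ex_dec hv (mem_perp_span_singleton.1 hz)
    rw [add_left, k _ b1, k _ b2, add_zero]
  rw [h.c.herm.perp_perp] at this
  obtain ⟨c, rfl⟩ := Submodule.mem_span_singleton.1 this
  rw [h.ρ_iso hv (Io.smul ⟨hv.1, hv.1⟩ c), h.X_sh hv.1] at e
  rw [h.par.inj v hv c e, zero_smul]

theorem X_smul {w : V} (a : Io B v w) (c : E) : X σ y ω (c • v) w = X σ y ω v (σ c • w) := by
  have k : ∀ {w}, Io B v w → ∀ e, BB y w (c • v) e = BB y (σ c • w) v e := fun {w} a e => by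
    rw [← h.BB_comm (Io.smul ⟨hv.1, hv.1⟩ c).1 ⟨a.1, by rw [sm_left, a.2, mul_zero]⟩,
      h.ln.bmov v w hv.1 a.1 a.2, h.BB_comm hv.1 (a.smul _)]
  rw [X, X, k a, k (a.smul ω), smul_comm]

theorem X_swap {w : V} (a : Io B v w) :
    X σ y ω w v = BB y w v (σ ω) * BB y (σ ω • w) v 1 := by
  rw [X, h.BB_comm hv.1 a, h.ln.bmov v w hv.1 a.1 a.2, h.BB_comm hv.1 (a.smul _)]

omit hv in
theorem row : URow φ t y (ρ B y ω) where
  add _ hv _ _ := h.ρ_add hv
  inj _ hv _ := h.ρ_inj hv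
  iso u hv w a b ω' e := by
    rw [h.ρ_iso hv ⟨a, b⟩, ← h.X_indep hv.1 ⟨a, b⟩ e, X, h.BB_comm hv.1 ⟨a, b⟩,
      h.BB_comm hv.1 (Io.smul ⟨a, b⟩ _)]
  res u hv a := by rw [h.ρ_iso hv (Io.smul ⟨hv.1, hv.1⟩ a), h.X_sh hv.1]
  smul u hv w a c c0 := by
    obtain ⟨⟨w1, w2⟩, a1, a2, rfl⟩ := h.ex_dec hv a
    rw [h.ρ_eq (hv.smul c0) ⟨a1.1, by rw [sm_left, a1.2, mul_zero]⟩
      ⟨a2.1, by rw [sm_left, a2.2, mul_zero]⟩, smul_add, h.ρ_eq hv (a1.smul _) (a2.smul _),
      h.X_smul hv a1, h.X_smul hv a2]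
  eqv g u hv w a := by
    obtain ⟨⟨w1, w2⟩, a1, a2, rfl⟩ := h.ex_dec hv a
    rw [h.ρ_eq hv a1 a2, map_add, h.ρ_eq (hv.map g) ⟨by rw [iso_map, a1.1], by rw [iso_map, a1.2]⟩
      ⟨by rw [iso_map, a2.1], by rw [iso_map, a2.2]⟩, ← conj_mul, h.X_eqv g hv.1 a1,
      h.X_eqv g hv.1 a2]
  swap u w hv hw a := by
    have b : Io B u w := ⟨hw.1, a⟩
    have k : ∀ {w}, Io B u w → ∀ c, t * BB y w u c * t⁻¹ = BB y w u (σ c) := fun {w} a c => by
      rw [BB, BB, ← conj_mul, ← conj_mul, h.par.conj _ a.1, h.par.conj _ hv.1,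
        h.par.conj _ (h.c.iso_add a.1 hv.1 (h.c.flip a.2))]
    rw [h.ρ_iso hv b, h.ρ_iso hw ⟨hv.1, h.c.flip a⟩, h.X_swap hv b, X, ← conj_mul, k b,
      k (b.smul _), h.c.qf.sq, map_one, h.hω, h.BB_add hv.1 b, h.BB_adds hv.1 b, one_smul,
      mul4 (h.BB_com hv.1 b (b.smul ω) (by rw [sm_right, b.1, mul_zero]) _ _), h.BB_sq hv.1 b,
      mul_one]
  pair u w hv hw a := by
    have b : Io B u w := ⟨hw.1, a⟩
    rw [h.ρ_iso hv b, h.ρ_iso hw ⟨hv.1, h.c.flip a⟩, h.X_swap hv b, X,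
      mul4 (h.BB_com hv.1 (b.smul ω) b (by rw [sm_left, b.1, mul_zero]) _ _), h.BB_sq hv.1 b,
      one_mul, ← h.BB_adds hv.1 b, h.hω, ← add_assoc, h.c.qf.add_self, zero_add, one_smul,
      h.BB_comm hv.1 b]
  act u hv w x a x1 x2 c := by
    have b : Io B u x := ⟨x1, x2⟩
    rw [h.ρ_X hv a (b.smul _)]
    obtain ⟨⟨w1, w2⟩, a1, a2, rfl⟩ := h.ex_dec hv a
    rw [h.ρ_eq hv a1 a2, ← conj_mul, h.X_kl hv.1 a1 b, h.X_kl hv.1 a2 b,
      mul4 (h.X_com hv.1 (b.smul _) a2), ← h.X_adds hv.1 b, map_add, mul_add]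

end Hy

/-- **U-ROW** -/
theorem row : RowStmt.{u, v} := by
  intro F E V _ _ _ _ _ _ _ _ i σ B G _ _ φ L c _ _ t y _ _ par ln q kl
  obtain ⟨ω, hω⟩ := c.qf.tr
  exact ⟨_, Hy.row ⟨c, par, ln, q, kl, hω⟩⟩

end Cfsg.Agent.H54V.H3.URw
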