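import Cfsg.Agent.H56.ZCDefs

/-! Primitive groups with a doubly transitive subconstituent: the product configurations. -/

set_option autoImplicit false

namespace Cfsg.Agent.H3.ZcHam

open Subgroup MulAction Cfsg.Agent.H56.FS Cfsg.Agent.H56.ZC

universe u v

theorem ham : HamStmt.{u, v} := by
  intro G Ω _ _ _ _ α β hP N hN hne m M MN Mn Mne Mh hsup hlast
  have := hP.fa
  have := hP.prim
  have := hN.1
  have : Nontrivial Ω := ⟨β, α, hP.ne⟩
  have co : IsCoatom (stabilizer G α) := IsPreprimitive.isCoatom_stabilizer_of_isPreprimitive G α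
  have top : ∀ K L : Subgroup G, stabilizer G α ≤ K → L ≤ K → ¬ L ≤ stabilizer G α → K = ⊤ :=
    fun K L h1 h2 h3 => co.2 K (lt_of_le_of_ne h1 fun e => h3 (e ▸ h2))
  have trN : IsPretransitive N Ω := IsQuasiPreprimitive.isPretransitive_of_normal fun e => hN.2.1 (by
    rw [eq_bot_iff]
    intro n hn
    refine mem_bot.2 (FaithfulSMul.eq_of_smul_eq_smul (α := Ω) fun x => ?_)
    rw [one_smul]
    exact (e ▸ Set.mem_univ x : x ∈ fixedPoints N Ω) ⟨n, hn⟩)
  obtain ⟨⟨n1, hn1⟩, e1⟩ := exists_smul_eq N α β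
  change n1 • α = β at e1
  have NH : ¬ N ≤ stabilizer G α := fun h => hP.ne (e1.symm.trans (h hn1))
  have cj1 : ∀ g : G, n1⁻¹ * g * n1 ∈ stabilizer G α ↔ g • β = β := fun g => by
    rw [mem_stabilizer_iff, mul_smul, mul_smul, e1, inv_smul_eq_iff, e1]
  have crd : ∀ K : Subgroup G, K.Normal →
      Nat.card ↥(K ⊓ stabilizer G β) ≤ Nat.card ↥(K ⊓ stabilizer G α) := fun K hK =>
    Nat.card_le_card_of_injective (fun g => ⟨n1⁻¹ * g * n1, hK.conj_mem' _ g.2.1 n1,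
      (cj1 g).2 g.2.2⟩) fun a b h => Subtype.ext (by simpa using congrArg Subtype.val h)
  have crd' : Nat.card (stabilizer G α) ≤ Nat.card (stabilizer G β) :=
    Nat.card_le_card_of_injective (fun g => ⟨n1 * g * n1⁻¹, (cj1 _).1 (by simp [mul_assoc])⟩)
      fun a b h => Subtype.ext (by simpa using congrArg Subtype.val h)
  have HB : ¬ stabilizer G β ≤ stabilizer G α := fun h => by
    have e := eq_of_le_of_card_ge h crd'
    have h2 := hP.two
    have : Subsingleton (orbit (stabilizer G α) β) := ⟨by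
      rintro ⟨_, g, rfl⟩ ⟨_, g', rfl⟩
      have a : (g : G) • β = β := e.ge g.2
      have b : (g' : G) • β = β := e.ge g'.2
      exact Subtype.ext (a.trans b.symm)⟩
    have := Finite.card_le_one_iff_subsingleton.2 this
    omega
  have nm : ∀ γ : Ω, stabilizer G γ ≤ normalizer ((N ⊓ stabilizer G γ : Subgroup G) : Set G) :=
    fun γ g hg => mem_normalizer_fintype fun x hx =>
      ⟨hN.1.conj_mem _ hx.1 g, (stabilizer G γ).mul_mem (mul_mem hg hx.2) (inv_mem hg)⟩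
  have mv : ¬ N ⊓ stabilizer G α ≤ stabilizer G β := fun h => by
    have e : N ⊓ stabilizer G α = N ⊓ stabilizer G β :=
      eq_of_le_of_card_ge (le_inf inf_le_left h) (crd N hN.1)
    have h1 := top _ _ (nm α) (e ▸ nm β) HB
    rcases hN.2.2 _ (normalizer_eq_top_iff.1 h1) inf_le_left with e | e
    · exact hne e
    · exact NH (e ▸ inf_le_right)
  have tr : ∀ g ∈ stabilizer G α, ∀ g' ∈ stabilizer G α, g • β ≠ β → g' • β ≠ β →
      ∃ h ∈ stabilizer G α, h • β = β ∧ h • g • β = g' • β := fun g hg g' hg' a b => by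
    have t2 := hP.tr2
    rw [is_two_pretransitive_iff] at t2
    obtain ⟨h, h1, h2⟩ := @t2 ⟨β, mem_orbit_self β⟩
      ⟨g • β, ⟨g, hg⟩, rfl⟩ ⟨β, mem_orbit_self β⟩ ⟨g' • β, ⟨g', hg'⟩, rfl⟩
      (fun e => a (congrArg Subtype.val e).symm) fun e => b (congrArg Subtype.val e).symm
    exact ⟨h, h.2, congrArg Subtype.val h1, congrArg Subtype.val h2⟩
  obtain ⟨i, x, xM, xH, xb⟩ : ∃ i, ∃ x ∈ M i, x ∈ stabilizer G α ∧ x • β ≠ β := by
    by_contra h
    push Not at h
    exact mv (hsup.trans (iSup_le fun i x hx => h i x hx.1 hx.2))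
  obtain ⟨h, hH, hh⟩ : ∃ h ∈ stabilizer G α, cj h (M i) ≠ M i := by
    by_contra h
    push Not at h
    have h1 := top (normalizer (M i : Set G)) N (fun g hg => cj_eq_iff.1 (h g hg)) (Mn i) NH
    rcases hN.2.2 _ (normalizer_eq_top_iff.1 h1) (MN i) with e | e
    · rw [e, mem_bot] at xM
      exact xb (by rw [xM, one_smul])
    · exact Mne i e
  obtain ⟨j, hj⟩ := Mh h hH i
  have cM : ∀ k, ∀ n ∈ N, ∀ z ∈ M k, n⁻¹ * z * n ∈ M k := fun k n hn z hz => by
    simpa using (mem_normalizer_iff.1 (Mn k (inv_mem hn)) z).1 hz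
  obtain ⟨y, yM, yH, yb⟩ : ∃ y ∈ M j, y ∈ stabilizer G α ∧ y • β ≠ β := by
    obtain ⟨n, nN, nH, e⟩ : ∃ n ∈ N, n ∈ stabilizer G α ∧ n • β = h • β := by
      by_cases c : h • β = β
      · exact ⟨1, one_mem _, one_mem _, by rw [c, one_smul]⟩
      · obtain ⟨k, kH, k1, k2⟩ := tr x xH h hH xb c
        refine ⟨k * x * k⁻¹, hN.1.conj_mem _ (MN i xM) k, mul_mem (mul_mem kH xH) (inv_mem kH), ?_⟩
        rw [mul_smul, mul_smul, inv_smul_eq_iff.2 k1.symm, k2]
    refine ⟨n⁻¹ * (h * x * h⁻¹) * n, cM j n nN _ (hj ▸ conj_mem_cj xM),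
      mul_mem (mul_mem (inv_mem nH) (mul_mem (mul_mem hH xH) (inv_mem hH))) nH, fun c => xb ?_⟩
    rw [mul_smul, mul_smul, e, inv_smul_eq_iff, e, mul_smul, inv_smul_smul, mul_smul] at c
    exact MulAction.injective h c
  have last : ∀ k, ∀ w ∈ M k, (w⁻¹ * (x * y)) • β ≠ β := fun k w hw c => by
    rcases hlast i j k (hj ▸ hh.symm) _ (cM i n1 hn1 x xM) _ (cM j n1 hn1 y yM) _ (cM k n1 hn1 w hw)
      (by
        rw [show (n1⁻¹ * w * n1)⁻¹ * (n1⁻¹ * x * n1 * (n1⁻¹ * y * n1)) =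
          n1⁻¹ * (w⁻¹ * (x * y)) * n1 by group]
        exact (cj1 _).2 c) with e | e
    · exact xb ((cj1 x).1 e)
    · exact yb ((cj1 y).1 e)
  obtain ⟨k, kH, k1, k2⟩ := tr x xH (x * y) (mul_mem xH yH) xb (by simpa using last i 1 (one_mem _))
  obtain ⟨l, hl⟩ := Mh k kH i
  refine last l (k * x * k⁻¹) (hl ▸ conj_mem_cj xM) ?_
  rw [mul_smul, inv_smul_eq_iff, ← k2, mul_smul, mul_smul, inv_smul_eq_iff.2 k1.symm]

end Cfsg.Agent.H3.ZcHam
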